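import Mathlib
import Cfsg.Agent.H207.TriComp

/-!
# Absolute vectors of twisted symmetric compositions over finite fields (helper208)

* `exists_abs` : Chevalley-Warning.
-/

set_option autoImplicit false

namespace Cfsg.Agent.H208.TriAbs

open Module QuadraticMap Cfsg.Agent.H207.TriComp MvPolynomial

/-! ### Polynomial functions -/

section Poly

variable {ι K : Type*} [Field K]

/-- `f` is given by a polynomial of total degree at most `d`. -/
def PF (d : ℕ) (f : (ι → K) → K) : Prop := ∃ p : MvPolynomial ι K, p.totalDegree ≤ d ∧ ∀ x, eval x p = f x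

theorem PF.const (d : ℕ) (a : K) : PF (ι := ι) d fun _ => a :=
  ⟨C a, by rw [totalDegree_C]; exact Nat.zero_le _, fun x => by rw [eval_C]⟩

theorem PF.coord (i : ι) : PF (K := K) 1 fun x => x i :=
  ⟨X i, by rw [totalDegree_X], fun x => by rw [eval_X]⟩

theorem PF.add {d : ℕ} {f g : (ι → K) → K} (hf : PF d f) (hg : PF d g) : PF d fun x => f x + g x := by
  obtain ⟨p, hp, hp'⟩ := hf
  obtain ⟨q, hq, hq'⟩ := hg
  exact ⟨p + q, (totalDegree_add p q).trans (max_le hp hq), fun x => by rw [map_add, hp', hq']⟩

theorem PF.mul {d e : ℕ} {f g : (ι → K) → K} (hf : PF d f) (hg : PF e g) : PF (d + e) fun x => f x * g x := by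
  obtain ⟨p, hp, hp'⟩ := hf
  obtain ⟨q, hq, hq'⟩ := hg
  exact ⟨p * q, (totalDegree_mul p q).trans (add_le_add hp hq), fun x => by rw [map_mul, hp', hq']⟩

theorem PF.smul {d : ℕ} {f : (ι → K) → K} (a : K) (hf : PF d f) : PF d fun x => a * f x := by
  have := (PF.const (ι := ι) 0 a).mul hf
  rwa [Nat.zero_add] at this

theorem PF.sum {α : Type*} {d : ℕ} {f : α → (ι → K) → K} (s : Finset α) (hf : ∀ a ∈ s, PF d (f a)) :
    PF d fun x => ∑ a ∈ s, f a x := by
  classical
  induction s using Finset.induction_on with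
  | empty => simpa using PF.const (ι := ι) d (0 : K)
  | insert a s ha ih =>
    simp only [Finset.sum_insert ha]
    exact (hf a (Finset.mem_insert_self _ _)).add (ih fun b hb => hf b (Finset.mem_insert_of_mem hb))

/-- **Chevalley-Warning** for polynomial functions. -/
theorem exists_zero [Finite K] [Fintype ι] {κ : Type*} [Fintype κ] {f : κ → (ι → K) → K} {d : κ → ℕ}
    (hf : ∀ k, PF (d k) (f k)) (hd : ∑ k, d k < Fintype.card ι) (h0 : ∀ k, f k 0 = 0) :
    ∃ x : ι → K, x ≠ 0 ∧ ∀ k, f k x = 0 := by
  classical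
  have := Fintype.ofFinite K
  choose p hp hp' using hf
  obtain ⟨r, hr⟩ := CharP.exists K
  have hr0 : r.Prime := CharP.char_is_prime K r
  have h1 : ∑ k, (p k).totalDegree < Fintype.card ι := (Finset.sum_le_sum fun k _ => hp k).trans_lt hd
  have h2 := char_dvd_card_solutions_of_fintype_sum_lt r h1
  have h3 : 0 < Fintype.card {x : ι → K // ∀ k, eval x (p k) = 0} :=
    Fintype.card_pos_iff.2 ⟨⟨0, fun k => by rw [hp', h0]⟩⟩
  have h4 : 1 < Fintype.card {x : ι → K // ∀ k, eval x (p k) = 0} := hr0.one_lt.trans_le (Nat.le_of_dvd h3 h2)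
  obtain ⟨⟨x, hx⟩, hne⟩ := Fintype.exists_ne_of_one_lt_card h4 ⟨0, fun k => by rw [hp', h0]⟩
  exact ⟨x, fun h => hne (Subtype.ext h), fun k => by rw [← hp', hx]⟩

theorem lin_sum {V : Type*} [AddCommGroup V] [Module K V] [Fintype ι] {f : V → K}
    (hadd : ∀ u v, f (u + v) = f u + f v) (hsm : ∀ (c : K) v, f (c • v) = c * f v) (x : ι → K) (b : ι → V) :
    f (∑ i, x i • b i) = ∑ i, x i * f (b i) := by
  let g : V →ₗ[K] K := { toFun := f, map_add' := hadd, map_smul' := hsm }
  change g (∑ i, x i • b i) = ∑ i, x i * g (b i)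
  rw [map_sum]
  exact Finset.sum_congr rfl fun i _ => by rw [map_smul, smul_eq_mul]

/-- A cubic form. -/
theorem PF.cubic {V : Type*} [AddCommGroup V] [Module K V] [Fintype ι] {T : V → V → V → K}
    (h1 : ∀ v w, (∀ u u', T (u + u') v w = T u v w + T u' v w) ∧ ∀ (c : K) u, T (c • u) v w = c * T u v w)
    (h2 : ∀ u w, (∀ v v', T u (v + v') w = T u v w + T u v' w) ∧ ∀ (c : K) v, T u (c • v) w = c * T u v w)
    (h3 : ∀ u v, (∀ w w', T u v (w + w') = T u v w + T u v w') ∧ ∀ (c : K) w, T u v (c • w) = c * T u v w)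
    (b : ι → V) : PF 3 fun x : ι → K => T (∑ i, x i • b i) (∑ i, x i • b i) (∑ i, x i • b i) := by
  have h : ∀ x : ι → K, T (∑ i, x i • b i) (∑ i, x i • b i) (∑ i, x i • b i) =
      ∑ i, x i * ∑ j, x j * ∑ k, x k * T (b i) (b j) (b k) := by
    intro x
    rw [lin_sum (f := fun u => T u (∑ i, x i • b i) (∑ i, x i • b i)) (h1 _ _).1 (h1 _ _).2]
    refine Finset.sum_congr rfl fun i _ => ?_
    congr 1
    rw [lin_sum (f := fun v => T (b i) v (∑ i, x i • b i)) (h2 _ _).1 (h2 _ _).2]
    refine Finset.sum_congr rfl fun j _ => ?_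
    congr 1
    rw [lin_sum (f := fun w => T (b i) (b j) w) (h3 _ _).1 (h3 _ _).2]
  simp only [h]
  exact PF.sum _ fun i _ => ((PF.coord i).mul (e := 2) (PF.sum _ fun j _ => (PF.coord j).mul (e := 1)
    (PF.sum _ fun k _ => (PF.coord k).mul (e := 0) (PF.const 0 _))))

/-- A quadratic form. -/
theorem PF.quad {V : Type*} [AddCommGroup V] [Module K V] [Fintype ι] {q : V → K} {B : V → V → K}
    (h0 : q 0 = 0) (hq : ∀ u v, q (u + v) = q u + q v + B u v) (hqs : ∀ (c : K) v, q (c • v) = c * (c * q v))
    (h1 : ∀ v, (∀ u u', B (u + u') v = B u v + B u' v) ∧ ∀ (c : K) u, B (c • u) v = c * B u v)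
    (h2 : ∀ u, (∀ v v', B u (v + v') = B u v + B u v') ∧ ∀ (c : K) v, B u (c • v) = c * B u v)
    (b : ι → V) : PF 2 fun x : ι → K => q (∑ i, x i • b i) := by
  classical
  have key : ∀ s : Finset ι, PF 2 fun x : ι → K => q (∑ i ∈ s, x i • b i) := by
    intro s
    induction s using Finset.induction_on with
    | empty => simpa [h0] using PF.const (ι := ι) 2 (0 : K)
    | insert a s ha ih =>
      have h : ∀ x : ι → K, q (∑ i ∈ insert a s, x i • b i) =
          x a * (x a * q (b a)) + q (∑ i ∈ s, x i • b i) + x a * ∑ j ∈ s, x j * B (b a) (b j) := by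
        intro x
        rw [Finset.sum_insert ha, hq, hqs, (h1 _).2]
        congr 2
        let g : V →ₗ[K] K := { toFun := B (b a), map_add' := (h2 _).1, map_smul' := (h2 _).2 }
        change g (∑ i ∈ s, x i • b i) = ∑ j ∈ s, x j * g (b j)
        rw [map_sum]
        exact Finset.sum_congr rfl fun i _ => by rw [map_smul, smul_eq_mul]
      simp only [h]
      refine PF.add (PF.add ?_ ih) ?_
      · exact (PF.coord a).mul (e := 1) ((PF.coord a).mul (e := 0) (PF.const 0 _))
      · exact (PF.coord a).mul (e := 1) (PF.sum _ fun j _ => (PF.coord j).mul (e := 0) (PF.const 0 _))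
  exact key Finset.univ

end Poly

section Main

variable {F V : Type*} [Field F] [AddCommGroup V] [Module F V] {Q : QuadraticForm F V} {s : F ≃+* F}
  {st : V → V → V}

/-- The fixed field of `s`. -/
def fx (s : F ≃+* F) : Subfield F := (s : F →+* F).eqLocusField (RingHom.id F)

theorem mem_fx {a : F} : a ∈ fx s ↔ s a = a := Iff.rfl

theorem exists_abs [Finite F] (h : SC Q s st) (hV : 8 ≤ finrank F V) : ∃ u, Abs Q st u := by
  classical
  have hfin : FiniteDimensional F V := FiniteDimensional.of_finrank_pos (by omega)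
  set K := fx s with hK
  have hKF : FiniteDimensional K F := inferInstance
  have hKV : FiniteDimensional K V := FiniteDimensional.trans K F V
  set n := finrank K F with hn
  have hn0 : 0 < n := finrank_pos
  have hdim : finrank K V = n * finrank F V := (finrank_mul_finrank K F V).symm
  let b := finBasis K V
  let β := finBasis K F
  have hs1 : ∀ (c : K) (u v : V), st (c • u) v = c • st u v := by
    intro c u v
    change st ((c : F) • u) v = (c : F) • st u v
    rw [h.smul_left, mem_fx.1 c.2]
  have hs2 : ∀ (c : K) (u v : V), st u (c • v) = c • st u v := by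
    intro c u v
    change st u ((c : F) • v) = (c : F) • st u v
    rw [h.smul_right, mem_fx.1 c.2, mem_fx.1 c.2]
  have hp1 : ∀ (c : K) (u v : V), polar Q (c • u) v = c • polar Q u v := fun c u v => polar_smul_left Q (c : F) u v
  have hp2 : ∀ (c : K) (u v : V), polar Q u (c • v) = c • polar Q u v := fun c u v => polar_smul_right Q (c : F) u v
  obtain ⟨k0, hk0⟩ : ∃ k, β.coord k 1 ≠ 0 := by
    by_contra hcon
    push Not at hcon
    have h1 : (1 : F) = 0 := β.ext_elem fun k => by
      have := hcon k
      rw [Basis.coord_apply] at this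
      rw [this, map_zero]
      rfl
    exact one_ne_zero h1
  let f : Option (Fin n) → (Fin (finrank K V) → K) → K := fun o x =>
    o.elim (β.coord k0 (polar Q (∑ i, x i • b i) (st (∑ i, x i • b i) (∑ i, x i • b i))))
      fun k => β.coord k (Q (∑ i, x i • b i))
  let d : Option (Fin n) → ℕ := fun o => o.elim 3 fun _ => 2
  obtain ⟨x, hx0, hx⟩ := exists_zero (f := f) (d := d) (by
    rintro (_ | k)
    · change PF 3 fun x : Fin (finrank K V) → K =>
        β.coord k0 (polar Q (∑ i, x i • b i) (st (∑ i, x i • b i) (∑ i, x i • b i)))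
      refine PF.cubic (T := fun u v w => β.coord k0 (polar Q u (st v w))) (fun v w => ⟨fun u u' => ?_, fun c u => ?_⟩)
        (fun v w => ⟨fun u u' => ?_, fun c u => ?_⟩) (fun v w => ⟨fun u u' => ?_, fun c u => ?_⟩) b
      · rw [polar_add_left, map_add]
      · rw [hp1, map_smul, smul_eq_mul]
      · rw [h.add_left, polar_add_right, map_add]
      · rw [hs1, hp2, map_smul, smul_eq_mul]
      · rw [h.add_right, polar_add_right, map_add]
      · rw [hs2, hp2, map_smul, smul_eq_mul]
    · change PF 2 fun x : Fin (finrank K V) → K => β.coord k (Q (∑ i, x i • b i))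
      refine PF.quad (q := fun v => β.coord k (Q v)) (B := fun u v => β.coord k (polar Q u v)) ?_ (fun u v => ?_)
        (fun c v => ?_) (fun v => ⟨fun u u' => ?_, fun c u => ?_⟩) (fun v => ⟨fun u u' => ?_, fun c u => ?_⟩) b
      · rw [QuadraticMap.map_zero, map_zero]
      · rw [← map_add, ← map_add]
        congr 1
        unfold polar
        ring
      · have e : Q (c • v) = c • c • Q v := by
          change Q ((c : F) • v) = (c : F) * ((c : F) * Q v)
          rw [QuadraticMap.map_smul, smul_eq_mul, mul_assoc]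
        rw [e, map_smul, map_smul, smul_eq_mul, smul_eq_mul]
      · rw [polar_add_left, map_add]
      · rw [hp1, map_smul, smul_eq_mul]
      · rw [polar_add_right, map_add]
      · rw [hp2, map_smul, smul_eq_mul]) (by
    rw [Fintype.sum_option]
    change 3 + ∑ _k : Fin n, 2 < _
    rw [Finset.sum_const, Finset.card_univ, Fintype.card_fin, Fintype.card_fin, hdim, smul_eq_mul]
    nlinarith) (by
    rintro (_ | k)
    · change β.coord k0 (polar Q (∑ i, (0 : K) • b i) (st (∑ i, (0 : K) • b i) (∑ i, (0 : K) • b i))) = 0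
      simp only [zero_smul, Finset.sum_const_zero, polar_zero_left, map_zero]
    · change β.coord k (Q (∑ i, (0 : K) • b i)) = 0
      simp only [zero_smul, Finset.sum_const_zero, map_zero])
  set z : V := ∑ i, x i • b i with hz
  have hz0 : z ≠ 0 := by
    intro h0
    apply hx0
    funext i
    exact Fintype.linearIndependent_iff.1 b.linearIndependent x h0 i
  have hQz : Q z = 0 := β.ext_elem fun k => by
    have h1 := hx (some k)
    change β.coord k (Q z) = 0 at h1
    rw [Basis.coord_apply] at h1
    rw [h1, map_zero]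
    rfl
  have hg : polar Q z (st z z) = 0 := by
    have h1 := hx none
    change β.coord k0 (polar Q z (st z z)) = 0 at h1
    have h2 : s (polar Q z (st z z)) = polar Q z (st z z) := by
      rw [← h.assoc, polar_comm]
    have h3 : polar Q z (st z z) = (⟨polar Q z (st z z), h2⟩ : K) • (1 : F) := (mul_one _).symm
    rw [h3, map_smul, smul_eq_mul] at h1
    exact congrArg Subtype.val ((mul_eq_zero.1 h1).resolve_right hk0)
  by_cases hzz : st z z = 0
  · exact ⟨z, hz0, hQz, hzz⟩
  · refine ⟨st z z, hzz, ?_, ?_⟩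
    · rw [h.norm, hQz, map_zero, zero_mul]
    · have h1 := h.left' z z (st z z)
      rw [h.left, hQz, hg, map_zero, map_zero, zero_smul, h.zero_left, add_zero] at h1
      exact h1

end Main

end Cfsg.Agent.H208.TriAbs
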