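import Mathlib
import Cfsg.Agent.ClassicalGeometry.OrthSemi
import Cfsg.Agent.ClassicalGeometry.TwoFamilies
import Cfsg.Prelude.Def_LieTypeDatum

/-!
# The two families of maximal totally singular subspaces and semisimilitudes (helper208)

`Q` a nondegenerate quadratic form (any characteristic) on `V` of dimension `2 m`, with a totally singular subspace of
dimension `m`.

* `Ev m M` : the semisimilitude `M` preserves each of the two classes (`Even (m + dim (U ⊓ M U))` for all totally
  singular `U` of dimension `m`);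
* `ev_of_one`, `ev_mul`, `ev_scal`, `not_ev_refl`;
* `isMax_iff` : the maximal totally singular subspaces are the totally singular subspaces of dimension `m`;
* `preserves_iff` : `PreservesSingularClasses` for matrices.
-/

set_option autoImplicit false

namespace Cfsg.Agent.H208.Parity

open QuadraticMap Module Cfsg.Agent.LieClassical.OrthCore Cfsg.Agent.ClassicalGeometry.OrthSemi

section Img

variable {F V : Type*} [Field F] [AddCommGroup V] [Module F V] {Q : QuadraticForm F V}

/-- The image of a subspace under a semisimilitude. -/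
def img (M : Gam Q) (U : Submodule F V) : Submodule F V where
  carrier := {v | M.1⁻¹ v ∈ U}
  add_mem' := by
    intro a b ha hb
    obtain ⟨σ, c, hM⟩ := M.2
    show M.1⁻¹ (a + b) ∈ U
    rw [hM.inv.add]
    exact U.add_mem ha hb
  zero_mem' := by
    obtain ⟨σ, c, hM⟩ := M.2
    show M.1⁻¹ 0 ∈ U
    rw [hM.inv.map_zero]
    exact U.zero_mem
  smul_mem' := by
    intro a v hv
    obtain ⟨σ, c, hM⟩ := M.2
    show M.1⁻¹ (a • v) ∈ U
    rw [hM.inv.smul]
    exact U.smul_mem _ hv

theorem mem_img {M : Gam Q} {U : Submodule F V} {v : V} : v ∈ img M U ↔ M.1⁻¹ v ∈ U := Iff.rfl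

theorem apply_mem_img {M : Gam Q} {U : Submodule F V} {v : V} : M.1 v ∈ img M U ↔ v ∈ U := by
  rw [mem_img, inv_apply]

theorem img_mul (M N : Gam Q) (U : Submodule F V) : img (M * N) U = img M (img N U) := by
  ext v
  rw [mem_img, mem_img, mem_img]
  change (M.1 * N.1)⁻¹ v ∈ U ↔ _
  rw [mul_inv_rev]
  rfl

theorem img_one (U : Submodule F V) : img (1 : Gam Q) U = U := by
  ext v
  rw [mem_img]
  rfl

theorem img_inf (M : Gam Q) (U W : Submodule F V) : img M (U ⊓ W) = img M U ⊓ img M W := rfl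

theorem finrank_img (M : Gam Q) (U : Submodule F V) : finrank F (img M U) = finrank F U := by
  obtain ⟨σ, c, hM⟩ := M.2
  let j : U ≃+ img M U :=
    { toFun := fun u => ⟨M.1 u, apply_mem_img.2 u.2⟩
      invFun := fun v => ⟨M.1⁻¹ v, v.2⟩
      left_inv := fun u => Subtype.ext (inv_apply M.1 u)
      right_inv := fun v => Subtype.ext (apply_inv M.1 v)
      map_add' := fun u v => Subtype.ext (hM.add u v) }
  have h := rank_eq_of_equiv_equiv (R := F) (R' := F) (M := U) (M₁ := img M U) σ j σ.bijective (fun r m => by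
    apply Subtype.ext
    exact hM.smul r m)
  exact (congrArg Cardinal.toNat h).symm

end Img

section Main

variable {F V : Type*} [Field F] [AddCommGroup V] [Module F V] {Q : QuadraticForm F V}

/-- totally singular of dimension `m` -/
def TSm (Q : QuadraticForm F V) (m : ℕ) (U : Submodule F V) : Prop := finrank F U = m ∧ ∀ u ∈ U, Q u = 0

theorem TSm.img {m : ℕ} {U : Submodule F V} (h : TSm Q m U) (M : Gam Q) : TSm Q m (img M U) := by
  refine ⟨(finrank_img M U).trans h.1, fun v hv => ?_⟩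
  obtain ⟨σ, c, hM⟩ := M.2
  rw [← apply_inv M.1 v, hM.form, h.2 _ (mem_img.1 hv), map_zero, mul_zero]

theorem polar_eq_zero {U : Submodule F V} (h : ∀ u ∈ U, Q u = 0) {u v : V} (hu : u ∈ U) (hv : v ∈ U) :
    polar Q u v = 0 := by
  rw [polar, h _ (U.add_mem hu hv), h _ hu, h _ hv]
  simp

variable [FiniteDimensional F V]

omit [FiniteDimensional F V] in
theorem isRefl : (polarBilin Q).IsRefl := fun x y h => by
  rw [polarBilin_apply_apply] at h ⊢
  rwa [polar_comm]

omit [FiniteDimensional F V] in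
theorem nondegenerate (hQ : Nondeg Q) : (polarBilin Q).Nondegenerate := by
  refine ⟨fun x hx => hQ x hx, fun y hy => hQ y fun x => ?_⟩
  rw [polar_comm]
  exact hy x

theorem tri (hQ : Nondeg Q) {m : ℕ} (hV : finrank F V = 2 * m) {U W X : Submodule F V} (hU : TSm Q m U)
    (hW : TSm Q m W) (hX : TSm Q m X) :
    Even (m + finrank F ↥(U ⊓ W)) ↔ (Even (m + finrank F ↥(W ⊓ X)) ↔ Even (m + finrank F ↥(U ⊓ X))) := by
  have h := ClassicalGeometry.TwoFamilies.even_intersections (polarBilin Q) Q (fun u w => Q_add u w)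
    (nondegenerate hQ) isRefl m hV U W X hU.1 hW.1 hX.1 hU.2 hW.2 hX.2
  simp only [Nat.even_iff] at h ⊢
  omega

/-- The semisimilitude `M` preserves the classes. -/
def Ev (m : ℕ) (M : Gam Q) : Prop := ∀ U, TSm Q m U → Even (m + finrank F ↥(U ⊓ img M U))

theorem ev_of_one (hQ : Nondeg Q) {m : ℕ} (hV : finrank F V = 2 * m) {M : Gam Q} {U : Submodule F V}
    (hU : TSm Q m U) (h : Even (m + finrank F ↥(U ⊓ img M U))) : Ev m M := by
  intro W hW
  have h1 := tri hQ hV hW hU (hU.img M)
  have h2 := tri hQ hV hW (hU.img M) (hW.img M)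
  have h3 : finrank F ↥(img M U ⊓ img M W) = finrank F ↥(U ⊓ W) := by
    rw [← img_inf, finrank_img]
  have h4 : finrank F ↥(W ⊓ U) = finrank F ↥(U ⊓ W) := by rw [inf_comm]
  rw [h3] at h2
  rw [h4] at h1
  tauto

theorem ev_iff (hQ : Nondeg Q) {m : ℕ} (hV : finrank F V = 2 * m) {M : Gam Q} {U : Submodule F V}
    (hU : TSm Q m U) : Ev m M ↔ Even (m + finrank F ↥(U ⊓ img M U)) :=
  ⟨fun h => h U hU, ev_of_one hQ hV hU⟩

theorem ev_mul (hQ : Nondeg Q) {m : ℕ} (hV : finrank F V = 2 * m) (hT : ∃ U, TSm Q m U) (M N : Gam Q) :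
    Ev m (M * N) ↔ (Ev m M ↔ Ev m N) := by
  obtain ⟨U, hU⟩ := hT
  rw [ev_iff hQ hV hU, ev_iff hQ hV hU, ev_iff hQ hV hU, img_mul]
  have h1 := tri hQ hV hU (hU.img M) ((hU.img N).img M)
  have h3 : finrank F ↥(img M U ⊓ img M (img N U)) = finrank F ↥(U ⊓ img N U) := by
    rw [← img_inf, finrank_img]
  rw [h3] at h1
  tauto

omit [FiniteDimensional F V] in
theorem ev_of_img_eq {m : ℕ} {M : Gam Q} (h : ∀ U, TSm Q m U → img M U = U) : Ev m M := by
  intro U hU
  rw [h U hU, inf_idem, hU.1]
  exact ⟨m, rfl⟩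

omit [FiniteDimensional F V] in
theorem ev_one {m : ℕ} : Ev m (1 : Gam Q) := ev_of_img_eq fun U _ => img_one U

omit [FiniteDimensional F V] in
theorem ev_scal {m : ℕ} (a : Fˣ) : Ev m (scal Q a) := by
  refine ev_of_img_eq fun U _ => ?_
  ext v
  rw [mem_img]
  have h : (scal Q a).1⁻¹ v = ((a⁻¹ : Fˣ) : F) • v := by
    rw [Equiv.Perm.inv_eq_iff_eq, scal_apply, smul_smul, ← Units.val_mul, mul_inv_cancel, Units.val_one, one_smul]
  rw [h]
  constructor
  · intro h1
    have := U.smul_mem (a : F) h1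
    rwa [smul_smul, ← Units.val_mul, mul_inv_cancel, Units.val_one, one_smul] at this
  · exact fun h1 => U.smul_mem _ h1

theorem ev_inv (hQ : Nondeg Q) {m : ℕ} (hV : finrank F V = 2 * m) (hT : ∃ U, TSm Q m U) (M : Gam Q) :
    Ev m M⁻¹ ↔ Ev m M := by
  have h := ev_mul hQ hV hT M M⁻¹
  rw [mul_inv_cancel] at h
  have h0 := h.1 ev_one
  exact ⟨fun h1 => h0.2 h1, fun h1 => h0.1 h1⟩

/-- Semisimilitudes given by isometries. -/
def ofO (g : V ≃ₗ[F] V) (hg : g ∈ O Q) : Gam Q :=
  ⟨g.toEquiv, RingEquiv.refl F, 1, one_ne_zero, fun u v => map_add g u v, fun a v => map_smul g a v, fun v => by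
    rw [one_mul]; exact hg v⟩

omit [FiniteDimensional F V] in
theorem ofO_apply (g : V ≃ₗ[F] V) (hg : g ∈ O Q) (v : V) : (ofO g hg).1 v = g v := rfl

/-- Reflections interchange the classes. -/
theorem not_ev_refl (hQ : Nondeg Q) {m : ℕ} (hV : finrank F V = 2 * m) (hT : ∃ U, TSm Q m U) {v : V} (hv : Q v ≠ 0) :
    ¬ Ev m (ofO (refl Q v hv) (refl_mem_O hv)) := by
  obtain ⟨U, hU⟩ := hT
  rw [ev_iff hQ hV hU]
  set R := ofO (refl Q v hv) (refl_mem_O hv) with hR
  -- the intersection is the kernel of `polar v` on `U`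
  let f : U →ₗ[F] F := (polarBilin Q v).domRestrict U
  have hf : ∀ u : U, f u = polar Q v u := fun u => rfl
  have hvU : v ∉ U := fun h => hv (hU.2 v h)
  have hker : U ⊓ img R U = (LinearMap.ker f).map U.subtype := by
    ext x
    rw [Submodule.mem_inf, Submodule.mem_map]
    constructor
    · rintro ⟨hx, hx'⟩
      refine ⟨⟨x, hx⟩, ?_, rfl⟩
      rw [LinearMap.mem_ker, hf]
      by_contra hne
      apply hvU
      have h1 : R.1⁻¹ x = x - ((Q v)⁻¹ * polar Q v x) • v := by
        rw [Equiv.Perm.inv_eq_iff_eq]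
        change x = refl Q v hv _
        rw [← refl_apply hv x]
        have := LinearEquiv.congr_fun (refl_mul_self hv) x
        exact this.symm
      rw [mem_img, h1] at hx'
      have h2 := U.sub_mem hx hx'
      rw [sub_sub_cancel] at h2
      have h3 := U.smul_mem ((Q v)⁻¹ * polar Q v x)⁻¹ h2
      rwa [smul_smul, inv_mul_cancel₀ (mul_ne_zero (inv_ne_zero hv) hne), one_smul] at h3
    · rintro ⟨⟨u, hu⟩, hu', rfl⟩
      rw [LinearMap.mem_ker, hf] at hu'
      refine ⟨hu, ?_⟩
      change u ∈ img R U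
      have h1 : R.1 u = u := by
        change refl Q v hv u = u
        rw [refl_apply]
        change polar Q v u = 0 at hu'
        rw [hu', mul_zero, zero_smul, sub_zero]
      rw [← h1, apply_mem_img]
      exact hu
  have hsurj : LinearMap.range f = ⊤ := by
    rw [LinearMap.range_eq_top]
    have hne : ∃ u : U, f u ≠ 0 := by
      by_contra hcon
      push Not at hcon
      apply hvU
      -- `v ∈ U^⊥ = U`
      have hself : LinearMap.BilinForm.orthogonal (polarBilin Q) U = U := by
        symm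
        apply Submodule.eq_of_le_of_finrank_eq
        · intro y hy z hz
          exact polar_eq_zero hU.2 hz hy
        · rw [LinearMap.BilinForm.finrank_orthogonal (nondegenerate hQ), hV, hU.1]; omega
      rw [← hself]
      intro u hu
      have := hcon ⟨u, hu⟩
      rw [hf] at this
      change polar Q u v = 0
      rw [polar_comm]
      exact this
    obtain ⟨u, hu⟩ := hne
    intro a
    exact ⟨(a * (f u)⁻¹) • u, by rw [map_smul, smul_eq_mul, mul_assoc, inv_mul_cancel₀ hu, mul_one]⟩
  have h1 := LinearMap.finrank_range_add_finrank_ker f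
  rw [hsurj, finrank_top, finrank_self, hU.1] at h1
  have h2 : finrank F ↥(U ⊓ img R U) = finrank F (LinearMap.ker f) := by
    rw [hker]
    exact Submodule.finrank_map_subtype_eq _ _
  rw [h2, Nat.even_iff]
  omega

/-- The dimension of a maximal totally singular subspace. -/
theorem finrank_eq_of_max (hQ : Nondeg Q) {m : ℕ} (hV : finrank F V = 2 * m) (hT : ∃ U, TSm Q m U)
    {U : Submodule F V} (hU : ∀ u ∈ U, Q u = 0)
    (hmax : ∀ W : Submodule F V, (∀ w ∈ W, Q w = 0) → U ≤ W → W = U) : finrank F U = m := by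
  obtain ⟨W, hW⟩ := hT
  have hn := nondegenerate hQ
  have hWo : LinearMap.BilinForm.orthogonal (polarBilin Q) W = W := by
    symm
    apply Submodule.eq_of_le_of_finrank_eq
    · intro y hy z hz
      exact polar_eq_zero hW.2 hz hy
    · rw [LinearMap.BilinForm.finrank_orthogonal hn, hV, hW.1]; omega
  -- `U ⊔ (U^⊥ ⊓ W)` is totally singular
  have h1 : ∀ w ∈ U ⊔ (LinearMap.BilinForm.orthogonal (polarBilin Q) U ⊓ W), Q w = 0 := by
    intro w hw
    obtain ⟨x, hx, y, ⟨hy1, hy2⟩, rfl⟩ := Submodule.mem_sup.1 hw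
    have h2 : polar Q x y = 0 := hy1 x hx
    rw [Q_add, hU x hx, hW.2 y hy2, h2]
    simp
  have h2 := hmax _ h1 le_sup_left
  have h3 : LinearMap.BilinForm.orthogonal (polarBilin Q) U ⊓ W ≤ U :=
    (le_sup_right (a := U)).trans h2.le
  have h4 : LinearMap.BilinForm.orthogonal (polarBilin Q) U ⊓ W = U ⊓ W := by
    apply le_antisymm
    · exact le_inf h3 inf_le_right
    · refine le_inf (fun x hx => ?_) inf_le_right
      intro u hu
      exact polar_eq_zero hU hu hx.1
  -- dimension count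
  have h5 : LinearMap.BilinForm.orthogonal (polarBilin Q) (U ⊔ W) = LinearMap.BilinForm.orthogonal (polarBilin Q) U ⊓ W := by
    rw [ClassicalGeometry.TwoFamilies.orthogonal_sup, hWo]
  have h6 := LinearMap.BilinForm.finrank_orthogonal hn (U ⊔ W)
  rw [h5, h4, hV] at h6
  have h7 := Submodule.finrank_sup_add_finrank_inf_eq U W
  have h8 : finrank F ↥(U ⊔ W) ≤ 2 * m := by rw [← hV]; exact Submodule.finrank_le _
  rw [hW.1] at h7
  omega

/-- Totally singular subspaces have dimension at most `m`. -/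
theorem finrank_le_of_ts (hQ : Nondeg Q) {m : ℕ} (hV : finrank F V = 2 * m)
    {U : Submodule F V} (hU : ∀ u ∈ U, Q u = 0) : finrank F U ≤ m := by
  have hn := nondegenerate hQ
  have h1 : U ≤ LinearMap.BilinForm.orthogonal (polarBilin Q) U := by
    intro y hy z hz
    exact polar_eq_zero hU hz hy
  have h2 := Submodule.finrank_mono h1
  rw [LinearMap.BilinForm.finrank_orthogonal hn, hV] at h2
  omega

theorem isMax_iff (hQ : Nondeg Q) {m : ℕ} (hV : finrank F V = 2 * m) (hT : ∃ U, TSm Q m U)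
    {U : Submodule F V} : ((∀ u ∈ U, Q u = 0) ∧ ∀ W : Submodule F V, (∀ w ∈ W, Q w = 0) → U ≤ W → W = U) ↔
      TSm Q m U := by
  constructor
  · rintro ⟨h1, h2⟩
    exact ⟨finrank_eq_of_max hQ hV hT h1 h2, h1⟩
  · rintro ⟨h1, h2⟩
    refine ⟨h2, fun W hW hle => ?_⟩
    symm
    apply Submodule.eq_of_le_of_finrank_le hle
    rw [h1]
    exact finrank_le_of_ts hQ hV hW

end Main

section Mat

variable {ι : Type} [Fintype ι] [DecidableEq ι] {F : Type*} [Field F] {Q : QuadraticForm F (ι → F)}

open scoped Matrix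

omit [DecidableEq ι] in
theorem isMaxTotallySingular_iff (hQ : Nondeg Q) {m : ℕ} (hV : finrank F (ι → F) = 2 * m)
    (hT : ∃ U, TSm Q m U) {U : Submodule F (ι → F)} : Cfsg.IsMaxTotallySingular ⇑Q U ↔ TSm Q m U :=
  isMax_iff hQ hV hT

/-- `PreservesSingularClasses` for the matrix of a linear semisimilitude. -/
theorem preserves_iff (hQ : Nondeg Q) {m : ℕ} (hV : finrank F (ι → F) = 2 * m) (hT : ∃ U, TSm Q m U)
    {M : Gam Q} {g : Matrix ι ι F} (hg : ∀ v, M.1 v = g *ᵥ v) :
    Cfsg.PreservesSingularClasses ⇑Q g ↔ Ev m M := by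
  have h1 : ∀ U : Submodule F (ι → F), Cfsg.imageSubmodule g U = img M U := by
    intro U
    ext v
    rw [Cfsg.imageSubmodule, Submodule.mem_map]
    constructor
    · rintro ⟨u, hu, rfl⟩
      rw [Matrix.toLin'_apply, ← hg, apply_mem_img]
      exact hu
    · intro hv
      refine ⟨M.1⁻¹ v, hv, ?_⟩
      rw [Matrix.toLin'_apply, ← hg, apply_inv]
  have h2 : ∀ U : Submodule F (ι → F), TSm Q m U →
      (Cfsg.SameParityClass U (Cfsg.imageSubmodule g U) ↔ Even (m + finrank F ↥(U ⊓ img M U))) := by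
    intro U hU
    rw [Cfsg.SameParityClass, h1, hU.1]
    have h3 : finrank F ↥(U ⊓ img M U) ≤ m := by
      rw [← hU.1]; exact Submodule.finrank_mono inf_le_left
    rw [Nat.even_sub h3, Nat.even_add]
  constructor
  · intro h U hU
    rw [← h2 U hU]
    exact h U ((isMaxTotallySingular_iff hQ hV hT).2 hU)
  · intro h U hU
    have hU' := (isMaxTotallySingular_iff hQ hV hT).1 hU
    rw [h2 U hU']
    exact h U hU'

end Mat

end Cfsg.Agent.H208.Parity
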