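import Mathlib
import Cfsg.Agent.H208.Ext
import Cfsg.Agent.ClassicalGeometry.OrthSemi
import Cfsg.Agent.GenOrth.Normal

/-!
# Normal forms of semisimilitudes of quadratic forms (helper208)

`M` a semisimilitude of the nondegenerate quadratic form `Q` with field automorphism `σ` of order `ℓ`, `M ^ ℓ = 1`.

* `exists_descent` : in suitable coordinates `M` is the coordinatewise action of `σ` and `Q` is a multiple of a form
  over the fixed field of `σ`;
* `Fr Q σ M q` : there are coordinates in which `M` is `σ` and `Q` is a multiple of `q`;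
* `normal_form` : `F` finite: one of the three normal forms, the minus form having coefficients in the fixed field and
  being anisotropic over the fixed field.
-/

set_option autoImplicit false

namespace Cfsg.Agent.H208.Frame

open QuadraticMap Cfsg.Agent.LieClassical.OrthCore Cfsg.Agent.ClassicalGeometry.OrthSemi
open Cfsg.Agent.CpAut.Descent (Semi hilbert90 exists_basis)
open Cfsg.Agent.H966.Frob Cfsg.Agent.H208.Ext

variable {F : Type*} [Field F] {V : Type*} [AddCommGroup V] [Module F V] {Q : QuadraticForm F V}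
  {κ : Type} [Fintype κ] [DecidableEq κ]

theorem semi {σ : F ≃+* F} {c : F} {M : Equiv.Perm V} (h : IsSS Q σ c M) : Semi M σ := ⟨h.add, h.smul⟩

theorem isSS_one : IsSS Q (1 : F ≃+* F) 1 (1 : Equiv.Perm V) :=
  ⟨one_ne_zero, fun _ _ => rfl, fun _ _ => rfl, fun _ => by rw [one_mul]; rfl⟩

theorem isSS_pow {σ : F ≃+* F} {c : F} {M : Equiv.Perm V} (h : IsSS Q σ c M) (k : ℕ) :
    IsSS Q (σ ^ k) (∏ i ∈ Finset.range k, (σ ^ i) c) (M ^ k) := by
  induction k with
  | zero => simpa using isSS_one (Q := Q)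
  | succ k ih =>
    have h' := ih.mul h
    rw [← pow_succ] at h'
    rw [Finset.prod_range_succ, pow_succ]
    exact h'

theorem norm_eq_one {σ : F ≃+* F} {c : F} {M : Equiv.Perm V} (hQ : ∃ v, Q v ≠ 0) (h : IsSS Q σ c M) {ℓ : ℕ}
    (hσ : orderOf σ = ℓ) (hM : M ^ ℓ = 1) : ∏ i ∈ Finset.range ℓ, (σ ^ i) c = 1 := by
  obtain ⟨v, hv⟩ := hQ
  have h1 := (isSS_pow h ℓ).form v
  rw [hM, ← hσ, pow_orderOf_eq_one, hσ] at h1
  change Q v = _ * Q v at h1
  exact mul_right_cancel₀ hv (by rw [one_mul, ← h1])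

omit [DecidableEq κ] in
/-- Coordinates in which `M` is the coordinatewise action of `σ`. -/
theorem exists_coord [FiniteDimensional F V] {g : Equiv.Perm V} {σ : F ≃+* F} (hg : Semi g σ) {ℓ : ℕ}
    (hσ : orderOf σ = ℓ) (hℓ : 0 < ℓ) (hgl : g ^ ℓ = 1) (hκ : Fintype.card κ = Module.finrank F V) :
    ∃ h : (κ → F) ≃ₗ[F] V, ∀ v, g (h v) = h (frob κ σ v) := by
  obtain ⟨b, hb⟩ := exists_basis hg hσ hℓ hgl (ι := κ) hκ
  refine ⟨b.equivFun.symm, fun v => ?_⟩
  rw [Module.Basis.equivFun_symm_apply, Module.Basis.equivFun_symm_apply, hg.map_sum]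
  exact Finset.sum_congr rfl fun i _ => by rw [hg.smul, hb]; rfl

omit [DecidableEq κ] in
/-- **Descent for semisimilitudes of quadratic forms.** -/
theorem exists_descent [FiniteDimensional F V] {σ : F ≃+* F} {c : F} {M : Equiv.Perm V} (hQ : ∃ v, Q v ≠ 0)
    (hM : IsSS Q σ c M) {ℓ : ℕ} (hσ : orderOf σ = ℓ) (hℓ : 0 < ℓ) (hMl : M ^ ℓ = 1)
    (hκ : Fintype.card κ = Module.finrank F V) :
    ∃ (h : (κ → F) ≃ₗ[F] V) (e : F) (Q₀ : QuadraticForm (fix σ) (κ → fix σ)), e ≠ 0 ∧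
      (∀ x, M (h x) = h (frob κ σ x)) ∧ ∀ x, Q (h (inc _ x)) = e * (Q₀ x : F) := by
  obtain ⟨e, he0, he⟩ := hilbert90 hσ hℓ (norm_eq_one hQ hM hσ hMl)
  obtain ⟨h, hh⟩ := exists_coord (semi hM) hσ hℓ hMl hκ
  have hσe : σ e ≠ 0 := by simpa using he0
  have h1 : c * σ e = e := he
  have hf : ∀ x : κ → fix σ, e⁻¹ * Q (h (inc _ x)) ∈ fix σ := by
    intro x
    rw [mem_fix, map_mul, map_inv₀]
    have h2 := hM.form (h (inc _ x))
    rw [hh, frob_inc] at h2
    have h3 : Q (h (inc _ x)) * σ e = e * σ (Q (h (inc _ x))) := by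
      calc Q (h (inc _ x)) * σ e = c * σ (Q (h (inc _ x))) * σ e := by rw [← h2]
        _ = (c * σ e) * σ (Q (h (inc _ x))) := by ring
        _ = _ := by rw [h1]
    field_simp
    linear_combination -h3
  have hp : ∀ x y : κ → fix σ, e⁻¹ * polar Q (h (inc _ x)) (h (inc _ y)) ∈ fix σ := by
    intro x y
    have h2 : e⁻¹ * polar Q (h (inc _ x)) (h (inc _ y)) = e⁻¹ * Q (h (inc _ (x + y))) -
        e⁻¹ * Q (h (inc _ x)) - e⁻¹ * Q (h (inc _ y)) := by
      rw [polar, inc_add, map_add h]; ring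
    rw [h2]
    exact (fix σ).sub_mem ((fix σ).sub_mem (hf _) (hf _)) (hf _)
  let B₀ : LinearMap.BilinMap (fix σ) (κ → fix σ) (fix σ) :=
    LinearMap.mk₂ (fix σ) (fun x y => (⟨e⁻¹ * polar Q (h (inc _ x)) (h (inc _ y)), hp x y⟩ : fix σ))
      (fun x x' y => Subtype.ext (by
        change e⁻¹ * polar Q (h (inc _ x + inc _ x')) (h (inc _ y)) =
          e⁻¹ * polar Q (h (inc _ x)) (h (inc _ y)) + e⁻¹ * polar Q (h (inc _ x')) (h (inc _ y))
        rw [map_add, polar_add_left, mul_add]))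
      (fun a x y => Subtype.ext (by
        change e⁻¹ * polar Q (h ((a : F) • inc _ x)) (h (inc _ y)) =
          (a : F) * (e⁻¹ * polar Q (h (inc _ x)) (h (inc _ y)))
        rw [map_smul, polar_smul_left, smul_eq_mul]; ring))
      (fun x y y' => Subtype.ext (by
        change e⁻¹ * polar Q (h (inc _ x)) (h (inc _ y + inc _ y')) =
          e⁻¹ * polar Q (h (inc _ x)) (h (inc _ y)) + e⁻¹ * polar Q (h (inc _ x)) (h (inc _ y'))
        rw [map_add, polar_add_right, mul_add]))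
      (fun a x y => Subtype.ext (by
        change e⁻¹ * polar Q (h (inc _ x)) (h ((a : F) • inc _ y)) =
          (a : F) * (e⁻¹ * polar Q (h (inc _ x)) (h (inc _ y)))
        rw [map_smul, polar_smul_right, smul_eq_mul]; ring))
  let Q₀ : QuadraticForm (fix σ) (κ → fix σ) :=
    { toFun := fun x => (⟨e⁻¹ * Q (h (inc _ x)), hf x⟩ : fix σ)
      toFun_smul := fun a x => Subtype.ext (by
        change e⁻¹ * Q (h ((a : F) • inc _ x)) = ((a : F) * a) * (e⁻¹ * Q (h (inc _ x)))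
        rw [map_smul, QuadraticMap.map_smul, smul_eq_mul]; ring)
      exists_companion' := ⟨B₀, fun x y => Subtype.ext (by
        change e⁻¹ * Q (h (inc _ x + inc _ y)) = e⁻¹ * Q (h (inc _ x)) + e⁻¹ * Q (h (inc _ y)) +
          e⁻¹ * polar Q (h (inc _ x)) (h (inc _ y))
        rw [map_add, polar]; ring)⟩ }
  refine ⟨h, e, Q₀, he0, hh, fun x => ?_⟩
  change _ = e * (e⁻¹ * Q (h (inc _ x)))
  rw [mul_inv_cancel_left₀ he0]

/-- Nondegeneracy descends. -/
theorem nondeg_descent {σ : F ≃+* F} (hQ : Nondeg Q) {h : (κ → F) ≃ₗ[F] V} {e : F}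
    {Q₀ : QuadraticForm (fix σ) (κ → fix σ)} (hh : ∀ x, Q (h (inc _ x)) = e * (Q₀ x : F)) :
    Nondeg Q₀ := by
  intro x hx
  have hp : ∀ y : κ → fix σ, polar Q (h (inc _ x)) (h (inc _ y)) = 0 := by
    intro y
    have h1 : polar Q (h (inc _ x)) (h (inc _ y)) = e * ((polar Q₀ x y : fix σ) : F) := by
      rw [polar, ← map_add h, ← inc_add, hh, hh, hh, polar]
      push_cast
      ring
    rw [h1, hx y]
    simp
  have h2 : ∀ y : κ → F, polar Q (h (inc _ x)) (h y) = 0 := by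
    intro y
    rw [eq_sum (fix σ) y, map_sum]
    have h4 : ∀ s : Finset κ, polar Q (h (inc _ x)) (∑ i ∈ s, h (y i • inc (fix σ) (Pi.single i 1))) = 0 := by
      intro s
      induction s using Finset.induction_on with
      | empty => simp
      | insert a s ha ih => rw [Finset.sum_insert ha, polar_add_right, ih, map_smul, polar_smul_right, hp]; simp
    exact h4 _
  have h3 : h (inc _ x) = 0 := hQ _ fun v => by
    have := h2 (h.symm v)
    rwa [LinearEquiv.apply_symm_apply] at this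
  have h4 : inc (fix σ) x = 0 := by simpa using h3
  exact inc_injective _ h4

/-- There are coordinates in which `M` is `σ` and `Q` is a multiple of `q`. -/
def Fr (Q : QuadraticForm F V) (σ : F ≃+* F) (M : Equiv.Perm V) {κ : Type} (q : (κ → F) → F) : Prop :=
  ∃ (h : (κ → F) ≃ₗ[F] V) (e : F), e ≠ 0 ∧ (∀ x, Q (h x) = e * q x) ∧ ∀ x, M (h x) = h (frob κ σ x)

/-- From the fixed field. -/
theorem fr_of_sim [FiniteDimensional F V] {σ : F ≃+* F} {M : Equiv.Perm V} {ι : Type} [Fintype ι] [DecidableEq ι]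
    {h : (ι → F) ≃ₗ[F] V} {e : F} {Q₀ : QuadraticForm (fix σ) (ι → fix σ)} (he : e ≠ 0)
    (hh : ∀ x, Q (h (inc _ x)) = e * (Q₀ x : F)) (hM : ∀ x, M (h x) = h (frob ι σ x))
    {q₀ : (κ → fix σ) → fix σ} (hs : GenOrth.Sim Q₀ q₀) (q : QuadraticForm F (κ → F))
    (hq : ∀ x, q (inc _ x) = (q₀ x : F)) : Fr Q σ M q := by
  obtain ⟨c, hc, j, hj⟩ := hs
  obtain ⟨j', hj'⟩ := exists_extend (fix σ) j
  have hc' : (c : F) ≠ 0 := by simpa using hc
  refine ⟨j'.trans h, e * c, mul_ne_zero he hc', fun x => ?_, fun x => ?_⟩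
  · have h1 := quad_ext (fix σ) (Q.comp (j'.trans h).toLinearMap) ((e * (c : F)) • q) (fun x => ?_) x
    · exact h1
    · change Q (h (j' (inc _ x))) = (e * (c : F)) * q (inc _ x)
      rw [hj', hh, hj, hq]
      push_cast
      ring
  · rw [LinearEquiv.trans_apply, hM, LinearEquiv.trans_apply, frob_comm hj']

theorem exists_ne_zero [Nontrivial V] (hQ : Nondeg Q) : ∃ v, Q v ≠ 0 := by
  by_contra hcon
  push Not at hcon
  obtain ⟨x, hx⟩ := exists_ne (0 : V)
  refine hx (hQ x fun y => ?_)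
  rw [polar, hcon, hcon, hcon]
  simp

theorem coe_odd (K : Subfield F) (k : ℕ) (x : Unit ⊕ (Fin k ⊕ Fin k) → K) :
    ((Cfsg.quadFormOdd k K x : K) : F) = Cfsg.quadFormOdd k F (inc K x) := by
  unfold Cfsg.quadFormOdd
  push_cast
  rfl

theorem coe_plus (K : Subfield F) (k : ℕ) (x : Fin k ⊕ Fin k → K) :
    ((Cfsg.quadFormPlus k K x : K) : F) = Cfsg.quadFormPlus k F (inc K x) := by
  unfold Cfsg.quadFormPlus
  push_cast
  rfl

theorem coe_minus (K : Subfield F) (k : ℕ) (a b : K) (x : (Fin k ⊕ Fin k) ⊕ Fin 2 → K) :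
    ((Cfsg.quadFormMinus k K a b x : K) : F) = Cfsg.quadFormMinus k F a b (inc K x) := by
  unfold Cfsg.quadFormMinus
  push_cast
  rfl

/-- The binary form is anisotropic over the fixed field of `σ`. -/
def AnisoFix (σ : F ≃+* F) (a b : F) : Prop :=
  ∀ z₁ z₂ : F, σ z₁ = z₁ → σ z₂ = z₂ → z₁ ^ 2 + a * z₁ * z₂ + b * z₂ ^ 2 = 0 → z₁ = 0 ∧ z₂ = 0

/-- **Normal form of a semisimilitude `M` with `M ^ ℓ = 1`, `ℓ` the order of its field automorphism.** -/
theorem normal_form [Finite F] [FiniteDimensional F V] [Nontrivial V] (hQ : Nondeg Q) {σ : F ≃+* F} {c : F}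
    {M : Equiv.Perm V} (hM : IsSS Q σ c M) {ℓ : ℕ} (hσ : orderOf σ = ℓ) (hℓ : 0 < ℓ) (hMl : M ^ ℓ = 1) :
    (∃ k, Module.finrank F V = 2 * k + 1 ∧ Fr Q σ M (Cfsg.quadFormOdd k F)) ∨
    (∃ k, Module.finrank F V = 2 * k ∧ Fr Q σ M (Cfsg.quadFormPlus k F)) ∨
    (∃ k, Module.finrank F V = 2 * k + 2 ∧ ∃ a b : F, σ a = a ∧ σ b = b ∧ AnisoFix σ a b ∧
      Fr Q σ M (Cfsg.quadFormMinus k F a b)) := by
  have hκ : Fintype.card (Fin (Module.finrank F V)) = Module.finrank F V := Fintype.card_fin _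
  obtain ⟨h, e, Q₀, he, hh, hQ₀⟩ := exists_descent (exists_ne_zero hQ) hM hσ hℓ hMl hκ
  have hn := nondeg_descent hQ hQ₀
  have hd : Module.finrank (fix σ) (Fin (Module.finrank F V) → fix σ) = Module.finrank F V := by
    rw [Module.finrank_fintype_fun_eq_card, hκ]
  rcases GenOrth.normal_form _ hn hd with ⟨k, hk, hs⟩ | ⟨k, hk, hs⟩ | ⟨k, hk, a, b, hab, hs⟩
  · refine Or.inl ⟨k, hk, ?_⟩
    have := fr_of_sim he hQ₀ hh hs (LieClassical.QuadForms.oddForm k F) (fun x => by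
      rw [LieClassical.QuadForms.coe_oddForm, coe_odd])
    rwa [LieClassical.QuadForms.coe_oddForm] at this
  · refine Or.inr (Or.inl ⟨k, hk, ?_⟩)
    have := fr_of_sim he hQ₀ hh hs (LieClassical.QuadForms.plusForm k F) (fun x => by
      rw [LieClassical.QuadForms.coe_plusForm, coe_plus])
    rwa [LieClassical.QuadForms.coe_plusForm] at this
  · refine Or.inr (Or.inr ⟨k, hk, a, b, a.2, b.2, ?_, ?_⟩)
    · intro z₁ z₂ h1 h2 h3
      have h4 := hab ⟨z₁, h1⟩ ⟨z₂, h2⟩ (Subtype.ext (by push_cast; exact h3))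
      exact ⟨congrArg Subtype.val h4.1, congrArg Subtype.val h4.2⟩
    · have := fr_of_sim he hQ₀ hh hs (LieClassical.QuadForms.minusForm k F a b) (fun x => by
        rw [LieClassical.QuadForms.coe_minusForm, coe_minus])
      rwa [LieClassical.QuadForms.coe_minusForm] at this

/-- Two semisimilitudes with the same normal form are conjugate by a similitude. -/
theorem Fr.conj {σ : F ≃+* F} {M M' : Equiv.Perm V} {κ : Type} {q : (κ → F) → F} (h1 : Fr Q σ M q)
    (h2 : Fr Q σ M' q) : ∃ (H : V ≃ₗ[F] V) (μ : F), μ ≠ 0 ∧ (∀ v, Q (H v) = μ * Q v) ∧ ∀ v, M (H v) = H (M' v) := by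
  obtain ⟨h, e, he, hq, hh⟩ := h1
  obtain ⟨h', e', he', hq', hh'⟩ := h2
  refine ⟨h'.symm.trans h, e * e'⁻¹, mul_ne_zero he (inv_ne_zero he'), fun v => ?_, fun v => ?_⟩
  · obtain ⟨x, rfl⟩ := h'.surjective v
    rw [LinearEquiv.trans_apply, LinearEquiv.symm_apply_apply, hq, hq']
    field_simp
  · obtain ⟨x, rfl⟩ := h'.surjective v
    rw [LinearEquiv.trans_apply, LinearEquiv.symm_apply_apply, hh, hh', LinearEquiv.trans_apply,
      LinearEquiv.symm_apply_apply]

end Cfsg.Agent.H208.Frame
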