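import Mathlib
import Cfsg.Agent.H208.Frame
import Cfsg.Agent.ClassicalGeometry.OrthSemiForms

/-!
# Anisotropic binary forms over a finite field are equivalent; minus-type normal forms (helper208)
-/

set_option autoImplicit false

namespace Cfsg.Agent.H208.Twist

open QuadraticMap Cfsg.Agent.LieClassical.OrthCore Cfsg.Agent.ClassicalGeometry.OrthSemi
open Cfsg.Agent.H966.Frob Cfsg.Agent.H208.Ext Cfsg.Agent.H208.Frame
open Cfsg.Agent.ClassicalGeometry.OrthSemiForms (exists_sq_add_self)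

/-- the binary form is anisotropic -/
def An {K : Type*} [Field K] (a b : K) : Prop :=
  ∀ z₁ z₂ : K, z₁ ^ 2 + a * z₁ * z₂ + b * z₂ ^ 2 = 0 → z₁ = 0 ∧ z₂ = 0

theorem An.two {K : Type*} [Field K] {a b : K} (h2 : (2 : K) = 0) [Finite K] (hab : An a b) : a ≠ 0 := by
  rintro rfl
  have hc2 : CharP K 2 := CharTwo.of_one_ne_zero_of_two_eq_zero one_ne_zero h2
  obtain ⟨s, hs⟩ := FiniteField.isSquare_of_char_two (ringChar.eq_iff.2 hc2) b
  have := hab s 1 (by rw [hs]; linear_combination s * s * h2)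
  exact one_ne_zero this.2

theorem An.quad {K : Type*} [Field K] {a b : K} (h2 : (2 : K) = 0) [Finite K] (hab : An a b) :
    ¬ ∃ t, t ^ 2 + t = b / a ^ 2 := by
  have ha := hab.two h2
  rintro ⟨t, ht⟩
  have h3 := hab (a * t) 1 (by
    have : b = a ^ 2 * (t ^ 2 + t) := by rw [ht]; field_simp
    rw [this]
    linear_combination (a ^ 2 * t ^ 2 + a ^ 2 * t) * h2)
  exact one_ne_zero h3.2

theorem An.disc {K : Type*} [Field K] {a b : K} (h2 : (2 : K) ≠ 0) (hab : An a b) :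
    ¬ IsSquare (a ^ 2 - 4 * b) := by
  rintro ⟨s, hs⟩
  have h3 := hab ((-a + s) / 2) 1 (by
    field_simp
    linear_combination -hs)
  exact one_ne_zero h3.2

/-- Two anisotropic binary forms over a finite field are isometric. -/
theorem exists_twist {K : Type*} [Field K] [Finite K] {a b a' b' : K} (hab : An a b) (hab' : An a' b') :
    ∃ μ₁ μ₂ : K, μ₂ ≠ 0 ∧ 2 * μ₁ + a * μ₂ = a' ∧ μ₁ ^ 2 + a * μ₁ * μ₂ + b * μ₂ ^ 2 = b' := by
  suffices H : ∃ μ₁ μ₂ : K, 2 * μ₁ + a * μ₂ = a' ∧ μ₁ ^ 2 + a * μ₁ * μ₂ + b * μ₂ ^ 2 = b' by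
    obtain ⟨μ₁, μ₂, h1, h2⟩ := H
    refine ⟨μ₁, μ₂, ?_, h1, h2⟩
    rintro rfl
    have h3 := hab' (-μ₁) 1 (by rw [← h1, ← h2]; ring)
    exact one_ne_zero h3.2
  by_cases h2 : (2 : K) = 0
  · have ha := hab.two h2
    have ha' := hab'.two h2
    obtain ⟨t, ht⟩ := exists_sq_add_self h2 (hab.quad h2) (hab'.quad h2)
    refine ⟨a' * t, a' / a, ?_, ?_⟩
    · rw [h2, zero_mul, zero_add]; field_simp
    · have h4 : (a' * t) ^ 2 + a * (a' * t) * (a' / a) + b * (a' / a) ^ 2 =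
          a' ^ 2 * (t ^ 2 + t) + a' ^ 2 * (b / a ^ 2) := by field_simp
      rw [h4, ht]
      have h5 : a' ^ 2 * (b / a ^ 2 + b' / a' ^ 2) + a' ^ 2 * (b / a ^ 2) =
          2 * (a' ^ 2 * (b / a ^ 2)) + b' := by field_simp; ring
      rw [h5, h2, zero_mul, zero_add]
  · have hd := hab.disc h2
    have hd' := hab'.disc h2
    obtain ⟨r0, hr0⟩ := Cfsg.Agent.ClassicalGeometry.SymmNormalForm.isSquare_div_of_not hd' hd
    have hd0 : a ^ 2 - 4 * b ≠ 0 := by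
      intro h
      exact hd (by rw [h]; exact ⟨0, by ring⟩)
    obtain ⟨r, hr⟩ : ∃ r : K, r = r0 / (a ^ 2 - 4 * b) := ⟨_, rfl⟩
    have hr' : a' ^ 2 - 4 * b' = r * r * (a ^ 2 - 4 * b) := by
      have : r * r * (a ^ 2 - 4 * b) = (r0 * r0) / (a ^ 2 - 4 * b) := by
        rw [hr]; field_simp
      rw [this, ← hr0, mul_div_assoc, div_self hd0, mul_one]
    refine ⟨(a' - a * r) / 2, r, by field_simp; ring, ?_⟩
    have h4 : (4 : K) ≠ 0 := by
      have : (4 : K) = 2 * 2 := by norm_num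
      rw [this]; exact mul_ne_zero h2 h2
    field_simp
    linear_combination hr'

variable {F : Type*} [Field F]

/-- The change of coordinates `(z₁, z₂) ↦ (z₁ + μ₁ z₂, μ₂ z₂)`. -/
def tw (k : ℕ) (μ₁ μ₂ : F) (h : μ₂ ≠ 0) : ((Fin k ⊕ Fin k) ⊕ Fin 2 → F) ≃ₗ[F] ((Fin k ⊕ Fin k) ⊕ Fin 2 → F) where
  toFun v := Sum.elim (fun i => v (.inl i)) ![v (.inr 0) + μ₁ * v (.inr 1), μ₂ * v (.inr 1)]
  invFun v := Sum.elim (fun i => v (.inl i)) ![v (.inr 0) - μ₁ * μ₂⁻¹ * v (.inr 1), μ₂⁻¹ * v (.inr 1)]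
  map_add' u v := by
    funext i
    rcases i with i | i
    · rfl
    · fin_cases i
      · simp; ring
      · simp; ring
  map_smul' a v := by
    funext i
    rcases i with i | i
    · rfl
    · fin_cases i
      · simp; ring
      · simp; ring
  left_inv v := by
    funext i
    rcases i with i | i
    · rfl
    · fin_cases i
      · simp; field_simp; ring
      · simp; field_simp
  right_inv v := by
    funext i
    rcases i with i | i
    · rfl
    · fin_cases i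
      · simp; field_simp; ring
      · simp; field_simp

theorem tw_form (k : ℕ) {μ₁ μ₂ : F} (h : μ₂ ≠ 0) {a b a' b' : F} (h1 : 2 * μ₁ + a * μ₂ = a')
    (h2 : μ₁ ^ 2 + a * μ₁ * μ₂ + b * μ₂ ^ 2 = b') (v : (Fin k ⊕ Fin k) ⊕ Fin 2 → F) :
    Cfsg.quadFormMinus k F a b (tw k μ₁ μ₂ h v) = Cfsg.quadFormMinus k F a' b' v := by
  unfold Cfsg.quadFormMinus
  congr 1
  change (v (.inr 0) + μ₁ * v (.inr 1)) ^ 2 + a * (v (.inr 0) + μ₁ * v (.inr 1)) * (μ₂ * v (.inr 1)) +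
    b * (μ₂ * v (.inr 1)) ^ 2 = _
  rw [← h1, ← h2]
  ring

theorem tw_frob (k : ℕ) {μ₁ μ₂ : F} (h : μ₂ ≠ 0) {σ : F ≃+* F} (h1 : σ μ₁ = μ₁) (h2 : σ μ₂ = μ₂)
    (v : (Fin k ⊕ Fin k) ⊕ Fin 2 → F) :
    tw k μ₁ μ₂ h (frob _ σ v) = frob _ σ (tw k μ₁ μ₂ h v) := by
  funext i
  rcases i with i | i
  · rfl
  · fin_cases i
    · change σ (v (.inr 0)) + μ₁ * σ (v (.inr 1)) = σ (v (.inr 0) + μ₁ * v (.inr 1))
      rw [map_add, map_mul, h1]
    · change μ₂ * σ (v (.inr 1)) = σ (μ₂ * v (.inr 1))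
      rw [map_mul, h2]

variable {V : Type*} [AddCommGroup V] [Module F V] {Q : QuadraticForm F V}

theorem aniso_fix {σ : F ≃+* F} {a b : F} (ha : σ a = a) (hb : σ b = b) (h : AnisoFix σ a b) :
    An (⟨a, ha⟩ : fix σ) ⟨b, hb⟩ := by
  intro z₁ z₂ hz
  have h1 := h z₁ z₂ z₁.2 z₂.2 (by
    have := congrArg (fun x : fix σ => (x : F)) hz
    push_cast at this
    exact this)
  exact ⟨Subtype.ext h1.1, Subtype.ext h1.2⟩

/-- Change of the coefficients in the minus-type normal form. -/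
theorem fr_minus [Finite F] {σ : F ≃+* F} {M : Equiv.Perm V} {k : ℕ} {a b a' b' : F} (ha : σ a = a) (hb : σ b = b)
    (hab : AnisoFix σ a b) (ha' : σ a' = a') (hb' : σ b' = b') (hab' : AnisoFix σ a' b')
    (h : Fr Q σ M (Cfsg.quadFormMinus k F a b)) : Fr Q σ M (Cfsg.quadFormMinus k F a' b') := by
  obtain ⟨μ₁, μ₂, h0, h1, h2⟩ := exists_twist (aniso_fix ha hb hab) (aniso_fix ha' hb' hab')
  have h1' := congrArg (fun x : fix σ => (x : F)) h1
  have h2' := congrArg (fun x : fix σ => (x : F)) h2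
  push_cast at h1' h2'
  have h0' : (μ₂ : F) ≠ 0 := by simpa using h0
  obtain ⟨g, e, he, hq, hg⟩ := h
  refine ⟨(tw k (μ₁ : F) μ₂ h0').trans g, e, he, fun x => ?_, fun x => ?_⟩
  · rw [LinearEquiv.trans_apply, hq, tw_form k h0' h1' h2']
  · rw [LinearEquiv.trans_apply, hg, LinearEquiv.trans_apply, tw_frob k h0' μ₁.2 μ₂.2]

end Cfsg.Agent.H208.Twist
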