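import Mathlib
import Cfsg.Agent.H208.Parity
import Cfsg.Agent.H208.Twist
import Cfsg.Agent.AutOrth.Main

/-!
# Parity and normal forms (helper208)

* `tsm_plus`, `ev_of_fr_plus` : a semisimilitude with plus-type normal form preserves the classes;
* `not_ev_of_fr_minus` : one with a minus-type normal form does not.
-/

set_option autoImplicit false

namespace Cfsg.Agent.H208.FramePar

open QuadraticMap Module Cfsg.Agent.LieClassical.OrthCore Cfsg.Agent.ClassicalGeometry.OrthSemi
open Cfsg.Agent.H966.Frob Cfsg.Agent.H208.Ext Cfsg.Agent.H208.Frame Cfsg.Agent.H208.Parity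
  Cfsg.Agent.H208.Twist

section Coord

variable {F : Type*} [Field F]

/-- the vectors with second half zero -/
def cP (F : Type*) [Field F] (m : ℕ) : Submodule F (Fin m ⊕ Fin m → F) where
  carrier := {v | ∀ i, v (.inr i) = 0}
  add_mem' := fun {u v} hu hv i => by
    rw [Pi.add_apply, hu i, hv i, add_zero]
  zero_mem' := fun _ => rfl
  smul_mem' := fun a v hv i => by rw [Pi.smul_apply, hv i, smul_zero]

theorem finrank_cP (m : ℕ) : finrank F (cP F m) = m := by
  let e : (Fin m → F) ≃ₗ[F] cP F m :=
    { toFun := fun x => ⟨Sum.elim x 0, fun _ => rfl⟩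
      invFun := fun v => fun i => v.1 (.inl i)
      left_inv := fun x => rfl
      right_inv := fun v => by
        apply Subtype.ext
        funext i
        rcases i with i | i
        · rfl
        · exact (v.2 i).symm
      map_add' := fun x y => by
        apply Subtype.ext
        funext i
        rcases i with i | i
        · rfl
        · exact (add_zero (0 : F)).symm
      map_smul' := fun a x => by
        apply Subtype.ext
        funext i
        rcases i with i | i
        · rfl
        · exact (mul_zero a).symm }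
  rw [← e.finrank_eq]
  simp

theorem plus_cP {m : ℕ} {v : Fin m ⊕ Fin m → F} (hv : v ∈ cP F m) : Cfsg.quadFormPlus m F v = 0 := by
  unfold Cfsg.quadFormPlus
  exact Finset.sum_eq_zero fun i _ => by rw [hv i, mul_zero]

/-- the totally singular subspace attached to a root `s` of `t² + a t + b` -/
def cM (k : ℕ) (s : F) : Submodule F ((Fin k ⊕ Fin k) ⊕ Fin 2 → F) where
  carrier := {v | (∀ i, v (.inl (.inr i)) = 0) ∧ v (.inr 0) = s * v (.inr 1)}
  add_mem' := fun {u v} hu hv => by
    refine ⟨fun i => ?_, ?_⟩
    · rw [Pi.add_apply, hu.1 i, hv.1 i, add_zero]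
    · rw [Pi.add_apply, Pi.add_apply, hu.2, hv.2]; ring
  zero_mem' := ⟨fun _ => rfl, (mul_zero s).symm⟩
  smul_mem' := fun a v hv => by
    refine ⟨fun i => ?_, ?_⟩
    · rw [Pi.smul_apply, hv.1 i, smul_zero]
    · rw [Pi.smul_apply, Pi.smul_apply, hv.2, smul_eq_mul, smul_eq_mul]; ring

theorem finrank_cM (k : ℕ) (s : F) : finrank F (cM k s) = k + 1 := by
  let e : ((Fin k → F) × F) ≃ₗ[F] cM k s :=
    { toFun := fun x => ⟨Sum.elim (Sum.elim x.1 0) ![s * x.2, x.2], fun _ => rfl, rfl⟩
      invFun := fun v => (fun i => v.1 (.inl (.inl i)), v.1 (.inr 1))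
      left_inv := fun x => rfl
      right_inv := fun v => by
        apply Subtype.ext
        funext i
        rcases i with (i | i) | i
        · rfl
        · exact (v.2.1 i).symm
        · fin_cases i
          · exact v.2.2.symm
          · rfl
      map_add' := fun x y => by
        apply Subtype.ext
        funext i
        rcases i with (i | i) | i
        · rfl
        · exact (add_zero (0 : F)).symm
        · fin_cases i
          · exact mul_add _ _ _
          · rfl
      map_smul' := fun a x => by
        apply Subtype.ext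
        funext i
        rcases i with (i | i) | i
        · rfl
        · exact (mul_zero a).symm
        · fin_cases i
          · exact mul_left_comm s a x.2
          · rfl }
  rw [← e.finrank_eq]
  simp

theorem minus_cM {k : ℕ} {a b s : F} (hs : s ^ 2 + a * s + b = 0) {v : (Fin k ⊕ Fin k) ⊕ Fin 2 → F}
    (hv : v ∈ cM k s) : Cfsg.quadFormMinus k F a b v = 0 := by
  unfold Cfsg.quadFormMinus
  rw [Finset.sum_eq_zero fun i _ => by rw [hv.1 i, mul_zero], hv.2]
  linear_combination (v (.inr 1)) ^ 2 * hs

theorem finrank_cM_inf (k : ℕ) {s s' : F} (h : s ≠ s') : finrank F ↥(cM k s ⊓ cM k s') = k := by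
  have hz : ∀ v ∈ cM k s ⊓ cM k s', v (.inr 0) = 0 ∧ v (.inr 1) = 0 := by
    rintro v ⟨h1, h2⟩
    have h3 : (s - s') * v (.inr 1) = 0 := by linear_combination h2.2 - h1.2
    have h4 : v (.inr 1) = 0 := (mul_eq_zero.1 h3).resolve_left (sub_ne_zero.2 h)
    exact ⟨by rw [h1.2, h4, mul_zero], h4⟩
  let e : (Fin k → F) ≃ₗ[F] ↥(cM k s ⊓ cM k s') :=
    { toFun := fun x => ⟨Sum.elim (Sum.elim x 0) 0, ⟨fun _ => rfl, (mul_zero s).symm⟩,
        ⟨fun _ => rfl, (mul_zero s').symm⟩⟩
      invFun := fun v => fun i => v.1 (.inl (.inl i))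
      left_inv := fun x => rfl
      right_inv := fun v => by
        apply Subtype.ext
        funext i
        rcases i with (i | i) | i
        · rfl
        · exact (v.2.1.1 i).symm
        · fin_cases i
          · exact (hz v.1 v.2).1.symm
          · exact (hz v.1 v.2).2.symm
      map_add' := fun x y => by
        apply Subtype.ext
        funext i
        rcases i with (i | i) | i
        · rfl
        · exact (add_zero (0 : F)).symm
        · exact (add_zero (0 : F)).symm
      map_smul' := fun a x => by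
        apply Subtype.ext
        funext i
        rcases i with (i | i) | i
        · rfl
        · exact (mul_zero a).symm
        · exact (mul_zero a).symm }
  rw [← e.finrank_eq]
  simp

end Coord

variable {F V : Type*} [Field F] [AddCommGroup V] [Module F V] [FiniteDimensional F V] {Q : QuadraticForm F V}

omit [FiniteDimensional F V] in
theorem mem_img_map {κ : Type} {σ : F ≃+* F} {M : Gam Q} {h : (κ → F) ≃ₗ[F] V}
    (hM : ∀ x, M.1 (h x) = h (frob κ σ x)) {W : Submodule F (κ → F)} {x : κ → F} :
    h x ∈ img M (W.map h.toLinearMap) ↔ (fun i => σ.symm (x i)) ∈ W := by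
  have h1 : M.1⁻¹ (h x) = h (fun i => σ.symm (x i)) := by
    rw [Equiv.Perm.inv_eq_iff_eq, hM]
    congr 1
    funext i
    rw [frob_apply, RingEquiv.apply_symm_apply]
  rw [mem_img, h1]
  constructor
  · rintro ⟨y, hy, hy'⟩
    have := h.injective hy'
    rwa [← this]
  · exact fun hy => ⟨_, hy, rfl⟩

omit [FiniteDimensional F V] in
theorem tsm_map {κ : Type} [Fintype κ] {h : (κ → F) ≃ₗ[F] V} {e : F} {q : (κ → F) → F} (hq : ∀ x, Q (h x) = e * q x)
    {W : Submodule F (κ → F)} {m : ℕ} (hW : finrank F W = m) (hW' : ∀ x ∈ W, q x = 0) :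
    TSm Q m (W.map h.toLinearMap) := by
  refine ⟨?_, ?_⟩
  · rw [← hW]
    exact LinearEquiv.finrank_map_eq h W
  · rintro _ ⟨x, hx, rfl⟩
    change Q (h x) = 0
    rw [hq, hW' x hx, mul_zero]

omit [FiniteDimensional F V] in
/-- A totally singular subspace of dimension `m`. -/
theorem tsm_of_fr_plus {σ : F ≃+* F} {M : Equiv.Perm V} {m : ℕ} (h : Fr Q σ M (Cfsg.quadFormPlus m F)) :
    ∃ U, TSm Q m U := by
  obtain ⟨g, e, he, hq, hg⟩ := h
  exact ⟨_, tsm_map hq (finrank_cP m) fun x hx => plus_cP hx⟩

/-- Plus-type normal form: the classes are preserved. -/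
theorem ev_of_fr_plus (hQ : Nondeg Q) {m : ℕ} (hV : finrank F V = 2 * m) {σ : F ≃+* F} {M : Gam Q}
    (h : Fr Q σ M.1 (Cfsg.quadFormPlus m F)) : Ev m M := by
  obtain ⟨g, e, he, hq, hg⟩ := h
  have hU := tsm_map (m := m) hq (finrank_cP m) fun x hx => plus_cP hx
  apply ev_of_one hQ hV hU
  have h1 : img M ((cP F m).map g.toLinearMap) = (cP F m).map g.toLinearMap := by
    ext v
    obtain ⟨x, rfl⟩ := g.surjective v
    rw [mem_img_map hg]
    constructor
    · intro hx
      refine ⟨x, fun i => ?_, rfl⟩
      have := hx i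
      simpa using this
    · rintro ⟨y, hy, hy'⟩
      have := g.injective hy'
      subst this
      intro i
      change σ.symm (y (Sum.inr i)) = 0
      rw [hy i, map_zero]
  rw [h1, inf_idem, hU.1]
  exact ⟨m, rfl⟩

/-- Minus-type normal form: the classes are interchanged. -/
theorem not_ev_of_fr_minus (hQ : Nondeg Q) {m : ℕ} (hV : finrank F V = 2 * m) (hT : ∃ U, TSm Q m U)
    {σ : F ≃+* F} {M : Gam Q} {k : ℕ} (hk : m = k + 1) {a b : F}
    (hab : AnisoFix σ a b) (h : Fr Q σ M.1 (Cfsg.quadFormMinus k F a b)) : ¬ Ev m M := by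
  obtain ⟨g, e, he, hq, hg⟩ := h
  -- the binary form is isotropic over `F`
  have hiso : ∃ s : F, s ^ 2 + a * s + b = 0 := by
    by_contra hcon
    push Not at hcon
    have han : ∀ z₁ z₂ : F, z₁ ^ 2 + a * z₁ * z₂ + b * z₂ ^ 2 = 0 → z₁ = 0 ∧ z₂ = 0 := by
      intro z₁ z₂ hz
      by_cases h2 : z₂ = 0
      · subst h2
        exact ⟨by simpa using hz, rfl⟩
      · exfalso
        apply hcon (z₁ / z₂)
        field_simp
        linear_combination hz
    obtain ⟨U, hU⟩ := hT
    have h1 := AutOrth.Main.finrank_le_of_TS_minus k a b han (W := U.map g.symm.toLinearMap) (by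
      rintro _ ⟨u, hu, rfl⟩
      have h2 := hq (g.symm u)
      rw [LinearEquiv.apply_symm_apply, hU.2 u hu] at h2
      change LieClassical.QuadForms.minusForm k F a b (g.symm u) = 0
      rw [LieClassical.QuadForms.coe_minusForm]
      rcases mul_eq_zero.1 h2.symm with h3 | h3
      · exact absurd h3 he
      · exact h3)
    have h2 : finrank F (U.map g.symm.toLinearMap) = finrank F U := LinearEquiv.finrank_map_eq g.symm U
    rw [h2, hU.1] at h1
    omega
  obtain ⟨s, hs⟩ := hiso
  have hσs : s ≠ σ s := by
    intro h1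
    have := hab s 1 h1.symm (map_one σ) (by linear_combination hs)
    exact one_ne_zero this.2
  subst hk
  have hU := tsm_map (m := k + 1) hq (finrank_cM k s) fun x hx => minus_cM hs hx
  rw [ev_iff hQ hV hU]
  have h1 : img M ((cM k s).map g.toLinearMap) = (cM k (σ s)).map g.toLinearMap := by
    ext v
    obtain ⟨x, rfl⟩ := g.surjective v
    rw [mem_img_map hg]
    constructor
    · rintro ⟨hx1, hx2⟩
      refine ⟨x, ⟨fun i => ?_, ?_⟩, rfl⟩
      · have := hx1 i
        simpa using this
      · have := congrArg σ hx2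
        rw [map_mul, RingEquiv.apply_symm_apply, RingEquiv.apply_symm_apply] at this
        exact this
    · rintro ⟨y, hy, hy'⟩
      have := g.injective hy'
      subst this
      refine ⟨fun i => ?_, ?_⟩
      · change σ.symm (y (Sum.inl (Sum.inr i))) = 0
        rw [hy.1 i, map_zero]
      · apply σ.injective
        rw [map_mul, RingEquiv.apply_symm_apply, RingEquiv.apply_symm_apply]
        exact hy.2
  have h2 : (cM k s).map g.toLinearMap ⊓ (cM k (σ s)).map g.toLinearMap =
      (cM k s ⊓ cM k (σ s)).map g.toLinearMap := by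
    rw [Submodule.map_inf]
    exact g.injective
  rw [h1, h2]
  have h3 : finrank F ((cM k s ⊓ cM k (σ s)).map g.toLinearMap) = finrank F ↥(cM k s ⊓ cM k (σ s)) :=
    LinearEquiv.finrank_map_eq g _
  rw [h3, finrank_cM_inf k hσs, Nat.even_iff]
  omega

end Cfsg.Agent.H208.FramePar
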