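import Mathlib
import Cfsg.Agent.H208.FramePar

/-!
# Conjugacy of semisimilitudes with the same field automorphism (helper208)

`Q` nondegenerate over a finite field, `M`, `M'` semisimilitudes with the same field automorphism `σ` of order `ℓ`,
`M ^ ℓ = M' ^ ℓ = 1`.

* `exists_odd` : odd dimension: conjugate by a similitude;
* `exists_plus` : plus type, same parity: conjugate by a similitude of even parity;
* `exists_minus` : minus type: conjugate by a similitude;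
* `exists_refl` : a reflection commuting with `M`.
* `main_odd`, `main_plus`, `main_minus` : the same for automorphisms `Psi Q M` with `(Psi Q M) ^ r = 1`.
-/

set_option autoImplicit false

namespace Cfsg.Agent.H208.ConjSS

open QuadraticMap Module Cfsg.Agent.LieClassical.OrthCore Cfsg.Agent.LieClassical.OrthTrans
open Cfsg.Agent.ClassicalGeometry.OrthSemi
open Cfsg.Agent.CpAut.Descent (Semi span_fixed exists_scale)
open Cfsg.Agent.H966.Frob Cfsg.Agent.H208.Ext Cfsg.Agent.H208.Frame Cfsg.Agent.H208.Parity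
  Cfsg.Agent.H208.Twist Cfsg.Agent.H208.FramePar

variable {F V : Type*} [Field F] [AddCommGroup V] [Module F V] [FiniteDimensional F V] {Q : QuadraticForm F V}

/-- Linear semisimilitudes. -/
def Lin (M : Gam Q) : Prop := ∃ μ : F, IsSS Q (RingEquiv.refl F) μ M.1

/-- A similitude. -/
def ofSim (H : V ≃ₗ[F] V) (μ : F) (hμ : μ ≠ 0) (hH : ∀ v, Q (H v) = μ * Q v) : Gam Q :=
  ⟨H.toEquiv, RingEquiv.refl F, μ, hμ, fun u v => map_add H u v, fun a v => map_smul H a v, hH⟩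

omit [FiniteDimensional F V] in
theorem lin_ofSim {H : V ≃ₗ[F] V} {μ : F} {hμ : μ ≠ 0} {hH : ∀ v, Q (H v) = μ * Q v} : Lin (ofSim H μ hμ hH) :=
  ⟨μ, hμ, fun u v => map_add H u v, fun a v => map_smul H a v, hH⟩

omit [FiniteDimensional F V] in
theorem lin_ofO {g : V ≃ₗ[F] V} {hg : g ∈ O Q} : Lin (ofO g hg) :=
  ⟨1, one_ne_zero, fun u v => map_add g u v, fun a v => map_smul g a v, fun v => by rw [one_mul]; exact hg v⟩

omit [FiniteDimensional F V] in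
theorem Lin.mul {M N : Gam Q} (hM : Lin M) (hN : Lin N) : Lin (M * N) := by
  obtain ⟨μ, h⟩ := hM
  obtain ⟨ν, h'⟩ := hN
  exact ⟨_, h.mul h'⟩

omit [FiniteDimensional F V] in
theorem Lin.inv {M : Gam Q} (hM : Lin M) : Lin M⁻¹ := by
  obtain ⟨μ, h⟩ := hM
  exact ⟨_, h.inv⟩

omit [FiniteDimensional F V] in
/-- A reflection commuting with `M`. -/
theorem exists_refl [Nontrivial V] (hQ : Nondeg Q) {M : Gam Q} {σ : F ≃+* F} {c : F} (hM : IsSS Q σ c M.1) {ℓ : ℕ}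
    (hσ : orderOf σ = ℓ) (hℓ : 0 < ℓ) (hMl : M.1 ^ ℓ = 1) :
    ∃ (v : V) (hv : Q v ≠ 0), M.1 v = v ∧ M * ofO (refl Q v hv) (refl_mem_O hv) = ofO (refl Q v hv) (refl_mem_O hv) * M := by
  have hspan := span_fixed (semi hM) hσ hℓ hMl
  have hex : ∃ v, M.1 v = v ∧ Q v ≠ 0 := by
    by_contra hcon
    push Not at hcon
    have hp : ∀ u v, M.1 u = u → M.1 v = v → polar Q u v = 0 := by
      intro u v hu hv
      rw [polar, hcon u hu, hcon v hv, hcon (u + v) (by rw [hM.add, hu, hv])]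
      simp
    have hp1 : ∀ u, M.1 u = u → ∀ v, polar Q u v = 0 := by
      intro u hu v
      have hv : v ∈ Submodule.span F {v : V | M.1 v = v} := by rw [hspan]; trivial
      induction hv using Submodule.span_induction with
      | mem x hx => exact hp u x hu hx
      | zero => exact polar_zero_right Q u
      | add x y _ _ hx hy => rw [polar_add_right, hx, hy, add_zero]
      | smul a x _ hx => rw [polar_smul_right, hx, smul_zero]
    obtain ⟨x, hx⟩ := exists_ne (0 : V)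
    apply hx
    have h0 : ∀ u, M.1 u = u → u = 0 := fun u hu => hQ u (hp1 u hu)
    have hle : Submodule.span F {v : V | M.1 v = v} ≤ ⊥ := by
      rw [Submodule.span_le]
      intro u hu
      exact h0 u hu
    rw [hspan] at hle
    exact (Submodule.mem_bot F).1 (hle trivial)
  obtain ⟨v, hv, hv'⟩ := hex
  refine ⟨v, hv', hv, ?_⟩
  apply Subtype.ext
  ext w
  change M.1 (refl Q v hv' w) = refl Q v hv' (M.1 w)
  rw [refl_apply, refl_apply, hM.sub, hM.smul, hv]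
  have h1 : polar Q v (M.1 w) = c * σ (polar Q v w) := by
    rw [← hM.polar, hv]
  have h2 : Q v = c * σ (Q v) := by rw [← hM.form, hv]
  have h3 : σ ((Q v)⁻¹ * polar Q v w) = (Q v)⁻¹ * polar Q v (M.1 w) := by
    have hc := hM.ne
    have hs : σ (Q v) ≠ 0 := by simpa using hv'
    rw [h1, map_mul, map_inv₀]
    have h4 : (Q v)⁻¹ = (c * σ (Q v))⁻¹ := by rw [← h2]
    rw [h4]
    field_simp
  rw [h3]

section Finite

variable [Finite F] [Nontrivial V]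

/-- **Odd dimension.** -/
theorem exists_odd (hQ : Nondeg Q) (hV : Odd (finrank F V)) {M M' : Gam Q} {σ : F ≃+* F} {c c' : F}
    (hM : IsSS Q σ c M.1) (hM' : IsSS Q σ c' M'.1) {ℓ : ℕ} (hσ : orderOf σ = ℓ) (hℓ : 0 < ℓ)
    (h1 : M.1 ^ ℓ = 1) (h2 : M'.1 ^ ℓ = 1) : ∃ H : Gam Q, Lin H ∧ M * H = H * M' := by
  have key : ∀ {N : Gam Q} {d : F}, IsSS Q σ d N.1 → N.1 ^ ℓ = 1 →
      ∃ k, finrank F V = 2 * k + 1 ∧ Fr Q σ N.1 (Cfsg.quadFormOdd k F) := by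
    intro N d hN hNl
    rcases normal_form hQ hN hσ hℓ hNl with h | ⟨k, hk, -⟩ | ⟨k, hk, -⟩
    · exact h
    · rw [Nat.odd_iff] at hV; omega
    · rw [Nat.odd_iff] at hV; omega
  obtain ⟨k, hk, hf⟩ := key hM h1
  obtain ⟨k', hk', hf'⟩ := key hM' h2
  obtain rfl : k = k' := by omega
  obtain ⟨H, μ, hμ, hH, hc⟩ := hf.conj hf'
  exact ⟨ofSim H μ hμ hH, lin_ofSim, Subtype.ext (Equiv.ext fun v => hc v)⟩

/-- **Plus type.** -/
theorem exists_plus (hQ : Nondeg Q) {m : ℕ} (hV : finrank F V = 2 * m) (hT : ∃ U, TSm Q m U) {M M' : Gam Q}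
    {σ : F ≃+* F} {c c' : F} (hM : IsSS Q σ c M.1) (hM' : IsSS Q σ c' M'.1) {ℓ : ℕ} (hσ : orderOf σ = ℓ)
    (hℓ : 0 < ℓ) (h1 : M.1 ^ ℓ = 1) (h2 : M'.1 ^ ℓ = 1) (hE : Ev m M ↔ Ev m M') :
    ∃ H : Gam Q, Lin H ∧ Ev m H ∧ M * H = H * M' := by
  have key : ∀ {N : Gam Q} {d : F}, IsSS Q σ d N.1 → N.1 ^ ℓ = 1 →
      (Ev m N ∧ Fr Q σ N.1 (Cfsg.quadFormPlus m F)) ∨
      (¬ Ev m N ∧ ∃ k, m = k + 1 ∧ ∃ a b : F, σ a = a ∧ σ b = b ∧ AnisoFix σ a b ∧
        Fr Q σ N.1 (Cfsg.quadFormMinus k F a b)) := by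
    intro N d hN hNl
    rcases normal_form hQ hN hσ hℓ hNl with ⟨k, hk, -⟩ | ⟨k, hk, hf⟩ | ⟨k, hk, a, b, ha, hb, hab, hf⟩
    · omega
    · obtain rfl : m = k := by omega
      exact Or.inl ⟨ev_of_fr_plus hQ hV hf, hf⟩
    · obtain rfl : m = k + 1 := by omega
      exact Or.inr ⟨not_ev_of_fr_minus hQ hV hT rfl hab hf, k, rfl, a, b, ha, hb, hab, hf⟩
  have hsim : ∃ (H : V ≃ₗ[F] V) (μ : F), μ ≠ 0 ∧ (∀ v, Q (H v) = μ * Q v) ∧ ∀ v, M.1 (H v) = H (M'.1 v) := by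
    rcases key hM h1 with ⟨h3, h4⟩ | ⟨h3, k, hk, a, b, ha, hb, hab, h4⟩
    · rcases key hM' h2 with ⟨h5, h6⟩ | ⟨h5, -⟩
      · exact h4.conj h6
      · exact absurd (hE.1 h3) h5
    · rcases key hM' h2 with ⟨h5, -⟩ | ⟨h5, k', hk', a', b', ha', hb', hab', h6⟩
      · exact absurd (hE.2 h5) h3
      · obtain rfl : k = k' := by omega
        exact h4.conj (fr_minus ha' hb' hab' ha hb hab h6)
  obtain ⟨H, μ, hμ, hH, hc⟩ := hsim
  have hcomm : M * ofSim H μ hμ hH = ofSim H μ hμ hH * M' := Subtype.ext (Equiv.ext fun v => hc v)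
  by_cases hev : Ev m (ofSim H μ hμ hH)
  · exact ⟨_, lin_ofSim, hev, hcomm⟩
  · obtain ⟨v, hv, -, hR⟩ := exists_refl hQ hM' hσ hℓ h2
    refine ⟨ofSim H μ hμ hH * ofO (refl Q v hv) (refl_mem_O hv), lin_ofSim.mul lin_ofO, ?_, ?_⟩
    · rw [ev_mul hQ hV hT]
      have := not_ev_refl hQ hV hT hv
      exact ⟨fun h => absurd h hev, fun h => absurd h this⟩
    · rw [← mul_assoc, hcomm, mul_assoc, hR, mul_assoc]

/-- **Minus type.** -/
theorem exists_minus (hQ : Nondeg Q) {m : ℕ} (hV : finrank F V = 2 * m) (hT : ¬ ∃ U, TSm Q m U) {M M' : Gam Q}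
    {σ : F ≃+* F} {c c' : F} (hM : IsSS Q σ c M.1) (hM' : IsSS Q σ c' M'.1) {ℓ : ℕ} (hσ : orderOf σ = ℓ)
    (hℓ : 0 < ℓ) (h1 : M.1 ^ ℓ = 1) (h2 : M'.1 ^ ℓ = 1) : ∃ H : Gam Q, Lin H ∧ M * H = H * M' := by
  have key : ∀ {N : Gam Q} {d : F}, IsSS Q σ d N.1 → N.1 ^ ℓ = 1 →
      ∃ k, m = k + 1 ∧ ∃ a b : F, σ a = a ∧ σ b = b ∧ AnisoFix σ a b ∧
        Fr Q σ N.1 (Cfsg.quadFormMinus k F a b) := by
    intro N d hN hNl
    rcases normal_form hQ hN hσ hℓ hNl with ⟨k, hk, -⟩ | ⟨k, hk, hf⟩ | ⟨k, hk, a, b, ha, hb, hab, hf⟩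
    · omega
    · obtain rfl : m = k := by omega
      exact absurd (tsm_of_fr_plus hf) hT
    · obtain rfl : m = k + 1 := by omega
      exact ⟨k, rfl, a, b, ha, hb, hab, hf⟩
  obtain ⟨k, hk, a, b, ha, hb, hab, h4⟩ := key hM h1
  obtain ⟨k', hk', a', b', ha', hb', hab', h6⟩ := key hM' h2
  obtain rfl : k = k' := by omega
  obtain ⟨H, μ, hμ, hH, hc⟩ := h4.conj (fr_minus ha' hb' hab' ha hb hab h6)
  exact ⟨ofSim H μ hμ hH, lin_ofSim, Subtype.ext (Equiv.ext fun v => hc v)⟩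

end Finite

/-! ### Automorphisms -/

omit [FiniteDimensional F V] in
theorem sigma_unique [Nontrivial V] {σ τ : F ≃+* F} {c d : F} {M : Equiv.Perm V} (h : IsSS Q σ c M)
    (h' : IsSS Q τ d M) : σ = τ := by
  obtain ⟨v, hv⟩ := exists_ne (0 : V)
  ext a
  have h1 : σ a • M v = τ a • M v := by rw [← h.smul, ← h'.smul]
  have h2 : M v ≠ 0 := fun h3 => hv (M.injective (h3.trans h.map_zero.symm))
  have h3 : (σ a - τ a) • M v = 0 := by rw [sub_smul, h1, sub_self]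
  exact sub_eq_zero.1 ((smul_eq_zero.1 h3).resolve_right h2)

omit [FiniteDimensional F V] in
/-- Normalisation of a semisimilitude inducing an automorphism of order dividing `r`. -/
theorem exists_normal [Finite F] [Nontrivial V] (hG : Good Q) {M : Gam Q} {σ : F ≃+* F} {c : F}
    (hM : IsSS Q σ c M.1) (hσ : σ ≠ 1) {r : ℕ} (hr : r.Prime) (h : Psi Q M ^ r = 1) :
    orderOf σ = r ∧ ∃ a : Fˣ, (scal Q a * M).1 ^ r = 1 := by
  have h1 : M ^ r ∈ (Psi Q).ker := by rw [MonoidHom.mem_ker, map_pow, h]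
  rw [ker_Psi hG] at h1
  obtain ⟨b, hb⟩ := h1
  have hb' : ∀ v, (M.1 ^ r) v = (b : F) • v := by
    intro v
    have h2 : (M ^ r).1 v = (scal Q b).1 v := by rw [hb]
    exact h2
  have hs : IsSS Q (RingEquiv.refl F) ((b : F) * b) (M.1 ^ r) := by
    refine ⟨mul_ne_zero b.ne_zero b.ne_zero, fun u v => ?_, fun a v => ?_, fun v => ?_⟩
    · rw [hb', hb', hb', smul_add]
    · rw [hb', hb', smul_comm]; rfl
    · rw [hb', QuadraticMap.map_smul]; rfl
  have hσr : σ ^ r = 1 := sigma_unique (isSS_pow hM r) hs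
  have hord : orderOf σ = r := by
    have h3 := (Nat.dvd_prime hr).1 (orderOf_dvd_of_pow_eq_one hσr)
    rcases h3 with h3 | h3
    · exact absurd (orderOf_eq_one_iff.1 h3) hσ
    · exact h3
  refine ⟨hord, ?_⟩
  obtain ⟨a, ha⟩ := exists_scale (semi hM) hord hr.pos b.ne_zero hb' (exists_ne 0)
  exact ⟨a, ha⟩

omit [FiniteDimensional F V] in
theorem Psi_scal (hG : Good Q) (a : Fˣ) : Psi Q (scal Q a) = 1 := by
  have : scal Q a ∈ (Psi Q).ker := by rw [ker_Psi hG]; exact ⟨a, rfl⟩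
  exact this

omit [FiniteDimensional F V] in
theorem isSS_scal_mul {M : Gam Q} {σ : F ≃+* F} {c : F} (hM : IsSS Q σ c M.1) (a : Fˣ) :
    ∃ d, IsSS Q σ d (scal Q a * M).1 := by
  obtain ⟨τ, e, h⟩ := (scal Q a).2
  have h1 : IsSS Q (RingEquiv.refl F) ((a : F) * a) (scal Q a).1 :=
    ⟨mul_ne_zero a.ne_zero a.ne_zero, fun u v => smul_add _ _ _, fun t v => smul_comm _ _ _, fun v => by
      rw [scal_apply, QuadraticMap.map_smul]; rfl⟩
  exact ⟨_, h1.mul hM⟩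

omit [FiniteDimensional F V] in
theorem isSS_lin_mul {D M : Gam Q} {σ : F ≃+* F} {c : F} (hD : Lin D) (hM : IsSS Q σ c M.1) :
    ∃ d, IsSS Q σ d (D * M).1 := by
  obtain ⟨μ, h⟩ := hD
  exact ⟨_, h.mul hM⟩

omit [FiniteDimensional F V] in
theorem nontrivial_of_good (hG : Good Q) : Nontrivial V := by
  obtain ⟨x, y, h⟩ := hG.exists_hyp
  exact ⟨x, 0, h.left_ne⟩

omit [FiniteDimensional F V] in
/-- from normalised semisimilitudes to automorphisms -/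
theorem psi_conj (hG : Good Q) {M M' H : Gam Q} {a b : Fˣ} (h : scal Q b * M' * H = H * (scal Q a * M)) :
    Psi Q M' = Psi Q H * Psi Q M * (Psi Q H)⁻¹ := by
  have h1 := congrArg (Psi Q) h
  rw [map_mul, map_mul, map_mul, map_mul, Psi_scal hG, Psi_scal hG, one_mul, one_mul] at h1
  rw [← h1, mul_inv_cancel_right]

/-- **Odd dimension.** -/
theorem main_odd [Finite F] (hG : Good Q) (hQ : Nondeg Q) (hV : Odd (finrank F V)) {M D : Gam Q} {σ : F ≃+* F}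
    {c : F} (hM : IsSS Q σ c M.1) (hσ : σ ≠ 1) (hD : Lin D) {r : ℕ} (hr : r.Prime) (h1 : Psi Q M ^ r = 1)
    (h2 : Psi Q (D * M) ^ r = 1) : ∃ H : Gam Q, Lin H ∧ Psi Q (D * M) = Psi Q H * Psi Q M * (Psi Q H)⁻¹ := by
  have := nontrivial_of_good hG
  obtain ⟨d, hd⟩ := isSS_lin_mul hD hM
  obtain ⟨ho, a, ha⟩ := exists_normal hG hM hσ hr h1
  obtain ⟨-, b, hb⟩ := exists_normal hG hd hσ hr h2
  obtain ⟨c', hc'⟩ := isSS_scal_mul hM a
  obtain ⟨d', hd'⟩ := isSS_scal_mul hd b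
  obtain ⟨H, hH, hc⟩ := exists_odd hQ hV hd' hc' ho hr.pos hb ha
  exact ⟨H, hH, psi_conj hG hc⟩

/-- **Plus type.** -/
theorem main_plus [Finite F] (hG : Good Q) (hQ : Nondeg Q) {m : ℕ} (hV : finrank F V = 2 * m)
    (hT : ∃ U, TSm Q m U) {M D : Gam Q} {σ : F ≃+* F}
    {c : F} (hM : IsSS Q σ c M.1) (hσ : σ ≠ 1) (hD : Lin D) (hDe : Ev m D) {r : ℕ} (hr : r.Prime)
    (h1 : Psi Q M ^ r = 1) (h2 : Psi Q (D * M) ^ r = 1) :
    ∃ H : Gam Q, Lin H ∧ Ev m H ∧ Psi Q (D * M) = Psi Q H * Psi Q M * (Psi Q H)⁻¹ := by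
  have := nontrivial_of_good hG
  obtain ⟨d, hd⟩ := isSS_lin_mul hD hM
  obtain ⟨ho, a, ha⟩ := exists_normal hG hM hσ hr h1
  obtain ⟨-, b, hb⟩ := exists_normal hG hd hσ hr h2
  obtain ⟨c', hc'⟩ := isSS_scal_mul hM a
  obtain ⟨d', hd'⟩ := isSS_scal_mul hd b
  have hsa := ev_scal (Q := Q) (m := m) a
  have hsb := ev_scal (Q := Q) (m := m) b
  have e1 := ev_mul hQ hV hT (scal Q a) M
  have e2 := ev_mul hQ hV hT (scal Q b) (D * M)
  have e3 := ev_mul hQ hV hT D M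
  obtain ⟨H, hH, hHe, hc⟩ := exists_plus hQ hV hT hd' hc' ho hr.pos hb ha (by
    rw [e1, e2, e3]
    exact ⟨fun h => ⟨fun _ => (h.1 hsb).1 hDe, fun _ => hsa⟩,
      fun h => ⟨fun _ => ⟨fun _ => h.1 hsa, fun _ => hDe⟩, fun _ => hsb⟩⟩)
  exact ⟨H, hH, hHe, psi_conj hG hc⟩

/-- **Minus type.** A second conjugating similitude differs from the first by a reflection. -/
theorem main_minus [Finite F] (hG : Good Q) (hQ : Nondeg Q) {m : ℕ} (hV : finrank F V = 2 * m)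
    (hT : ¬ ∃ U, TSm Q m U) {M D : Gam Q} {σ : F ≃+* F}
    {c : F} (hM : IsSS Q σ c M.1) (hσ : σ ≠ 1) (hD : Lin D) {r : ℕ} (hr : r.Prime)
    (h1 : Psi Q M ^ r = 1) (h2 : Psi Q (D * M) ^ r = 1) :
    ∃ H : Gam Q, Lin H ∧ Psi Q (D * M) = Psi Q H * Psi Q M * (Psi Q H)⁻¹ ∧
      ∃ (v : V) (hv : Q v ≠ 0), Psi Q (D * M) = Psi Q (H * ofO (refl Q v hv) (refl_mem_O hv)) * Psi Q M *
        (Psi Q (H * ofO (refl Q v hv) (refl_mem_O hv)))⁻¹ := by
  have := nontrivial_of_good hG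
  obtain ⟨d, hd⟩ := isSS_lin_mul hD hM
  obtain ⟨ho, a, ha⟩ := exists_normal hG hM hσ hr h1
  obtain ⟨-, b, hb⟩ := exists_normal hG hd hσ hr h2
  obtain ⟨c', hc'⟩ := isSS_scal_mul hM a
  obtain ⟨d', hd'⟩ := isSS_scal_mul hd b
  obtain ⟨H, hH, hc⟩ := exists_minus hQ hV hT hd' hc' ho hr.pos hb ha
  obtain ⟨v, hv, -, hR⟩ := exists_refl hQ hc' ho hr.pos ha
  refine ⟨H, hH, psi_conj hG hc, v, hv, psi_conj hG (a := a) (b := b) ?_⟩
  rw [← mul_assoc, hc, mul_assoc, hR, mul_assoc]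

end Cfsg.Agent.H208.ConjSS
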