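import Mathlib
import Cfsg.Agent.H208.ConjSS
import Cfsg.Agent.H198.OrthGamma

/-!
# Automorphisms of `POmega F Q` and semisimilitudes (helper208)

`hG : Good Q`; `tr hG : MulAut (POmega F Q) → MulAut (P Q)`.

* `ofPair` : the element of `Gam Q` given by a semisimilarity pair `(g, σ)`;
* `induced_iff` : `IsInducedBySemilinearPOmega Q g σ β ↔ tr hG β = Psi Q M` for `M v = g σ(v)`;
* `exists_pair_of_gam` : every element of `Gam Q` comes from a pair;
* `trEquiv` : `tr` as an isomorphism of groups.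
-/

set_option autoImplicit false

namespace Cfsg.Agent.H208.Dict

open QuadraticMap Module Cfsg.Agent.LieClassical.OrthCore Cfsg.Agent.LieClassical.OrthTrans
open Cfsg.Agent.LieClassical.OrthSimple Cfsg.Agent.ClassicalGeometry.OrthSemi Cfsg.Agent.AutOrth.Main
  Cfsg.Agent.ClassicalGeometry.OrthAut1
open Cfsg.Agent.H208.Frame Cfsg.Agent.H208.Parity Cfsg.Agent.H208.ConjSS
open scoped Matrix MatrixGroups

variable {ι : Type} [Fintype ι] [DecidableEq ι] {F : Type*} [Field F] {Q : QuadraticForm F (ι → F)}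

/-- The permutation `v ↦ g σ(v)`. -/
def perm (g : GL ι F) (σ : F ≃+* F) : Equiv.Perm (ι → F) where
  toFun v := (g : Matrix ι ι F) *ᵥ (fun i => σ (v i))
  invFun v := fun i => σ.symm ((((g⁻¹ : GL ι F) : Matrix ι ι F) *ᵥ v) i)
  left_inv v := by
    funext i
    simp only [Matrix.mulVec_mulVec]
    rw [← Units.val_mul, inv_mul_cancel]
    simp
  right_inv v := by
    simp only [RingEquiv.apply_symm_apply]
    rw [Matrix.mulVec_mulVec, ← Units.val_mul, mul_inv_cancel]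
    simp

theorem perm_apply (g : GL ι F) (σ : F ≃+* F) (v : ι → F) :
    perm g σ v = (g : Matrix ι ι F) *ᵥ (fun i => σ (v i)) := rfl

theorem isSS_perm {g : GL ι F} {σ : F ≃+* F} {c : F} (hc : c ≠ 0)
    (h : ∀ v : ι → F, Q ((g : Matrix ι ι F) *ᵥ (fun i => σ (v i))) = c * σ (Q v)) : IsSS Q σ c (perm g σ) := by
  refine ⟨hc, fun u v => ?_, fun a v => ?_, h⟩
  · rw [perm_apply, perm_apply, perm_apply, ← Matrix.mulVec_add]
    congr 1
    funext i
    exact map_add σ _ _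
  · rw [perm_apply, perm_apply, ← Matrix.mulVec_smul]
    congr 1
    funext i
    exact map_mul σ _ _

theorem exists_isSS {g : GL ι F} {σ : F ≃+* F} (h : Cfsg.IsSemisimilarityPair ⇑Q g σ) :
    ∃ c, IsSS Q σ c (perm g σ) := by
  obtain ⟨c, hc⟩ := h
  exact ⟨c, isSS_perm c.ne_zero hc⟩

/-- Every semisimilitude comes from a pair. -/
theorem exists_pair_of_gam {M : Gam Q} {σ : F ≃+* F} {c : F} (hM : IsSS Q σ c M.1) :
    ∃ g : GL ι F, M.1 = perm g σ ∧ Cfsg.IsSemisimilarityPair ⇑Q g σ := by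
  obtain ⟨g, hg⟩ := H198.SemiMat.exists_gl σ M.1 M.1.bijective hM.add hM.smul
  refine ⟨g, Equiv.ext hg, Units.mk0 c hM.ne, fun v => ?_⟩
  rw [← hg, hM.form]
  rfl

/-- **Dictionary.** -/
theorem induced_iff (hG : Good Q) {g : GL ι F} {σ : F ≃+* F} {M : Gam Q} (hM : M.1 = perm g σ)
    {β : MulAut (Cfsg.POmega F ⇑Q)} :
    Cfsg.IsInducedBySemilinearPOmega ⇑Q g σ β ↔ tr hG β = Psi Q M := by
  have key : ∀ s s' : ↥(Cfsg.Omega F ⇑Q),
      ((((s' : ↥(Cfsg.isometryGroup F ⇑Q)) : GL ι F) : Matrix ι ι F) =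
        (g : Matrix ι ι F) * ((((s : ↥(Cfsg.isometryGroup F ⇑Q)) : GL ι F) : Matrix ι ι F)).map σ *
          ((g⁻¹ : GL ι F) : Matrix ι ι F)) ↔ conjE Q M (oe hG s) = oe hG s' := by
    intro s s'
    constructor
    · intro h
      apply AutOrth.SemiSim.ext_E
      intro v
      obtain ⟨v, rfl⟩ := M.1.surjective v
      rw [coe_conjE, conjLin_apply', oe_apply, hM]
      have h1 := H198.SemiMat.conj_mulVec h v
      exact h1.symm
    · intro h
      apply H198.SemiMat.eq_conj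
      intro v
      have h1 : (conjE Q M (oe hG s) : (ι → F) ≃ₗ[F] (ι → F)) (M.1 v) = (oe hG s' : (ι → F) ≃ₗ[F] (ι → F)) (M.1 v) := by
        rw [h]
      rw [coe_conjE, conjLin_apply', oe_apply, hM] at h1
      exact h1.symm
  constructor
  · intro h
    ext x
    induction x using QuotientGroup.induction_on with
    | H y =>
      obtain ⟨s, rfl⟩ := (oe hG).surjective y
      obtain ⟨s', hs'⟩ := (oe hG).surjective (conjE Q M (oe hG s))
      rw [tr_apply, h s s' ((key s s').2 hs'.symm), pe_mk, hs', Psi_mk]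
  · intro h s s' hss
    apply (pe hG).injective
    rw [← tr_apply, h, Psi_mk, (key s s').1 hss, pe_mk]

/-- `tr` as an isomorphism. -/
noncomputable def trE (hG : Good Q) : MulAut (Cfsg.POmega F ⇑Q) ≃* MulAut (P Q) := MulAut.congr (pe hG)

theorem trE_apply (hG : Good Q) (α : MulAut (Cfsg.POmega F ⇑Q)) : trE hG α = tr hG α := rfl

/-- An automorphism of order `r` and its semisimilitude. -/
theorem pow_eq_one (hG : Good Q) {β : MulAut (Cfsg.POmega F ⇑Q)} {M : Gam Q} (h : tr hG β = Psi Q M) {r : ℕ}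
    (hr : β ^ r = 1) : Psi Q M ^ r = 1 := by
  rw [← h, ← trE_apply, ← map_pow, hr, map_one]

/-- Automorphisms induced by similitudes. -/
theorem mem_pgo (hG : Good Q) {β : MulAut (Cfsg.POmega F ⇑Q)} {M : Gam Q} {σ : F ≃+* F} {c : F}
    (hM : IsSS Q σ c M.1) (h : tr hG β = Psi Q M) :
    ∃ g : GL ι F, Cfsg.IsSemisimilarityPair ⇑Q g σ ∧ M.1 = perm g σ ∧ Cfsg.IsInducedBySemilinearPOmega ⇑Q g σ β := by
  obtain ⟨g, hg, hs⟩ := exists_pair_of_gam hM
  exact ⟨g, hs, hg, (induced_iff hG hg).2 h⟩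

/-- Standard field automorphisms. -/
theorem std_iff (hG : Good Q) {σ : F ≃+* F} {M : Gam Q} (hM : M.1 = perm (1 : GL ι F) σ)
    {β : MulAut (Cfsg.POmega F ⇑Q)} : Cfsg.IsFieldAutPOmegaOf ⇑Q σ β ↔ tr hG β = Psi Q M := by
  rw [← induced_iff hG hM]
  unfold Cfsg.IsFieldAutPOmegaOf Cfsg.IsInducedBySemilinearPOmega
  simp

/-- similarities as pairs -/
theorem pair_of_sim {g : GL ι F} (hg : g ∈ Cfsg.Geo.quadSimilarityGroup (F := F) ⇑Q) :
    Cfsg.IsSemisimilarityPair ⇑Q g (RingEquiv.refl F) := by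
  obtain ⟨c, hc⟩ := hg
  exact ⟨c, hc⟩

theorem sim_of_pair {g : GL ι F} (hg : Cfsg.IsSemisimilarityPair ⇑Q g (RingEquiv.refl F)) :
    g ∈ Cfsg.Geo.quadSimilarityGroup (F := F) ⇑Q := by
  obtain ⟨c, hc⟩ := hg
  exact ⟨c, hc⟩

/-- Every automorphism comes from a semisimilitude. -/
theorem exists_gam (hG : Good Q) (hall : ∀ α : MulAut (Cfsg.POmega F ⇑Q), Ind ⇑Q α)
    (α : MulAut (Cfsg.POmega F ⇑Q)) : ∃ (M : Gam Q) (σ : F ≃+* F) (c : F), IsSS Q σ c M.1 ∧ tr hG α = Psi Q M := by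
  obtain ⟨g, σ, hp, hi⟩ := H198.OrthGamma.exists_pair (hall α)
  obtain ⟨c, hc⟩ := exists_isSS hp
  exact ⟨⟨perm g σ, σ, c, hc⟩, σ, c, hc, (induced_iff hG rfl).1 hi⟩

omit [Fintype ι] [DecidableEq ι] in
/-- The conjugate of a semisimilitude with a nontrivial field automorphism. -/
theorem conj_gam {M A : Gam Q} {σ : F ≃+* F} {c : F} (hM : IsSS Q σ c M.1) (hσ : σ ≠ 1) :
    ∃ (τ : F ≃+* F) (d : F), IsSS Q τ d (A⁻¹ * M * A).1 ∧ τ ≠ 1 := by
  obtain ⟨ρ, a, hA⟩ := A.2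
  refine ⟨_, _, (hA.inv.mul hM).mul hA, ?_⟩
  intro h
  apply hσ
  ext x
  have h1 := RingEquiv.congr_fun h (ρ.symm x)
  change ρ.symm (σ (ρ (ρ.symm x))) = ρ.symm x at h1
  rw [RingEquiv.apply_symm_apply] at h1
  exact ρ.symm.injective h1

/-- An automorphism which is, up to conjugation, induced by a semisimilitude with nontrivial field automorphism. -/
theorem exists_gam_of_conj (hG : Good Q) (hall : ∀ α : MulAut (Cfsg.POmega F ⇑Q), Ind ⇑Q α)
    {x α φ : MulAut (Cfsg.POmega F ⇑Q)} (h : α * x * α⁻¹ = φ) {M : Gam Q} {σ : F ≃+* F} {c : F}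
    (hM : IsSS Q σ c M.1) (hσ : σ ≠ 1) (hφ : tr hG φ = Psi Q M) :
    ∃ (N : Gam Q) (τ : F ≃+* F) (d : F), IsSS Q τ d N.1 ∧ τ ≠ 1 ∧ tr hG x = Psi Q N := by
  obtain ⟨A, ρ, a, hA, hα⟩ := exists_gam hG hall α
  obtain ⟨τ, d, h1, h2⟩ := conj_gam (A := A) hM hσ
  refine ⟨_, τ, d, h1, h2, ?_⟩
  have h3 : x = α⁻¹ * φ * α := by rw [← h]; group
  rw [h3, ← trE_apply, map_mul, map_mul, map_inv, trE_apply, trE_apply, hα, hφ, map_mul, map_mul, map_inv]

/-- Field automorphisms (coefficients in the prime field). -/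
theorem exists_gam_field (hG : Good Q) (hall : ∀ α : MulAut (Cfsg.POmega F ⇑Q), Ind ⇑Q α)
    (hprime : ∀ (σ : F ≃+* F) (v : ι → F), Q (fun i => σ (v i)) = σ (Q v))
    {x : MulAut (Cfsg.POmega F ⇑Q)} (hx : Cfsg.IsFieldAutClassPOmega ⇑Q x) :
    ∃ (N : Gam Q) (τ : F ≃+* F) (d : F), IsSS Q τ d N.1 ∧ τ ≠ 1 ∧ tr hG x = Psi Q N := by
  obtain ⟨α, φ, σ, hσ, hφ, hc⟩ := hx
  have h1 : IsSS Q σ 1 (perm (1 : GL ι F) σ) := isSS_perm one_ne_zero fun v => by
    rw [Units.val_one, Matrix.one_mulVec, hprime, one_mul]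
  exact exists_gam_of_conj hG hall hc (M := ⟨_, σ, 1, h1⟩) h1 hσ ((std_iff hG rfl).1 hφ)

/-- The closure of a set of automorphisms induced by similitudes. -/
theorem exists_gam_closure (hG : Good Q) {P : MulAut (Cfsg.POmega F ⇑Q) → Prop} {R : Gam Q → Prop}
    (h1 : R 1) (hmul : ∀ M N, R M → R N → R (M * N)) (hinv : ∀ M, R M → R M⁻¹)
    (hP : ∀ β, P β → ∃ M : Gam Q, R M ∧ tr hG β = Psi Q M) {δ : MulAut (Cfsg.POmega F ⇑Q)}
    (hδ : δ ∈ Cfsg.autSubgroupOf P) : ∃ M : Gam Q, R M ∧ tr hG δ = Psi Q M := by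
  unfold Cfsg.autSubgroupOf at hδ
  induction hδ using Subgroup.closure_induction with
  | mem x hx => exact hP x hx
  | one => exact ⟨1, h1, by rw [← trE_apply, map_one, map_one]⟩
  | mul x y _ _ hx hy =>
    obtain ⟨M, hM, hx⟩ := hx
    obtain ⟨N, hN, hy⟩ := hy
    exact ⟨M * N, hmul M N hM hN, by rw [← trE_apply, map_mul, map_mul, trE_apply, trE_apply, hx, hy]⟩
  | inv x _ hx =>
    obtain ⟨M, hM, hx⟩ := hx
    exact ⟨M⁻¹, hinv M hM, by rw [← trE_apply, map_inv, map_inv, trE_apply, hx]⟩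

/-- The automorphism with given image. -/
theorem exists_tr (hG : Good Q) (M : Gam Q) : ∃ β : MulAut (Cfsg.POmega F ⇑Q), tr hG β = Psi Q M :=
  (trE hG).surjective _

/-- Conjugation. -/
theorem eq_conj (hG : Good Q) {x y η : MulAut (Cfsg.POmega F ⇑Q)} {M N H : Gam Q} (hx : tr hG x = Psi Q M)
    (hy : tr hG y = Psi Q N) (hη : tr hG η = Psi Q H) (h : Psi Q N = Psi Q H * Psi Q M * (Psi Q H)⁻¹) :
    y = η * x * η⁻¹ := by
  apply (trE hG).injective
  rw [map_mul, map_mul, map_inv, trE_apply, trE_apply, trE_apply, hx, hy, hη, h]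

theorem tr_mul (hG : Good Q) (x y : MulAut (Cfsg.POmega F ⇑Q)) : tr hG (x * y) = tr hG x * tr hG y :=
  map_mul (trE hG) x y

end Cfsg.Agent.H208.Dict
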