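import Mathlib
import Cfsg.Agent.S1907

/-!
# A `p`-element `a` acting on a `p'`-group `K` with all `a * a ^ k` `p`-elements (helper208, for S3833, S3834, S3840)

`cl K x` : the `K`-class of `x`;  `NN K a` : the stabiliser (left multiplication) of `cl K a`.
-/

set_option autoImplicit false
set_option linter.unusedSectionVars false

namespace Cfsg.Agent.H208.AALem

open Subgroup

variable {G : Type*} [Group G]

/-- the `K`-class of `x` -/
def cl (K : Subgroup G) (x : G) : Set G := {z | ∃ k ∈ K, z = k * x * k⁻¹}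

theorem self_mem_cl (K : Subgroup G) (x : G) : x ∈ cl K x := ⟨1, K.one_mem, by group⟩

theorem conj_mem_cl {K : Subgroup G} {x z k : G} (hk : k ∈ K) (hz : z ∈ cl K x) : k * z * k⁻¹ ∈ cl K x := by
  obtain ⟨l, hl, rfl⟩ := hz
  exact ⟨k * l, K.mul_mem hk hl, by group⟩

theorem conj_mem_cl_iff {K : Subgroup G} {x z k : G} (hk : k ∈ K) : k * z * k⁻¹ ∈ cl K x ↔ z ∈ cl K x := by
  refine ⟨fun h => ?_, conj_mem_cl hk⟩
  have h1 := conj_mem_cl (K.inv_mem hk) h
  have e : k⁻¹ * (k * z * k⁻¹) * k⁻¹⁻¹ = z := by group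
  rwa [e] at h1

theorem mem_norm_conj {K : Subgroup G} {y k : G} (hy : y ∈ normalizer (K : Set G)) (hk : k ∈ K) : y * k * y⁻¹ ∈ K :=
  (mem_normalizer_iff.1 hy k).1 hk

theorem mem_norm_conj' {K : Subgroup G} {y k : G} (hy : y ∈ normalizer (K : Set G)) (hk : k ∈ K) : y⁻¹ * k * y ∈ K := by
  have := mem_norm_conj (inv_mem hy) hk
  rwa [inv_inv] at this

/-- conjugation by an element normalising `K` -/
theorem norm_mem_cl {K : Subgroup G} {x z y : G} (hy : y ∈ normalizer (K : Set G)) (hz : z ∈ cl K x) :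
    y * z * y⁻¹ ∈ cl K (y * x * y⁻¹) := by
  obtain ⟨k, hk, rfl⟩ := hz
  exact ⟨y * k * y⁻¹, mem_norm_conj hy hk, by group⟩

theorem norm_mem_cl_iff {K : Subgroup G} {x z y : G} (hy : y ∈ normalizer (K : Set G)) :
    y * z * y⁻¹ ∈ cl K (y * x * y⁻¹) ↔ z ∈ cl K x := by
  refine ⟨fun h => ?_, norm_mem_cl hy⟩
  have h1 := norm_mem_cl (inv_mem hy) h
  have e : y⁻¹ * (y * z * y⁻¹) * y⁻¹⁻¹ = z := by group
  have e' : y⁻¹ * (y * x * y⁻¹) * y⁻¹⁻¹ = x := by group
  rwa [e, e'] at h1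

theorem norm_cl_self {K : Subgroup G} {x z : G} (hx : x ∈ normalizer (K : Set G)) :
    x * z * x⁻¹ ∈ cl K x ↔ z ∈ cl K x := by
  have := norm_mem_cl_iff (K := K) (x := x) (z := z) hx
  have e : x * x * x⁻¹ = x := by group
  rwa [e] at this

theorem mem_normalizer_of_mem_cl {K : Subgroup G} {x z : G} (hx : x ∈ normalizer (K : Set G)) (hz : z ∈ cl K x) :
    z ∈ normalizer (K : Set G) := by
  obtain ⟨k, hk, rfl⟩ := hz
  exact mul_mem (mul_mem (le_normalizer hk) hx) (inv_mem (le_normalizer hk))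

theorem orderOf_of_mem_cl {K : Subgroup G} {x z : G} (hz : z ∈ cl K x) : orderOf z = orderOf x := by
  obtain ⟨k, hk, rfl⟩ := hz
  exact MulEquiv.orderOf_eq (MulAut.conj k) x

/-- elements of the class are congruent modulo `K` -/
theorem inv_mul_mem {K : Subgroup G} {x z : G} (hx : x ∈ normalizer (K : Set G)) (hz : z ∈ cl K x) : x⁻¹ * z ∈ K := by
  obtain ⟨k, hk, rfl⟩ := hz
  have e : x⁻¹ * (k * x * k⁻¹) = (x⁻¹ * k * x) * k⁻¹ := by group
  rw [e]
  exact mul_mem (mem_norm_conj' hx hk) (inv_mem hk)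

/-- the stabiliser of `cl K x` under left multiplication -/
def NN (K : Subgroup G) (x : G) : Subgroup G where
  carrier := {n | ∀ z, n * z ∈ cl K x ↔ z ∈ cl K x}
  mul_mem' := by
    intro m n hm hn z
    rw [mul_assoc, hm, hn]
  one_mem' := fun z => by rw [one_mul]
  inv_mem' := by
    intro n hn z
    rw [← hn (n⁻¹ * z), mul_inv_cancel_left]

theorem mem_NN {K : Subgroup G} {x n : G} : n ∈ NN K x ↔ ∀ z, n * z ∈ cl K x ↔ z ∈ cl K x := Iff.rfl

/-- `NN K x` is normalised by `K` -/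
theorem conj_mem_NN {K : Subgroup G} {x n k : G} (hk : k ∈ K) (hn : n ∈ NN K x) : k * n * k⁻¹ ∈ NN K x := by
  intro z
  have e : k * n * k⁻¹ * z = k * (n * (k⁻¹ * z * k⁻¹⁻¹)) * k⁻¹ := by group
  rw [e, conj_mem_cl_iff hk, hn, conj_mem_cl_iff (inv_mem hk)]

/-- `y (NN K x) y⁻¹ = NN K (y x y⁻¹)` -/
theorem norm_mem_NN {K : Subgroup G} {x n y : G} (hy : y ∈ normalizer (K : Set G)) :
    y * n * y⁻¹ ∈ NN K (y * x * y⁻¹) ↔ n ∈ NN K x := by
  constructor
  · intro h z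
    have h1 := h (y * z * y⁻¹)
    have e : y * n * y⁻¹ * (y * z * y⁻¹) = y * (n * z) * y⁻¹ := by group
    rw [e, norm_mem_cl_iff hy, norm_mem_cl_iff hy] at h1
    exact h1
  · intro h z
    have e : y * n * y⁻¹ * z = y * (n * (y⁻¹ * z * y)) * y⁻¹ := by group
    have e' : z = y * (y⁻¹ * z * y) * y⁻¹ := by group
    rw [e, norm_mem_cl_iff hy, h]
    conv_rhs => rw [e', norm_mem_cl_iff hy]

theorem norm_mem_NN_self {K : Subgroup G} {x n : G} (hx : x ∈ normalizer (K : Set G)) :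
    x * n * x⁻¹ ∈ NN K x ↔ n ∈ NN K x := by
  have := norm_mem_NN (K := K) (x := x) (n := n) hx
  have e : x * x * x⁻¹ = x := by group
  rwa [e] at this

section Fin

variable [Finite G] {p : ℕ} [hp : Fact p.Prime]

theorem finite_cl (K : Subgroup G) (x : G) : (cl K x).Finite := Set.toFinite _

theorem ncard_cl_conj {K : Subgroup G} {x y : G} (hy : y ∈ normalizer (K : Set G)) :
    (cl K (y * x * y⁻¹)).ncard = (cl K x).ncard := by
  have h1 : cl K (y * x * y⁻¹) = (fun z => y * z * y⁻¹) '' cl K x := by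
    ext z
    constructor
    · intro hz
      refine ⟨y⁻¹ * z * y, ?_, by group⟩
      have e : z = y * (y⁻¹ * z * y) * y⁻¹ := by group
      rw [e, norm_mem_cl_iff hy] at hz
      exact hz
    · rintro ⟨w, hw, rfl⟩
      exact norm_mem_cl hy hw
  rw [h1, Set.ncard_image_of_injective]
  intro z w h
  have h2 : y * z * y⁻¹ = y * w * y⁻¹ := h
  exact mul_left_cancel (mul_right_cancel h2)

omit [Finite G] in
theorem ncard_cl_sq {K : Subgroup G} {x : G} (hx : Odd (orderOf x)) :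
    (cl K (x * x)).ncard = (cl K x).ncard := by
  obtain ⟨m, hm⟩ := hx
  have hxm : (x * x) ^ (m + 1) = x := by
    have e : (x * x) ^ (m + 1) = x ^ (2 * m + 1) * x := by
      rw [← pow_two, ← pow_mul, ← pow_succ]
      congr 1
    rw [e, ← hm, pow_orderOf_eq_one, one_mul]
  have h1 : cl K (x * x) = (fun z => z * z) '' cl K x := by
    ext z
    constructor
    · rintro ⟨k, hk, rfl⟩
      exact ⟨k * x * k⁻¹, ⟨k, hk, rfl⟩, by group⟩
    · rintro ⟨w, ⟨k, hk, rfl⟩, rfl⟩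
      exact ⟨k, hk, by group⟩
  refine (congrArg Set.ncard h1).trans (Set.InjOn.ncard_image ?_)
  rintro _ ⟨k, hk, rfl⟩ _ ⟨l, hl, rfl⟩ h
  have h2 : k * x * k⁻¹ * (k * x * k⁻¹) = l * x * l⁻¹ * (l * x * l⁻¹) := h
  have h3 : k * (x * x) * k⁻¹ = l * (x * x) * l⁻¹ := by
    calc k * (x * x) * k⁻¹ = k * x * k⁻¹ * (k * x * k⁻¹) := by group
      _ = l * x * l⁻¹ * (l * x * l⁻¹) := h2
      _ = l * (x * x) * l⁻¹ := by group
  have h4 := congrArg (fun t => t ^ (m + 1)) h3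
  simp only [conj_pow, hxm] at h4
  exact h4

/-- products of two elements of the class -/
theorem mul_mem_cl {K : Subgroup G} (hK : (Nat.card K).Coprime p) {a : G} (haK : a ∈ normalizer (K : Set G))
    (ha : ∃ k : ℕ, orderOf a = p ^ k) (h : ∀ k ∈ K, ∃ j : ℕ, orderOf (a * (k * a * k⁻¹)) = p ^ j) {x y : G}
    (hx : x ∈ cl K a) (hy : y ∈ cl K a) : x * y ∈ cl K (a * a) := by
  obtain ⟨u, hu, rfl⟩ := hx
  obtain ⟨v, hv, rfl⟩ := hy
  have hw : u⁻¹ * v ∈ K := mul_mem (inv_mem hu) hv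
  have ha2 : ∃ k : ℕ, orderOf (a * a) = p ^ k := by
    obtain ⟨k, hk⟩ := ha
    have h1 : orderOf (a * a) ∣ p ^ k := by
      rw [← hk, ← pow_two]
      exact orderOf_pow_dvd 2
    obtain ⟨j, -, hj⟩ := (Nat.dvd_prime_pow hp.out).1 h1
    exact ⟨j, hj⟩
  obtain ⟨k, hk, e⟩ := S1907.exists_conj_of_coset (y := a * a) (z := a * (u⁻¹ * v * a * (u⁻¹ * v)⁻¹)) hK ha2 (h _ hw)
    (mul_mem haK haK) (by
      have e1 : (a * a)⁻¹ * (a * (u⁻¹ * v * a * (u⁻¹ * v)⁻¹)) = a⁻¹ * (u⁻¹ * v * a * (u⁻¹ * v)⁻¹) := by group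
      rw [e1]
      exact inv_mul_mem haK ⟨_, hw, rfl⟩)
  refine ⟨u * k, mul_mem hu hk, ?_⟩
  have e2 : u * a * u⁻¹ * (v * a * v⁻¹) = u * (a * (u⁻¹ * v * a * (u⁻¹ * v)⁻¹)) * u⁻¹ := by group
  rw [e2, ← e]
  group

/-- the standing hypotheses -/
structure Act (p : ℕ) (K : Subgroup G) (a : G) : Prop where
  cop : (Nat.card K).Coprime p
  norm : a ∈ normalizer (K : Set G)
  pel : ∃ k : ℕ, orderOf a = p ^ k
  odd : Odd (orderOf a)
  sq : ∀ k ∈ K, ∃ j : ℕ, orderOf (a * (k * a * k⁻¹)) = p ^ j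

variable {K : Subgroup G} {a : G}

/-- `x * cl K a = cl K (a * a)` for `x ∈ cl K a` -/
theorem Act.mul_mem_iff (h : Act p K a) {x y : G} (hx : x ∈ cl K a) : x * y ∈ cl K (a * a) ↔ y ∈ cl K a := by
  refine ⟨fun hy => ?_, fun hy => mul_mem_cl h.cop h.norm h.pel h.sq hx hy⟩
  have h1 : (fun z => x * z) '' cl K a ⊆ cl K (a * a) := by
    rintro _ ⟨z, hz, rfl⟩
    exact mul_mem_cl h.cop h.norm h.pel h.sq hx hz
  have h2 : (fun z => x * z) '' cl K a = cl K (a * a) := by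
    refine Set.eq_of_subset_of_ncard_le h1 ?_ (finite_cl _ _)
    rw [ncard_cl_sq h.odd, Set.ncard_image_of_injective _ (mul_right_injective x)]
  rw [← h2] at hy
  obtain ⟨z, hz, e⟩ := hy
  have e' : x * z = x * y := e
  rwa [← mul_left_cancel e']

/-- `x⁻¹ y ∈ NN K a` for `x, y` in the class -/
theorem Act.inv_mul_mem_NN (h : Act p K a) {x y : G} (hx : x ∈ cl K a) (hy : y ∈ cl K a) : x⁻¹ * y ∈ NN K a := by
  intro z
  rw [← h.mul_mem_iff hx, ← h.mul_mem_iff hy, ← mul_assoc, mul_inv_cancel_left]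

/-- description of `NN K a` -/
theorem Act.mem_NN_iff (h : Act p K a) {n : G} : n ∈ NN K a ↔ a * n ∈ cl K a := by
  constructor
  · intro hn
    -- `n a ∈ cl`, `a n a⁻¹ ∈ NN`
    have h1 := (norm_mem_NN_self h.norm).2 hn
    have h2 := (h1 a).2 (self_mem_cl K a)
    have e : a * n * a⁻¹ * a = a * n := by group
    rwa [e] at h2
  · intro hn
    have h1 := h.inv_mul_mem_NN (self_mem_cl K a) hn
    rwa [inv_mul_cancel_left] at h1

theorem Act.NN_le (h : Act p K a) : NN K a ≤ K := by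
  intro n hn
  have h1 := inv_mul_mem h.norm (h.mem_NN_iff.1 hn)
  rwa [inv_mul_cancel_left] at h1

theorem Act.norm_NN (h : Act p K a) : a ∈ normalizer (NN K a : Set G) :=
  mem_normalizer_iff.2 fun n => (norm_mem_NN_self h.norm).symm

omit [Finite G] hp in
theorem norm_NN_of_mem {k : G} (hk : k ∈ K) : k ∈ normalizer (NN K a : Set G) := by
  refine mem_normalizer_iff.2 fun n => ⟨conj_mem_NN hk, fun h => ?_⟩
  have h1 := conj_mem_NN (inv_mem hk) h
  have e : k⁻¹ * (k * n * k⁻¹) * k⁻¹⁻¹ = n := by group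
  rwa [e] at h1

/-- every element of the class is `NN`-conjugate to `a` -/
theorem Act.exists_NN (h : Act p K a) {z : G} (hz : z ∈ cl K a) : ∃ n ∈ NN K a, n * a * n⁻¹ = z := by
  have hc : (Nat.card (NN K a)).Coprime p := Nat.Coprime.coprime_dvd_left (card_dvd_of_le h.NN_le) h.cop
  refine S1907.exists_conj_of_coset (y := a) (z := z) hc h.pel ?_ h.norm_NN ?_
  · rw [orderOf_of_mem_cl hz]
    exact h.pel
  · rw [h.mem_NN_iff, mul_inv_cancel_left]
    exact hz

theorem Act.card_NN (h : Act p K a) : Nat.card (NN K a) = (cl K a).ncard := by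
  have h1 : cl K a = (fun n => a * n) '' (NN K a : Set G) := by
    ext z
    constructor
    · intro hz
      refine ⟨a⁻¹ * z, ?_, mul_inv_cancel_left a z⟩
      change a⁻¹ * z ∈ NN K a
      rw [h.mem_NN_iff, mul_inv_cancel_left]
      exact hz
    · rintro ⟨n, hn, rfl⟩
      exact h.mem_NN_iff.1 hn
  rw [h1, Set.ncard_image_of_injective _ (mul_right_injective a)]
  rfl

/-- `a` acts without fixed points on `NN K a` -/
theorem Act.eq_one_of_comm (h : Act p K a) {n : G} (hn : n ∈ NN K a) (hc : a * n = n * a) : n = 1 := by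
  classical
  let f : NN K a → cl K a := fun m => ⟨m * a * (m : G)⁻¹, ⟨m, h.NN_le m.2, rfl⟩⟩
  have hf : Function.Surjective f := by
    rintro ⟨z, hz⟩
    obtain ⟨m, hm, e⟩ := h.exists_NN hz
    exact ⟨⟨m, hm⟩, Subtype.ext e⟩
  have hfin : Finite (cl K a) := (finite_cl K a).to_subtype
  have hb : Function.Bijective f := by
    refine (Nat.bijective_iff_surjective_and_card f).2 ⟨hf, ?_⟩
    rw [h.card_NN]
    rfl
  have h1 : f ⟨n, hn⟩ = f ⟨1, one_mem _⟩ := by
    apply Subtype.ext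
    change n * a * n⁻¹ = 1 * a * 1⁻¹
    rw [← hc]
    group
  exact congrArg Subtype.val (hb.1 h1)

/-- `K = NN * C_K(a)` -/
theorem Act.exists_mul (h : Act p K a) {k : G} (hk : k ∈ K) : ∃ n ∈ NN K a, ∃ c ∈ K, a * c = c * a ∧ n * c = k := by
  obtain ⟨n, hn, e⟩ := h.exists_NN ⟨k, hk, rfl⟩
  refine ⟨n, hn, n⁻¹ * k, mul_mem (inv_mem (h.NN_le hn)) hk, ?_, mul_inv_cancel_left n k⟩
  have h1 : n * a * n⁻¹ * k = k * a := by rw [e]; group
  calc a * (n⁻¹ * k) = n⁻¹ * (n * a * n⁻¹ * k) := by group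
    _ = n⁻¹ * k * a := by rw [h1]; group

/-- two conjugates with `a b` conjugate to `a²` give the same subgroup -/
theorem Act.NN_eq (h : Act p K a) {b y w : G} (hy : y ∈ normalizer (K : Set G)) (hb : b = y * a * y⁻¹)
    (hw : w ∈ normalizer (K : Set G)) (hab : a * b = w * (a * a) * w⁻¹)
    (hsq : ∀ k ∈ K, ∃ j : ℕ, orderOf (a * (k * b * k⁻¹)) = p ^ j) : NN K a = NN K b := by
  have hbK : b ∈ normalizer (K : Set G) := by
    rw [hb]; exact mul_mem (mul_mem hy h.norm) (inv_mem hy)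
  have hd : ∃ k : ℕ, orderOf (a * b) = p ^ k := by
    have := hsq 1 (one_mem _)
    rwa [one_mul, inv_one, mul_one] at this
  have hdK : a * b ∈ normalizer (K : Set G) := mul_mem h.norm hbK
  have hcard : (cl K (a * b)).ncard = (cl K a).ncard := by
    rw [hab, ncard_cl_conj hw, ncard_cl_sq h.odd]
  -- first product
  have h1 : (fun z => a * z) '' cl K b ⊆ cl K (a * b) := by
    rintro _ ⟨z, ⟨k, hk, rfl⟩, rfl⟩
    change a * (k * b * k⁻¹) ∈ cl K (a * b)
    obtain ⟨l, hl, e⟩ := S1907.exists_conj_of_coset (y := a * b) (z := a * (k * b * k⁻¹)) h.cop hd (hsq k hk) hdK (by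
      have e1 : (a * b)⁻¹ * (a * (k * b * k⁻¹)) = b⁻¹ * (k * b * k⁻¹) := by group
      rw [e1]
      exact inv_mul_mem hbK ⟨k, hk, rfl⟩)
    exact ⟨l, hl, e.symm⟩
  have h2 : (fun z => a * z) '' cl K b = cl K (a * b) := by
    refine Set.eq_of_subset_of_ncard_le h1 ?_ (finite_cl _ _)
    rw [hcard, Set.ncard_image_of_injective _ (mul_right_injective a), hb, ncard_cl_conj hy]
  -- second product
  have h3 : (fun z => z * b) '' cl K a ⊆ cl K (a * b) := by
    rintro _ ⟨z, ⟨k, hk, rfl⟩, rfl⟩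
    change k * a * k⁻¹ * b ∈ cl K (a * b)
    have hpe : ∃ j : ℕ, orderOf (k * a * k⁻¹ * b) = p ^ j := by
      obtain ⟨j, hj⟩ := hsq k⁻¹ (inv_mem hk)
      refine ⟨j, ?_⟩
      rw [← hj]
      have e : k * a * k⁻¹ * b = MulAut.conj k (a * (k⁻¹ * b * k⁻¹⁻¹)) := by
        rw [MulAut.conj_apply]; group
      rw [e]
      exact MulEquiv.orderOf_eq _ _
    obtain ⟨l, hl, e⟩ := S1907.exists_conj_of_coset (y := a * b) (z := k * a * k⁻¹ * b) h.cop hd hpe hdK (by
      have e1 : (a * b)⁻¹ * (k * a * k⁻¹ * b) = b⁻¹ * (a⁻¹ * (k * a * k⁻¹)) * b := by group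
      rw [e1]
      exact mem_norm_conj' hbK (inv_mul_mem h.norm ⟨k, hk, rfl⟩))
    exact ⟨l, hl, e.symm⟩
  have h4 : (fun z => z * b) '' cl K a = cl K (a * b) := by
    refine Set.eq_of_subset_of_ncard_le h3 ?_ (finite_cl _ _)
    rw [hcard, Set.ncard_image_of_injective _ (mul_left_injective b)]
  -- membership
  have m2 : ∀ z, a * z ∈ cl K (a * b) ↔ z ∈ cl K b := by
    intro z
    rw [← h2]
    constructor
    · rintro ⟨w, hw, e⟩
      rwa [← mul_left_cancel (show a * w = a * z from e)]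
    · intro hz
      exact ⟨z, hz, rfl⟩
  have m4 : ∀ z, z * b ∈ cl K (a * b) ↔ z ∈ cl K a := by
    intro z
    rw [← h4]
    constructor
    · rintro ⟨w, hw, e⟩
      rwa [← mul_right_cancel (show w * b = z * b from e)]
    · intro hz
      exact ⟨z, hz, rfl⟩
  -- `n ∈ NN K a ↔ n` stabilises `cl K (a * b) ↔ a⁻¹ n a ∈ NN K b`
  have key : ∀ n, n ∈ NN K a ↔ a⁻¹ * n * a ∈ NN K b := by
    intro n
    have k1 : n ∈ NN K a ↔ ∀ z, n * z ∈ cl K (a * b) ↔ z ∈ cl K (a * b) := by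
      constructor
      · intro hn z
        have e1 : n * z = n * (z * b⁻¹) * b := by group
        have e2 : z = z * b⁻¹ * b := by group
        rw [e1, m4, hn]
        conv_rhs => rw [e2, m4]
      · intro hn z
        have := hn (z * b)
        rwa [← mul_assoc, m4, m4] at this
    have k2 : a⁻¹ * n * a ∈ NN K b ↔ ∀ z, n * z ∈ cl K (a * b) ↔ z ∈ cl K (a * b) := by
      constructor
      · intro hn z
        have e1 : n * z = a * (a⁻¹ * n * a * (a⁻¹ * z)) := by group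
        have e2 : z = a * (a⁻¹ * z) := by group
        rw [e1, m2, hn]
        conv_rhs => rw [e2, m2]
      · intro hn z
        have h5 := hn (a * z)
        have e1 : n * (a * z) = a * (a⁻¹ * n * a * z) := by group
        rwa [e1, m2, m2] at h5
    rw [k1, k2]
  ext n
  -- `n ∈ NN K a ↔ a n a⁻¹ ∈ NN K a ↔ n ∈ NN K b`
  rw [← norm_mem_NN_self h.norm, key]
  have e : a⁻¹ * (a * n * a⁻¹) * a = n := by group
  rw [e]

end Fin

end Cfsg.Agent.H208.AALem
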