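import Mathlib
import Cfsg.Agent.H208.AALem
import Cfsg.Agent.SignalizersComponents.CoprimeGen
import Cfsg.Agent.SignalizersComponents.NoOffender

/-!
# Elements of `A` centralise the abelian `p`-subgroups they normalise (helper208, for S3833, S3834, S3840)
-/

set_option autoImplicit false
set_option linter.unusedSectionVars false

namespace Cfsg.Agent.H208.AAAbel

open Subgroup
open Cfsg.Agent.H208.AALem

variable {G : Type*} [Group G] [Finite G] {p : ℕ} [hp : Fact p.Prime]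

/-- the standing hypotheses -/
structure Cls (p : ℕ) (A : Set G) : Prop where
  odd : p ≠ 2
  norm : ∀ g : G, ∀ c ∈ A, g * c * g⁻¹ ∈ A
  ord : ∀ a ∈ A, orderOf a = p
  sq : ∀ a ∈ A, ∀ b ∈ A, ∃ k : ℕ, orderOf (a * b) = p ^ k

variable {A : Set G}

theorem odd_p (hp2 : p ≠ 2) : Odd p := hp.out.odd_of_ne_two hp2

theorem Cls.act (h : Cls p A) {a : G} (ha : a ∈ A) {K : Subgroup G} [hKn : K.Normal] (hK : (Nat.card K).Coprime p) :
    Act p K a where
  cop := hK
  norm := by rw [normalizer_eq_top]; exact mem_top _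
  pel := ⟨1, by rw [h.ord a ha, pow_one]⟩
  odd := by rw [h.ord a ha]; exact odd_p h.odd
  sq := fun k _ => h.sq a ha _ (h.norm k a ha)

theorem eq_one_of_sq {P : Subgroup G} (hP : IsPGroup p P) (hp2 : p ≠ 2) {w : G} (hw : w ∈ P) (h : w * w = 1) : w = 1 := by
  obtain ⟨k, hk⟩ := hP ⟨w, hw⟩
  have hk' : w ^ p ^ k = 1 := congrArg Subtype.val hk
  have h1 : orderOf w ∣ p ^ k := orderOf_dvd_of_pow_eq_one hk'
  have h2 : orderOf w ∣ 2 := orderOf_dvd_of_pow_eq_one (by rw [pow_two]; exact h)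
  have h3 : (p ^ k).Coprime 2 := Nat.Coprime.pow_left k ((Nat.coprime_primes hp.out Nat.prime_two).2 hp2)
  exact orderOf_eq_one_iff.1 (Nat.eq_one_of_dvd_coprimes h3 h1 h2)

/-- conjugation by `a⁻¹` plus one is surjective on an abelian `p`-group, `p` odd -/
theorem exists_root {P : Subgroup G} (hP : IsPGroup p P) (hcomm : ∀ x ∈ P, ∀ y ∈ P, x * y = y * x) (hp2 : p ≠ 2)
    {a : G} (ha : orderOf a = p) (haP : a ∈ normalizer (P : Set G)) {y : G} (hy : y ∈ P) :
    ∃ w ∈ P, a⁻¹ * w * a * w = y := by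
  have hφ : ∀ w ∈ P, a⁻¹ * w * a ∈ P := fun w hw => mem_norm_conj' haP hw
  let f : P → P := fun w => ⟨a⁻¹ * w * a * w, P.mul_mem (hφ w w.2) w.2⟩
  have hinj : Function.Injective f := by
    intro w w' hww
    have h1 : a⁻¹ * (w : G) * a * w = a⁻¹ * (w' : G) * a * w' := congrArg Subtype.val hww
    obtain ⟨u, hu⟩ : ∃ u, u = (w : G) * (w' : G)⁻¹ := ⟨_, rfl⟩
    have huP : u ∈ P := by rw [hu]; exact P.mul_mem w.2 (P.inv_mem w'.2)
    have e1 : a⁻¹ * u * a * u = 1 := by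
      have c1 := hcomm _ (hφ _ (P.inv_mem w'.2)) _ w.2
      have c2 : a⁻¹ * u * a * u = (a⁻¹ * w * a) * ((a⁻¹ * (w' : G)⁻¹ * a) * w) * (w' : G)⁻¹ := by
        rw [hu]; group
      rw [c2, c1]
      have c3 : a⁻¹ * (w : G) * a * (w * (a⁻¹ * (w' : G)⁻¹ * a)) * (w' : G)⁻¹ =
          (a⁻¹ * (w : G) * a * w) * (a⁻¹ * (w' : G)⁻¹ * a) * (w' : G)⁻¹ := by group
      rw [c3, h1]
      have c4 := hcomm _ (hφ _ (P.inv_mem w'.2)) _ w'.2
      have c5 : a⁻¹ * (w' : G) * a * w' * (a⁻¹ * (w' : G)⁻¹ * a) * (w' : G)⁻¹ =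
          a⁻¹ * (w' : G) * a * (w' * (a⁻¹ * (w' : G)⁻¹ * a)) * (w' : G)⁻¹ := by group
      rw [c5, ← c4]
      group
    have e2 : a⁻¹ * u * a = u⁻¹ := mul_eq_one_iff_eq_inv.1 e1
    -- odd powers invert
    have e3 : ∀ m : ℕ, (a ^ (2 * m))⁻¹ * u * a ^ (2 * m) = u := by
      intro m
      induction m with
      | zero => simp
      | succ m ih =>
        have e4 : (a ^ (2 * (m + 1)))⁻¹ * u * a ^ (2 * (m + 1)) =
            (a ^ (2 * m))⁻¹ * (a⁻¹ * (a⁻¹ * u * a) * a) * a ^ (2 * m) := by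
          have e5 : a ^ (2 * (m + 1)) = a * (a * a ^ (2 * m)) := by
            rw [← pow_succ', ← pow_succ']
            congr 1
          rw [e5]
          group
        have e6 : a⁻¹ * u⁻¹ * a = u := by
          have : a⁻¹ * u⁻¹ * a = (a⁻¹ * u * a)⁻¹ := by group
          rw [this, e2, inv_inv]
        rw [e4, e2, e6, ih]
    obtain ⟨m, hm⟩ := odd_p (p := p) hp2
    have e7 : u = u⁻¹ := by
      have e8 : a ^ (2 * m + 1) = 1 := by rw [← hm, ← ha, pow_orderOf_eq_one]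
      have e11 : a ^ (2 * m) = a⁻¹ := by
        rw [pow_succ] at e8
        exact eq_inv_of_mul_eq_one_left e8
      have e9 : (a ^ (2 * m))⁻¹ = a := by rw [e11, inv_inv]
      have e10 := e3 m
      rw [e9, e11] at e10
      -- `a u a⁻¹ = u`
      have e12 : a⁻¹ * u * a = u := by
        conv_lhs => rw [← e10]
        group
      rw [← e2, e12]
    have e8 : u = 1 := eq_one_of_sq hP hp2 huP (by
      conv_lhs => rw [e7]
      rw [← e7]
      conv_lhs =>
        arg 1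
        rw [e7]
      exact inv_mul_cancel u)
    rw [hu, mul_inv_eq_one] at e8
    exact Subtype.ext e8
  have hsurj : Function.Surjective f := Finite.surjective_of_injective hinj
  obtain ⟨w, hw⟩ := hsurj ⟨y, hy⟩
  exact ⟨w, w.2, congrArg Subtype.val hw⟩

/-- `a * (y a y⁻¹)` is `P`-conjugate to `a²` -/
theorem exists_conj_sq {P : Subgroup G} (hP : IsPGroup p P) (hcomm : ∀ x ∈ P, ∀ y ∈ P, x * y = y * x) (hp2 : p ≠ 2)
    {a : G} (ha : orderOf a = p) (haP : a ∈ normalizer (P : Set G)) {y : G} (hy : y ∈ P) :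
    ∃ w ∈ P, a * (y * a * y⁻¹) = w * (a * a) * w⁻¹ := by
  obtain ⟨w, hw, e⟩ := exists_root hP hcomm hp2 ha haP hy
  refine ⟨w, hw, ?_⟩
  have c1 := hcomm _ hw _ (mem_norm_conj haP (P.inv_mem hw))
  -- `w * (a w⁻¹ a⁻¹) = (a w⁻¹ a⁻¹) * w`
  rw [← e]
  have e1 : a * (a⁻¹ * w * a * w * a * (a⁻¹ * w * a * w)⁻¹) = w * a * (w * (a * w⁻¹ * a⁻¹)) * w⁻¹ * a := by group
  rw [e1, c1]
  group

variable {K : Subgroup G} [hKn : K.Normal]

theorem Cls.NN_eq (h : Cls p A) (hK : (Nat.card K).Coprime p) {P : Subgroup G} (hP : IsPGroup p P)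
    (hcomm : ∀ x ∈ P, ∀ y ∈ P, x * y = y * x) {a : G} (ha : a ∈ A) (haP : a ∈ normalizer (P : Set G)) {y : G}
    (hy : y ∈ P) : NN K a = NN K (y * a * y⁻¹) := by
  obtain ⟨w, hw, e⟩ := exists_conj_sq hP hcomm h.odd (h.ord a ha) haP hy
  have hn : ∀ g : G, g ∈ normalizer (K : Set G) := fun g => by rw [normalizer_eq_top]; exact mem_top _
  exact (h.act ha hK).NN_eq (hn y) rfl (hn w) e (fun k _ => h.sq a ha _ (h.norm k _ (h.norm y a ha)))

/-- **elements of `A` centralise the abelian `p`-subgroups they normalise** -/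
theorem Cls.comm (h : Cls p A) (hK : (Nat.card K).Coprime p) (hC : centralizer (K : Set G) ≤ K)
    {P : Subgroup G} (hP : IsPGroup p P)
    (hcomm : ∀ x ∈ P, ∀ y ∈ P, x * y = y * x) {a : G} (ha : a ∈ A) (haP : a ∈ normalizer (P : Set G)) {x : G}
    (hx : x ∈ P) : a * x = x * a := by
  by_contra hax
  have hφ : ∀ w ∈ P, a⁻¹ * w * a ∈ P := fun w hw => mem_norm_conj' haP hw
  have hap : a ^ p = 1 := by rw [← h.ord a ha]; exact pow_orderOf_eq_one a
  -- the subgroup of commutators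
  let f : P →* P :=
    { toFun := fun w => ⟨a⁻¹ * w * a * (w : G)⁻¹, P.mul_mem (hφ w w.2) (P.inv_mem w.2)⟩
      map_one' := Subtype.ext (by simp)
      map_mul' := by
        rintro ⟨u, hu⟩ ⟨v, hv⟩
        apply Subtype.ext
        change a⁻¹ * (u * v) * a * (u * v)⁻¹ = a⁻¹ * u * a * u⁻¹ * (a⁻¹ * v * a * v⁻¹)
        have c1 := hcomm _ (P.inv_mem hu) _ (P.mul_mem (hφ v hv) (P.inv_mem hv))
        have e1 : a⁻¹ * (u * v) * a * (u * v)⁻¹ = a⁻¹ * u * a * ((a⁻¹ * v * a * v⁻¹) * u⁻¹) := by group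
        rw [e1, ← c1]
        group }
  have hf : ∀ w : P, ((f w : P) : G) = a⁻¹ * w * a * (w : G)⁻¹ := fun _ => rfl
  set I : Subgroup G := f.range.map P.subtype with hI
  have hmemI : ∀ z, z ∈ I ↔ ∃ w ∈ P, z = a⁻¹ * w * a * w⁻¹ := by
    intro z
    constructor
    · rintro ⟨_, ⟨w, rfl⟩, rfl⟩
      exact ⟨w, w.2, rfl⟩
    · rintro ⟨w, hw, rfl⟩
      exact ⟨f ⟨w, hw⟩, ⟨_, rfl⟩, rfl⟩
  have hIP : I ≤ P := map_subtype_le _
  have hIne : I ≠ ⊥ := by
    intro hbot
    apply hax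
    have h1 : a⁻¹ * x * a * x⁻¹ ∈ I := (hmemI _).2 ⟨x, hx, rfl⟩
    rw [hbot, mem_bot] at h1
    calc a * x = a * ((a⁻¹ * x * a * x⁻¹) * x) := by rw [h1, one_mul]
      _ = x * a := by group
  have hIa : zpowers a ≤ normalizer (I : Set G) := by
    rw [zpowers_le]
    have key : ∀ z ∈ I, a⁻¹ * z * a ∈ I := by
      intro z hz
      obtain ⟨w, hw, rfl⟩ := (hmemI z).1 hz
      exact (hmemI _).2 ⟨a⁻¹ * w * a, hφ w hw, by group⟩
    have key' : ∀ z ∈ I, a * z * a⁻¹ ∈ I := by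
      intro z hz
      obtain ⟨w, hw, rfl⟩ := (hmemI z).1 hz
      exact (hmemI _).2 ⟨a * w * a⁻¹, mem_norm_conj haP hw, by group⟩
    refine mem_normalizer_iff.2 fun z => ⟨key' z, fun hz => ?_⟩
    have h1 := key _ hz
    have e : a⁻¹ * (a * z * a⁻¹) * a = z := by group
    rwa [e] at h1
  have hap' : IsPGroup p (zpowers a) := by
    refine IsPGroup.of_card (n := 1) ?_
    rw [Nat.card_zpowers, h.ord a ha, pow_one]
  obtain ⟨z0, hz0, hz01, hz0a⟩ := SignalizersComponents.NoOffender.exists_fixed hap' (hP.to_le hIP) hIne hIa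
  have hz0a' : a * z0 = z0 * a := hz0a a (mem_zpowers a)
  obtain ⟨y0, hy0, ez0⟩ := (hmemI z0).1 hz0
  -- power of order `p`
  have hpow : ∀ (y : G), y ∈ P → ∀ m : ℤ, (a⁻¹ * y * a * y⁻¹) ^ m = a⁻¹ * y ^ m * a * (y ^ m)⁻¹ := by
    intro y hy m
    have c1 : Commute (a⁻¹ * y * a) y⁻¹ := hcomm _ (hφ y hy) _ (P.inv_mem hy)
    rw [c1.mul_zpow, inv_zpow]
    congr 1
    have e1 : a⁻¹ * y * a = a⁻¹ * y * (a⁻¹)⁻¹ := by group
    rw [e1, conj_zpow]
    group
  obtain ⟨z, y, hy, hzp, hzP, hza, ezy⟩ : ∃ z y : G, y ∈ P ∧ orderOf z = p ∧ z ∈ P ∧ a * z = z * a ∧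
      z = a⁻¹ * y * a * y⁻¹ := by
    obtain ⟨j, hj⟩ := IsPGroup.iff_orderOf.1 hP ⟨z0, hIP hz0⟩
    rw [Subgroup.orderOf_mk] at hj
    have hj0 : j ≠ 0 := by
      rintro rfl
      rw [pow_zero, orderOf_eq_one_iff] at hj
      exact hz01 hj
    obtain ⟨i, rfl⟩ := Nat.exists_eq_succ_of_ne_zero hj0
    refine ⟨z0 ^ p ^ i, y0 ^ p ^ i, P.pow_mem hy0 _, ?_, P.pow_mem (hIP hz0) _, ?_, ?_⟩
    · rw [orderOf_pow_of_dvd (pow_ne_zero _ hp.out.ne_zero) (by rw [hj]; exact pow_dvd_pow p (Nat.le_succ i)), hj,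
        pow_succ, Nat.mul_div_cancel_left _ (pow_pos hp.out.pos i)]
    · have c : Commute a z0 := hz0a'
      exact c.pow_right _
    · have := hpow y0 hy0 ((p ^ i : ℕ) : ℤ)
      rw [zpow_natCast, zpow_natCast] at this
      rw [ez0]
      exact this
  have hz1 : z ≠ 1 := by
    rintro rfl
    rw [orderOf_one] at hzp
    exact hp.out.one_lt.ne hzp
  have hzpp : z ^ p = 1 := by rw [← hzp]; exact pow_orderOf_eq_one z
  -- `a z^m = y^m a y^{-m}`
  have hazm : ∀ m : ℤ, a * z ^ m = y ^ m * a * (y ^ m)⁻¹ := by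
    intro m
    rw [ezy, hpow y hy m]
    group
  set N := NN K a with hN
  have hAct := h.act ha hK
  have hNN : ∀ m : ℤ, NN K (a * z ^ m) = N := by
    intro m
    rw [hazm m]
    exact (h.NN_eq hK hP hcomm ha haP (P.zpow_mem hy m)).symm
  have hActm : ∀ m : ℤ, Act p K (a * z ^ m) := by
    intro m
    rw [hazm m]
    exact h.act (h.norm _ a ha) hK
  have hfix : ∀ m : ℤ, ∀ n ∈ N, (a * z ^ m) * n = n * (a * z ^ m) → n = 1 := by
    intro m n hn hc
    refine (hActm m).eq_one_of_comm ?_ hc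
    rw [hNN m]
    exact hn
  have haP' : ∀ i : ℤ, ¬ (p : ℤ) ∣ i → a ^ i ∉ P := by
    intro i hi hmem
    apply hax
    have hco : IsCoprime i (p : ℤ) := by
      rw [isCoprime_comm]
      exact (Int.prime_iff_natAbs_prime.2 (by simpa using hp.out)).coprime_iff_not_dvd.2 hi
    obtain ⟨s, t, hst⟩ := hco
    have h1 : a = (a ^ i) ^ s := by
      rw [← zpow_mul]
      have e1 : i * s = 1 - t * p := by linear_combination hst
      rw [e1, zpow_sub, zpow_one, mul_comm t, zpow_mul, zpow_natCast, hap, one_zpow, inv_one, mul_one]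
    have h2 : a ∈ P := by rw [h1]; exact P.zpow_mem hmem s
    exact hcomm a h2 x hx
  -- the elementary abelian group
  have hcaz : Commute a z := hza
  let E : Subgroup G :=
    { carrier := {g | ∃ i j : ℤ, g = a ^ i * z ^ j}
      one_mem' := ⟨0, 0, by simp⟩
      mul_mem' := by
        rintro _ _ ⟨i, j, rfl⟩ ⟨i', j', rfl⟩
        refine ⟨i + i', j + j', ?_⟩
        rw [zpow_add, zpow_add]
        have c := (hcaz.zpow_zpow i' j).eq
        calc a ^ i * z ^ j * (a ^ i' * z ^ j') = a ^ i * (z ^ j * a ^ i') * z ^ j' := by group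
          _ = a ^ i * (a ^ i' * z ^ j) * z ^ j' := by rw [← c]
          _ = a ^ i * a ^ i' * (z ^ j * z ^ j') := by group
      inv_mem' := by
        rintro _ ⟨i, j, rfl⟩
        refine ⟨-i, -j, ?_⟩
        have c := (hcaz.zpow_zpow (-i) (-j)).eq
        rw [mul_inv_rev, ← zpow_neg, ← zpow_neg, c] }
  have hEmem : ∀ g, g ∈ E ↔ ∃ i j : ℤ, g = a ^ i * z ^ j := fun g => Iff.rfl
  have hEel : Cfsg.IsElementaryAbelian p E := by
    refine ⟨⟨⟨?_⟩⟩, ?_⟩
    · rintro ⟨_, i, j, rfl⟩ ⟨_, i', j', rfl⟩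
      apply Subtype.ext
      change a ^ i * z ^ j * (a ^ i' * z ^ j') = a ^ i' * z ^ j' * (a ^ i * z ^ j)
      have c1 : Commute (a ^ i * z ^ j) (a ^ i' * z ^ j') :=
        ((Commute.zpow_zpow_self a i i').mul_right (hcaz.zpow_zpow i j')).mul_left
          ((hcaz.symm.zpow_zpow j i').mul_right (Commute.zpow_zpow_self z j j'))
      exact c1
    · rintro _ ⟨i, j, rfl⟩
      have c1 : Commute (a ^ i) (z ^ j) := hcaz.zpow_zpow i j
      rw [c1.mul_pow, ← zpow_natCast, ← zpow_natCast, ← zpow_mul, ← zpow_mul, mul_comm i, mul_comm j, zpow_mul,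
        zpow_mul, zpow_natCast, zpow_natCast, hap, hzpp, one_zpow, one_zpow, one_mul]
  have hEcard : p ^ 2 ≤ Nat.card E := by
    let g : Fin p × Fin p → E := fun ij => ⟨a ^ (ij.1 : ℤ) * z ^ (ij.2 : ℤ), _, _, rfl⟩
    have hg : Function.Injective g := by
      rintro ⟨i, j⟩ ⟨i', j'⟩ hij
      have h1 : a ^ ((i : ℕ) : ℤ) * z ^ ((j : ℕ) : ℤ) = a ^ ((i' : ℕ) : ℤ) * z ^ ((j' : ℕ) : ℤ) :=
        congrArg Subtype.val hij
      have h2 : a ^ (((i : ℕ) : ℤ) - ((i' : ℕ) : ℤ)) = z ^ (((j' : ℕ) : ℤ) - ((j : ℕ) : ℤ)) := by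
        have c := (hcaz.zpow_zpow (-((i' : ℕ) : ℤ)) ((j : ℕ) : ℤ)).eq
        rw [sub_eq_neg_add, zpow_add, zpow_sub]
        calc a ^ (-((i' : ℕ) : ℤ)) * a ^ ((i : ℕ) : ℤ)
            = a ^ (-((i' : ℕ) : ℤ)) * (a ^ ((i : ℕ) : ℤ) * z ^ ((j : ℕ) : ℤ)) * (z ^ ((j : ℕ) : ℤ))⁻¹ := by group
          _ = a ^ (-((i' : ℕ) : ℤ)) * (a ^ ((i' : ℕ) : ℤ) * z ^ ((j' : ℕ) : ℤ)) * (z ^ ((j : ℕ) : ℤ))⁻¹ := by
              rw [h1]
          _ = z ^ ((j' : ℕ) : ℤ) * (z ^ ((j : ℕ) : ℤ))⁻¹ := by group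
      have h3 : (p : ℤ) ∣ ((i : ℕ) : ℤ) - ((i' : ℕ) : ℤ) := by
        by_contra hnd
        exact haP' _ hnd (by rw [h2]; exact P.zpow_mem hzP _)
      have h4 : (i : ℕ) = i' := by
        have := i.2
        have := i'.2
        obtain ⟨c, hc⟩ := h3
        have hc0 : c = 0 := by
          by_contra hc0
          have : (p : ℤ) ≤ |((i : ℕ) : ℤ) - ((i' : ℕ) : ℤ)| := by
            rw [hc, abs_mul, Nat.abs_cast]
            have : 1 ≤ |c| := Int.one_le_abs hc0
            nlinarith [hp.out.pos]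
          have h5 : |((i : ℕ) : ℤ) - ((i' : ℕ) : ℤ)| < p := by
            rw [abs_lt]
            omega
          omega
        rw [hc0, mul_zero] at hc
        omega
      rw [h4] at h1
      have h5 : z ^ ((j : ℕ) : ℤ) = z ^ ((j' : ℕ) : ℤ) := mul_left_cancel h1
      rw [zpow_natCast, zpow_natCast] at h5
      have h6 : (j : ℕ) = j' := pow_injOn_Iio_orderOf (by rw [hzp]; exact j.2) (by rw [hzp]; exact j'.2) h5
      exact Prod.ext (Fin.ext h4) (Fin.ext h6)
    have h1 := Nat.card_le_card_of_injective g hg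
    rwa [Nat.card_prod, Nat.card_fin, ← pow_two] at h1
  have hNc : ¬ p ∣ Nat.card N := by
    intro hd
    have h1 : p ∣ Nat.card K := hd.trans (card_dvd_of_le hAct.NN_le)
    exact hp.out.one_lt.ne' (Nat.dvd_one.1 (hK ▸ Nat.dvd_gcd h1 dvd_rfl))
  have hyN : ∀ n, y * n * y⁻¹ ∈ N ↔ n ∈ N := by
    intro n
    have h1 := norm_mem_NN (K := K) (x := a) (n := n) (y := y) (by rw [normalizer_eq_top]; exact mem_top _)
    rw [← h.NN_eq hK hP hcomm ha haP hy] at h1
    exact h1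
  have hyN' : y ∈ normalizer (N : Set G) := mem_normalizer_iff.2 fun n => (hyN n).symm
  have haN : a ∈ normalizer (N : Set G) := hAct.norm_NN
  have hzN : z ∈ normalizer (N : Set G) := by
    rw [ezy]
    exact mul_mem (mul_mem (mul_mem (inv_mem haN) hyN') haN) (inv_mem hyN')
  have hEN : E ≤ normalizer (N : Set G) := by
    rintro _ ⟨i, j, rfl⟩
    exact mul_mem (zpow_mem haN i) (zpow_mem hzN j)
  have hgen := SignalizersComponents.CoprimeGen.le_iSup_centralizer_ne_one hEel hEcard hNc hEN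
  -- `z` centralises `N`
  have hzcN : ∀ n ∈ N, z * n = n * z := by
    have hle : (⨆ e : {e : G // e ∈ E ∧ e ≠ 1}, N ⊓ centralizer {(e : G)}) ≤ centralizer ({z} : Set G) := by
      refine iSup_le ?_
      rintro ⟨e, ⟨i, j, rfl⟩, he1⟩ n ⟨hn, hne⟩
      have hne' : n * (a ^ i * z ^ j) = (a ^ i * z ^ j) * n := by
        have := mem_centralizer_iff.1 hne _ (Set.mem_singleton _)
        exact this.symm
      rw [mem_centralizer_singleton_iff]
      by_cases hi : (p : ℤ) ∣ i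
      · obtain ⟨c, rfl⟩ := hi
        have e1 : a ^ ((p : ℤ) * c) = 1 := by rw [zpow_mul, zpow_natCast, hap, one_zpow]
        rw [e1, one_mul] at hne' he1
        have hj : ¬ (p : ℤ) ∣ j := by
          rintro ⟨d, rfl⟩
          exact he1 (by rw [zpow_mul, zpow_natCast, hzpp, one_zpow])
        have hco : IsCoprime j (p : ℤ) := by
          rw [isCoprime_comm]
          exact (Int.prime_iff_natAbs_prime.2 (by simpa using hp.out)).coprime_iff_not_dvd.2 hj
        obtain ⟨s, t, hst⟩ := hco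
        have h1 : z = (z ^ j) ^ s := by
          rw [← zpow_mul]
          have e1 : j * s = 1 - t * p := by linear_combination hst
          rw [e1, zpow_sub, zpow_one, mul_comm t, zpow_mul, zpow_natCast, hzpp, one_zpow, inv_one, mul_one]
        have c : Commute n (z ^ j) := hne'
        have c2 := c.zpow_right s
        rw [← h1] at c2
        exact c2
      · have hco : IsCoprime i (p : ℤ) := by
          rw [isCoprime_comm]
          exact (Int.prime_iff_natAbs_prime.2 (by simpa using hp.out)).coprime_iff_not_dvd.2 hi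
        obtain ⟨s, t, hst⟩ := hco
        have h1 : (a ^ i * z ^ j) ^ s = a * z ^ (j * s) := by
          have c1 : Commute (a ^ i) (z ^ j) := hcaz.zpow_zpow i j
          rw [c1.mul_zpow, ← zpow_mul, ← zpow_mul]
          have e1 : i * s = 1 - t * p := by linear_combination hst
          rw [e1, zpow_sub, zpow_one, mul_comm t, zpow_mul, zpow_natCast, hap, one_zpow, inv_one, mul_one]
        have c : Commute n (a ^ i * z ^ j) := hne'
        have c2 := c.zpow_right s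
        rw [h1] at c2
        have h2 : n = 1 := hfix (j * s) n hn c2.symm
        rw [h2, one_mul, mul_one]
    intro n hn
    have := hle (hgen hn)
    rw [mem_centralizer_singleton_iff] at this
    exact this.symm
  -- `z` acts trivially on `K / N`
  have hcK : ∀ b, Act p K b → NN K b = N → ∀ k ∈ K, b * k * b⁻¹ * k⁻¹ ∈ N := by
    intro b hb hbN k hk
    have hk' : b * k * b⁻¹ ∈ K := mem_norm_conj hb.norm hk
    have h1 : b⁻¹ * ((b * k * b⁻¹) * b * (b * k * b⁻¹)⁻¹) ∈ NN K b := by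
      rw [hb.mem_NN_iff, mul_inv_cancel_left]
      exact ⟨_, hk', rfl⟩
    rw [hbN] at h1
    have e : b⁻¹ * ((b * k * b⁻¹) * b * (b * k * b⁻¹)⁻¹) = (b * k * b⁻¹ * k⁻¹)⁻¹ := by group
    rw [e] at h1
    exact inv_mem_iff.1 h1
  have hzK : ∀ k ∈ K, z * k * z⁻¹ * k⁻¹ ∈ N := by
    intro k hk
    have hb := hcK (a * z) (by simpa using hActm 1) (by simpa using hNN 1) k hk
    -- `z = a⁻¹ b`
    have hk2 : a⁻¹ * k * a ∈ K := mem_norm_conj' hAct.norm hk
    have h2 := hcK a hAct rfl _ hk2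
    -- `a (a⁻¹ k a) a⁻¹ (a⁻¹ k a)⁻¹ = k a⁻¹ k⁻¹ a`
    have e1 : z * k * z⁻¹ * k⁻¹ = a⁻¹ * (a * z * k * (a * z)⁻¹ * k⁻¹) * a *
        (a * (a⁻¹ * k * a) * a⁻¹ * (a⁻¹ * k * a)⁻¹)⁻¹ := by group
    rw [e1]
    exact mul_mem (mem_norm_conj' haN hb) (inv_mem h2)
  have hzcK : z ∈ centralizer (K : Set G) := by
    rw [mem_centralizer_iff]
    intro k hk
    obtain ⟨n, hn⟩ : ∃ n, n = z * k * z⁻¹ * k⁻¹ := ⟨_, rfl⟩
    have hnN : n ∈ N := by rw [hn]; exact hzK k hk
    have hzn : Commute z n := hzcN n hnN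
    have e1 : z * k * z⁻¹ = n * k := by rw [hn]; group
    have e2 : ∀ m : ℕ, z ^ m * k * (z ^ m)⁻¹ = n ^ m * k := by
      intro m
      induction m with
      | zero => simp
      | succ m ih =>
        calc z ^ (m + 1) * k * (z ^ (m + 1))⁻¹ = z * (z ^ m * k * (z ^ m)⁻¹) * z⁻¹ := by
              rw [pow_succ']; group
          _ = z * n ^ m * k * z⁻¹ := by rw [ih]; group
          _ = n ^ m * (z * k * z⁻¹) := by rw [(hzn.pow_right m).eq]; group
          _ = n ^ (m + 1) * k := by rw [e1, pow_succ]; group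
    have e3 := e2 p
    rw [hzpp, inv_one, one_mul, mul_one] at e3
    have e4 : n ^ p = 1 := by
      have : n ^ p * k = 1 * k := by rw [← e3, one_mul]
      exact mul_right_cancel this
    have e5 : n = 1 := by
      have h1 : orderOf n ∣ p := orderOf_dvd_of_pow_eq_one e4
      have h2 : orderOf n ∣ Nat.card N := by
        have := orderOf_dvd_natCard (⟨n, hnN⟩ : N)
        rwa [Subgroup.orderOf_mk] at this
      have h3 : (Nat.card N).Coprime p := ((Nat.Prime.coprime_iff_not_dvd hp.out).2 hNc).symm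
      exact orderOf_eq_one_iff.1 (Nat.eq_one_of_dvd_coprimes h3 h2 h1)
    rw [e5, one_mul] at e1
    calc k * z = z * k * z⁻¹ * z := by rw [e1]
      _ = z * k := by group
  have hzK' : z ∈ K := hC hzcK
  have h1 : orderOf z ∣ Nat.card K := by
    have := orderOf_dvd_natCard (⟨z, hzK'⟩ : K)
    rwa [Subgroup.orderOf_mk] at this
  rw [hzp] at h1
  exact hp.out.one_lt.ne' (Nat.dvd_one.1 (hK ▸ Nat.dvd_gcd h1 dvd_rfl))

end Cfsg.Agent.H208.AAAbel
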