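import Mathlib
import Cfsg.Agent.H440.CyclicNormalMain

/-!
# Quadratic elements with quadratic products (helper208, for S3833, S3834, S3840)
-/

set_option autoImplicit false
set_option linter.unusedSectionVars false

namespace Cfsg.Agent.H208.AAQuad

section Rng

variable {R : Type*} [Ring R]

theorem ring_key (h2 : ∀ x : R, x + x = 0 → x = 0) {X Y : R} (hX : X * X = 0) (hY : Y * Y = 0)
    (e1 : (X + Y + X * Y) * (X + Y + X * Y) = 0) (e2 : (X * Y - X - Y) * (X * Y - X - Y) = 0) :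
    (Y - X - X * Y) * (Y - X - X * Y) = 0 := by
  have f1 : X * Y + Y * X + Y * X * Y + X * Y * X + X * Y * X * Y = 0 := by
    have : (X + Y + X * Y) * (X + Y + X * Y) = X * X + Y * Y + X * X * Y + X * (Y * Y) +
        (X * Y + Y * X + Y * X * Y + X * Y * X + X * Y * X * Y) := by noncomm_ring
    rw [e1, hX, hY, mul_zero, zero_mul, zero_add, zero_add, zero_add, zero_add] at this
    exact this.symm
  have f2 : X * Y + Y * X - Y * X * Y - X * Y * X + X * Y * X * Y = 0 := by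
    have : (X * Y - X - Y) * (X * Y - X - Y) = X * X + Y * Y - X * X * Y - X * (Y * Y) +
        (X * Y + Y * X - Y * X * Y - X * Y * X + X * Y * X * Y) := by noncomm_ring
    rw [e2, hX, hY, mul_zero, zero_mul, sub_zero, sub_zero, zero_add, zero_add] at this
    exact this.symm
  have f3 : Y * X * Y + X * Y * X = 0 := by
    apply h2
    have : Y * X * Y + X * Y * X + (Y * X * Y + X * Y * X) =
        (X * Y + Y * X + Y * X * Y + X * Y * X + X * Y * X * Y) -
        (X * Y + Y * X - Y * X * Y - X * Y * X + X * Y * X * Y) := by abel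
    rw [this, f1, f2, sub_zero]
  have f4 : X * Y * X * Y = 0 := by
    have : X * (Y * X * Y + X * Y * X) = X * Y * X * Y + X * X * Y * X := by noncomm_ring
    rw [f3, hX, mul_zero, zero_mul, zero_mul, add_zero] at this
    exact this.symm
  have f5 : X * Y + Y * X = 0 := by
    apply h2
    have : X * Y + Y * X + (X * Y + Y * X) =
        (X * Y + Y * X + Y * X * Y + X * Y * X + X * Y * X * Y) +
        (X * Y + Y * X - Y * X * Y - X * Y * X + X * Y * X * Y) - X * Y * X * Y - X * Y * X * Y := by abel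
    rw [this, f1, f2, f4, add_zero, sub_zero, sub_zero]
  have f6 : Y * X = -(X * Y) := by
    rw [eq_neg_iff_add_eq_zero, add_comm]; exact f5
  have f7 : Y * X * Y = 0 := by
    rw [f6, neg_mul, mul_assoc, hY, mul_zero, neg_zero]
  have f8 : X * Y * X = 0 := by
    rw [mul_assoc, f6, mul_neg, ← mul_assoc, hX, zero_mul, neg_zero]
  have : (Y - X - X * Y) * (Y - X - X * Y) = X * X + Y * Y + X * X * Y - X * (Y * Y) - (X * Y + Y * X) - Y * X * Y +
      X * Y * X + X * Y * X * Y := by noncomm_ring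
  rw [this, hX, hY, f5, f7, f8]
  simp

theorem one_add_pow {Z : R} (hZ : Z * Z = 0) (n : ℕ) : (1 + Z) ^ n = 1 + (n : R) * Z := by
  induction n with
  | zero => simp
  | succ n ih =>
    rw [pow_succ, ih, Nat.cast_succ]
    have : (1 + (n : R) * Z) * (1 + Z) = 1 + (n : R) * Z + Z + n * (Z * Z) := by noncomm_ring
    rw [this, hZ, mul_zero, add_zero]
    noncomm_ring

/-- the inverse of a quadratic element -/
theorem sq_inv {u u' : R} (h1 : u * u' = 1) (h2 : u' * u = 1) (hu : (u - 1) * (u - 1) = 0) :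
    (u' - 1) * (u' - 1) = 0 := by
  have e1 : u' - 1 = u' * (1 - u) := by rw [mul_sub, mul_one, h2]
  have e2 : u' - 1 = (1 - u) * u' := by rw [sub_mul, one_mul, h1]
  have e3 : (u' - 1) * (u' - 1) = u' * ((u - 1) * (u - 1)) * u' := by
    conv_lhs =>
      arg 1
      rw [e1]
    conv_lhs =>
      arg 2
      rw [e2]
    noncomm_ring
  rw [e3, hu, mul_zero, zero_mul]

/-- conjugates of the square of a quadratic element -/
theorem sq_conj {a n n' : R} (ha : (a - 1) * (a - 1) = 0) (h1 : n * n' = 1) (h2 : n' * n = 1) :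
    (n * (a * a) * n' - 1) * (n * (a * a) * n' - 1) = 0 := by
  have e1 : n * (a * a) * n' - 1 = n * (a * a - 1) * n' := by
    rw [mul_sub, sub_mul, mul_one, h1]
  rw [e1]
  have e2 : n * (a * a - 1) * n' * (n * (a * a - 1) * n') = n * (a * a - 1) * (n' * n) * (a * a - 1) * n' := by
    noncomm_ring
  rw [e2, h2, mul_one]
  have e3 : n * (a * a - 1) * (a * a - 1) * n' = n * (a + 1) * ((a - 1) * (a - 1)) * (a + 1) * n' := by
    noncomm_ring
  rw [e3, ha]
  simp

/-- the key statement for a homomorphism to the units -/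
theorem pow_eq_one {X : Type*} [Group X] (ρ : X →* R) {p : ℕ} (hp : Odd p) (hpR : (p : R) = 0) {a b : X}
    (ha : (ρ a - 1) * (ρ a - 1) = 0) (hb : (ρ b - 1) * (ρ b - 1) = 0)
    (hab : (ρ (a * b) - 1) * (ρ (a * b) - 1) = 0) (hba : (ρ (b * a) - 1) * (ρ (b * a) - 1) = 0) :
    ρ ((a⁻¹ * b) ^ p) = 1 := by
  have h2 : ∀ x : R, x + x = 0 → x = 0 := by
    intro x hx
    obtain ⟨m, hm⟩ := hp
    have e1 : (p : R) * x = (m : R) * (x + x) + x := by
      rw [hm]
      push_cast
      noncomm_ring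
    rw [hpR, hx, zero_mul, mul_zero, zero_add] at e1
    exact e1.symm
  have inv1 : ∀ g : X, ρ g * ρ g⁻¹ = 1 := fun g => by rw [← map_mul, mul_inv_cancel, map_one]
  have inv2 : ∀ g : X, ρ g⁻¹ * ρ g = 1 := fun g => by rw [← map_mul, inv_mul_cancel, map_one]
  -- `ρ a⁻¹ = 2 - ρ a`
  have hinv : ∀ g : X, (ρ g - 1) * (ρ g - 1) = 0 → ρ g⁻¹ = 1 - (ρ g - 1) := by
    intro g hg
    have e1 : ρ g * (1 - (ρ g - 1)) = 1 := by
      have : ρ g * (1 - (ρ g - 1)) = 1 - (ρ g - 1) * (ρ g - 1) := by noncomm_ring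
      rw [this, hg, sub_zero]
    calc ρ g⁻¹ = ρ g⁻¹ * (ρ g * (1 - (ρ g - 1))) := by rw [e1, mul_one]
      _ = 1 - (ρ g - 1) := by rw [← mul_assoc, inv2, one_mul]
  have hba' := sq_inv (inv1 (b * a)) (inv2 (b * a)) hba
  have e0 : ρ (b * a)⁻¹ = ρ a⁻¹ * ρ b⁻¹ := by rw [mul_inv_rev, map_mul]
  rw [e0, hinv a ha, hinv b hb] at hba'
  obtain ⟨X, hX⟩ : ∃ X : R, X = ρ a - 1 := ⟨_, rfl⟩
  obtain ⟨Y, hY⟩ : ∃ Y : R, Y = ρ b - 1 := ⟨_, rfl⟩
  have ea : ρ a = 1 + X := by rw [hX]; abel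
  have eb : ρ b = 1 + Y := by rw [hY]; abel
  rw [← hX, ← hY] at hba'
  rw [← hX] at ha
  rw [← hY] at hb
  rw [map_mul, ea, eb] at hab
  have k1 : (X + Y + X * Y) * (X + Y + X * Y) = 0 := by
    rw [← hab]
    congr 1 <;> noncomm_ring
  have k2 : (X * Y - X - Y) * (X * Y - X - Y) = 0 := by
    rw [← hba']
    congr 1 <;> noncomm_ring
  have k3 := ring_key h2 ha hb k1 k2
  have e1 : ρ (a⁻¹ * b) = 1 + (Y - X - X * Y) := by
    rw [map_mul, hinv a (by rw [← hX]; exact ha), ← hX, eb]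
    noncomm_ring
  rw [map_pow, e1, one_add_pow k3, hpR, zero_mul, add_zero]

end Rng

end Cfsg.Agent.H208.AAQuad
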