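import Mathlib
import Cfsg.Agent.H208.AAQuad

/-!
# The action on an elementary abelian normal subgroup (helper208, for S3833, S3834, S3840)
-/

set_option autoImplicit false
set_option linter.unusedSectionVars false

namespace Cfsg.Agent.H208.AAAct

open Subgroup

variable {W : Type*} [Group W]

/-- conjugation as an endomorphism -/
def cj (V : Subgroup W) [hV : V.Normal] (w : W) : V →* V where
  toFun v := ⟨w * v * w⁻¹, hV.conj_mem v v.2 w⟩
  map_one' := Subtype.ext (by simp)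
  map_mul' x y := Subtype.ext (by simp [mul_assoc])

/-- **the key lemma** -/
theorem key {V : Subgroup W} [hV : V.Normal] (hc : ∀ x ∈ V, ∀ y ∈ V, x * y = y * x) {p : ℕ} (hp : Odd p)
    (hVp : ∀ x ∈ V, x ^ p = 1) {a b g m m' o o' : W} (ho : o ∈ V) (ho' : o' ∈ V)
    (hquad : ∀ v ∈ V, a * (a * v * a⁻¹ * v⁻¹) = (a * v * a⁻¹ * v⁻¹) * a) (hb : b = g * a * g⁻¹)
    (hab : a * b = m * (a * a) * m⁻¹ * o) (hba : b * a = m' * (a * a) * m'⁻¹ * o') :
    ∀ v ∈ V, (a⁻¹ * b) ^ p * v = v * (a⁻¹ * b) ^ p := by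
  letI : CommGroup V := { (inferInstance : Group V) with
    mul_comm := fun x y => Subtype.ext (hc x x.2 y y.2) }
  let ρ : W →* AddMonoid.End (Additive V) :=
    { toFun := fun w => MonoidHom.toAdditive (cj V w)
      map_one' := by
        refine AddMonoidHom.ext fun v => Subtype.ext ?_
        change (1 : W) * ((Additive.toMul v : V) : W) * (1 : W)⁻¹ = ((Additive.toMul v : V) : W)
        group
      map_mul' := by
        intro x y
        refine AddMonoidHom.ext fun v => Subtype.ext ?_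
        change (x * y) * ((Additive.toMul v : V) : W) * (x * y)⁻¹ = x * (y * ((Additive.toMul v : V) : W) * y⁻¹) * x⁻¹
        group }
  have hρ : ∀ w (v : Additive V), (((ρ w v).toMul : V) : W) = w * ((v.toMul : V) : W) * w⁻¹ := fun _ _ => rfl
  have hpR : (p : AddMonoid.End (Additive V)) = 0 := by
    have h1 : ∀ v : Additive V, (p : AddMonoid.End (Additive V)) v = (0 : AddMonoid.End (Additive V)) v := by
      intro v
      rw [AddMonoid.End.natCast_apply]
      exact Subtype.ext (hVp _ v.toMul.2)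
    exact AddMonoidHom.ext h1
  have hρV : ∀ w ∈ V, ρ w = 1 := by
    intro w hw
    refine AddMonoidHom.ext fun v => Subtype.ext ?_
    change w * ((v.toMul : V) : W) * w⁻¹ = ((v.toMul : V) : W)
    rw [hc w hw _ v.toMul.2]
    group
  have inv1 : ∀ g : W, ρ g * ρ g⁻¹ = 1 := fun g => by rw [← map_mul, mul_inv_cancel, map_one]
  have inv2 : ∀ g : W, ρ g⁻¹ * ρ g = 1 := fun g => by rw [← map_mul, inv_mul_cancel, map_one]
  have ha : (ρ a - 1) * (ρ a - 1) = 0 := by
    suffices h : ∀ v : Additive V, ((ρ a - 1) * (ρ a - 1)) v = (0 : AddMonoid.End (Additive V)) v from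
      AddMonoidHom.ext h
    intro v
    have e1 : ∀ u : Additive V, ((ρ a - 1) u) = ρ a u - u := fun _ => rfl
    have e2 : ((ρ a - 1) * (ρ a - 1)) v = (ρ a - 1) ((ρ a - 1) v) := rfl
    rw [e2, e1 ((ρ a - 1) v)]
    have e3 : ρ a ((ρ a - 1) v) = (ρ a - 1) v := by
      apply Subtype.ext
      have e4 : ((((ρ a - 1) v).toMul : V) : W) = a * ((v.toMul : V) : W) * a⁻¹ * ((v.toMul : V) : W)⁻¹ := by
        rw [e1]
        change (((ρ a v).toMul / v.toMul : V) : W) = _
        rw [div_eq_mul_inv]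
        rfl
      change a * ((((ρ a - 1) v).toMul : V) : W) * a⁻¹ = ((((ρ a - 1) v).toMul : V) : W)
      rw [e4, hquad _ v.toMul.2]
      group
    rw [e3, sub_self]
    rfl
  have hb' : (ρ b - 1) * (ρ b - 1) = 0 := by
    have e1 : ρ b - 1 = ρ g * (ρ a - 1) * ρ g⁻¹ := by
      rw [mul_sub, sub_mul, mul_one, inv1, hb, map_mul, map_mul]
    rw [e1]
    have e2 : ρ g * (ρ a - 1) * ρ g⁻¹ * (ρ g * (ρ a - 1) * ρ g⁻¹) =
        ρ g * (ρ a - 1) * (ρ g⁻¹ * ρ g) * (ρ a - 1) * ρ g⁻¹ := by noncomm_ring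
    rw [e2, inv2, mul_one, mul_assoc (ρ g), ha]
    simp
  have hab' : (ρ (a * b) - 1) * (ρ (a * b) - 1) = 0 := by
    have e1 : ρ (a * b) = ρ m * (ρ a * ρ a) * ρ m⁻¹ := by
      rw [hab, map_mul, hρV o ho, mul_one, map_mul, map_mul, map_mul]
    rw [e1]
    exact AAQuad.sq_conj ha (inv1 m) (inv2 m)
  have hba' : (ρ (b * a) - 1) * (ρ (b * a) - 1) = 0 := by
    have e1 : ρ (b * a) = ρ m' * (ρ a * ρ a) * ρ m'⁻¹ := by
      rw [hba, map_mul, hρV o' ho', mul_one, map_mul, map_mul, map_mul]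
    rw [e1]
    exact AAQuad.sq_conj ha (inv1 m') (inv2 m')
  have h1 := AAQuad.pow_eq_one ρ hp hpR ha hb' hab' hba'
  intro v hv
  have h2 := hρ ((a⁻¹ * b) ^ p) (Additive.ofMul ⟨v, hv⟩)
  rw [h1] at h2
  have h3 : v = (a⁻¹ * b) ^ p * v * ((a⁻¹ * b) ^ p)⁻¹ := h2
  conv_rhs => rw [h3]
  group

end Cfsg.Agent.H208.AAAct
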