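import Mathlib
import Cfsg.Agent.H208.AAAbel
import Cfsg.Agent.H208.AAAct
import Cfsg.Agent.H460.AADef
import Cfsg.Agent.OddOrderLocal.PuigMain
import Cfsg.Agent.OddOrderLocal.FpfSolvable
import Cfsg.Agent.Solvable.Zipper
import Cfsg.Agent.Lib.HallHigman
import Cfsg.Agent.H440.CyclicNormalMain
import Cfsg.Agent.S0033

/-!
# The structure theorem for solvable groups (helper208, task 570, for S3833, S3834, S3840)

* `lemma1` : a `p`-element acting on a `p'`-group `K` with all `a * a ^ k` `p`-elements.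
* `structure_main` : a normal set `A` of elements of order `p` whose products are `p`-elements, generating a solvable
  group `G` with `O_p(G) = 1`: `F(G)` is a `p'`-group and `G / F(G)` elementary abelian.
-/

set_option autoImplicit false
set_option linter.unusedSectionVars false

namespace Cfsg.Agent.H208.AAStruct

open Subgroup
open Cfsg.Agent.H208.AALem Cfsg.Agent.H208.AAAbel
open Cfsg.Agent.H440.MinimalAction (frat frat_le commutator_le_frat pow_mem_frat)
open scoped commutatorElement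

theorem dvd_prime_pow_exists {p n : ℕ} (hp : p.Prime) (h : n ∣ p) : ∃ k : ℕ, n = p ^ k := by
  rcases (Nat.dvd_prime hp).1 h with h | h
  · exact ⟨0, by simpa using h⟩
  · exact ⟨1, by simpa using h⟩

theorem eq_one_of_mem_coprime {X : Type*} [Group X] {R : Subgroup X} {p : ℕ} (hR : (Nat.card R).Coprime p) {x : X}
    (hx : x ∈ R) (hxp : x ^ p = 1) : x = 1 := by
  have h1 : orderOf x ∣ p := orderOf_dvd_of_pow_eq_one hxp
  have h2 : orderOf x ∣ Nat.card R := by
    have := orderOf_dvd_natCard (⟨x, hx⟩ : R)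
    rwa [Subgroup.orderOf_mk] at this
  exact orderOf_eq_one_iff.1 (Nat.eq_one_of_dvd_coprimes hR h2 h1)

/-- step (4): elements of `B` lie in `O_p(X)` -/
theorem mem_pCore {X : Type*} [Group X] [Finite X] [Group.IsSolvable X] {p : ℕ} [hp : Fact p.Prime] (hp2 : p ≠ 2)
    (hX : Cfsg.pPrimeCore p X = ⊥) {B : Set X} (hB : ∀ g : X, ∀ c ∈ B, g * c * g⁻¹ ∈ B)
    (hpow : ∀ c ∈ B, c ^ p = 1) (hsq : ∀ a ∈ B, ∀ b ∈ B, ∃ k : ℕ, orderOf (a * b) = p ^ k)
    (hcomm : ∀ T : Subgroup X, IsPGroup p T → ∀ a ∈ B, ∀ b ∈ B, a ∈ T → b ∈ T → a * b = b * a) {a : X} (ha : a ∈ B) :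
    a ∈ Cfsg.pCore p X := by
  have hC := Lib.HallHigman.centralizer_pCore_le_of_solvable p hX
  haveI hOn : (Cfsg.pCore p X).Normal := Lib.Cores.pCore_normal p
  have hmemO := fun x => Cfsg.Agent.H440.CyclicNormalMain.mem_pCore_of_frattini (p := p) (X := X) hC (x := x)
  have hY : Cfsg.pCore p (X ⧸ Cfsg.pCore p X) = ⊥ := Lib.Cores.pCore_quotient_pCore p
  have hOp : IsPGroup p (Cfsg.pCore p X) := Lib.Cores.pCore_isPGroup p
  set O := Cfsg.pCore p X with hO
  let τ : X →* X ⧸ O := QuotientGroup.mk' O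
  have hτ : Function.Surjective τ := QuotientGroup.mk'_surjective O
  have hτ1 : ∀ x, τ x = 1 ↔ x ∈ O := fun x => QuotientGroup.eq_one_iff x
  have hRc : (Nat.card (Cfsg.pPrimeCore p (X ⧸ O))).Coprime p := Lib.Cores.pPrimeCore_coprime p
  haveI hRn : (Cfsg.pPrimeCore p (X ⧸ O)).Normal := Lib.Cores.pPrimeCore_normal p
  have hYs : Group.IsSolvable (X ⧸ O) := inferInstance
  have hCR : centralizer (Cfsg.pPrimeCore p (X ⧸ O) : Set (X ⧸ O)) ≤ Cfsg.pPrimeCore p (X ⧸ O) :=
    SignalizersComponents.NoOffender.centralizer_pPrimeCore_le hYs hY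
  set R := Cfsg.pPrimeCore p (X ⧸ O) with hR
  have hτa : (τ a) ^ p = 1 := by rw [← map_pow, hpow a ha, map_one]
  have hdiv : orderOf (τ a) ∣ p := orderOf_dvd_of_pow_eq_one hτa
  have hpel : ∃ k, orderOf (τ a) = p ^ k := dvd_prime_pow_exists hp.out hdiv
  have hodd : Odd (orderOf (τ a)) := Odd.of_dvd_nat (odd_p hp2) hdiv
  have hAct : Act p R (τ a) :=
    { cop := hRc
      norm := by rw [normalizer_eq_top]; exact mem_top _
      pel := hpel
      odd := hodd
      sq := by
        intro k _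
        obtain ⟨g, rfl⟩ := hτ k
        obtain ⟨j, hj⟩ := hsq a ha _ (hB g a ha)
        have h1 : orderOf (τ (a * (g * a * g⁻¹))) ∣ p ^ j := hj ▸ orderOf_map_dvd τ _
        obtain ⟨i, -, hi⟩ := (Nat.dvd_prime_pow hp.out).1 h1
        refine ⟨i, ?_⟩
        rw [← hi, map_mul, map_mul, map_mul, map_inv] }
  -- the frattini quotient
  haveI hFn : (frat O).Normal := by
    rw [← normalizer_eq_top_iff, eq_top_iff]
    have h1 : (⊤ : Subgroup X) ≤ normalizer (O : Set X) := by rw [normalizer_eq_top]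
    exact Cfsg.Agent.H440.MinimalAction.le_normalizer_frat h1
  let π : X →* X ⧸ frat O := QuotientGroup.mk' (frat O)
  have hπs : Function.Surjective π := QuotientGroup.mk'_surjective _
  have hπ1 : ∀ x : X, π x = 1 ↔ x ∈ frat O := fun x => QuotientGroup.eq_one_iff x
  haveI hVn : (O.map π).Normal := hOn.map π hπs
  have hVc : ∀ x ∈ O.map π, ∀ y ∈ O.map π, x * y = y * x := by
    rintro _ ⟨x, hx, rfl⟩ _ ⟨y, hy, rfl⟩
    rw [← commutatorElement_eq_one_iff_mul_comm, ← map_commutatorElement, hπ1]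
    exact commutator_le_frat hOp (commutator_mem_commutator hx hy)
  have hVp : ∀ x ∈ O.map π, x ^ p = 1 := by
    rintro _ ⟨x, hx, rfl⟩
    rw [← map_pow, hπ1]
    exact pow_mem_frat hOp hx
  -- `a` is quadratic
  have hquad : ∀ v ∈ O, a * (a * v * a⁻¹ * v⁻¹) = a * v * a⁻¹ * v⁻¹ * a := by
    intro v hv
    have haz : IsPGroup p (zpowers a) := by
      obtain ⟨k, hk⟩ := dvd_prime_pow_exists hp.out (orderOf_dvd_of_pow_eq_one (hpow a ha))
      exact IsPGroup.of_card (n := k) (by rw [Nat.card_zpowers, hk])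
    have hT : IsPGroup p (O ⊔ zpowers a : Subgroup X) := hOp.to_sup_of_normal_left haz
    have hvT : v ∈ O ⊔ zpowers a := mem_sup_left hv
    have haT : a ∈ O ⊔ zpowers a := mem_sup_right (mem_zpowers a)
    have h1 : Commute a (v * a * v⁻¹) :=
      hcomm _ hT a ha (v * a * v⁻¹) (hB v a ha) haT (mul_mem (mul_mem hvT haT) (inv_mem hvT))
    have h2 : a * (v * a * v⁻¹)⁻¹ = (v * a * v⁻¹)⁻¹ * a := h1.inv_right.eq
    calc a * (a * v * a⁻¹ * v⁻¹) = a * (a * (v * a * v⁻¹)⁻¹) := by group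
      _ = a * ((v * a * v⁻¹)⁻¹ * a) := by rw [h2]
      _ = _ := by group
  -- `τ a` centralises `R`
  have main : ∀ r ∈ R, r * τ a = τ a * r := by
    intro r hr
    obtain ⟨g, rfl⟩ := hτ r
    obtain ⟨b, hb⟩ : ∃ b, b = g * a * g⁻¹ := ⟨_, rfl⟩
    have hτb : τ b = τ g * τ a * (τ g)⁻¹ := by rw [hb, map_mul, map_mul, map_inv]
    have hτbcl : τ b ∈ cl R (τ a) := ⟨τ g, hr, hτb⟩
    obtain ⟨n, -, e1⟩ := mul_mem_cl hRc hAct.norm hpel hAct.sq (self_mem_cl R (τ a)) hτbcl
    obtain ⟨n', -, e2⟩ := mul_mem_cl hRc hAct.norm hpel hAct.sq hτbcl (self_mem_cl R (τ a))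
    obtain ⟨m, rfl⟩ := hτ n
    obtain ⟨m', rfl⟩ := hτ n'
    have ho : (m * (a * a) * m⁻¹)⁻¹ * (a * b) ∈ O := by
      rw [← hτ1, map_mul, map_inv, map_mul τ a b, e1]
      simp only [map_mul, map_inv]
      group
    have ho' : (m' * (a * a) * m'⁻¹)⁻¹ * (b * a) ∈ O := by
      rw [← hτ1, map_mul, map_inv, map_mul τ b a, e2]
      simp only [map_mul, map_inv]
      group
    have h3 := AAAct.key (V := O.map π) hVc (odd_p hp2) hVp (a := π a) (b := π b) (g := π g) (m := π m) (m' := π m')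
      (o := π ((m * (a * a) * m⁻¹)⁻¹ * (a * b))) (o' := π ((m' * (a * a) * m'⁻¹)⁻¹ * (b * a))) ⟨_, ho, rfl⟩
      ⟨_, ho', rfl⟩ (by
        rintro _ ⟨v, hv, rfl⟩
        have h4 := congrArg π (hquad v hv)
        simpa only [map_mul, map_inv] using h4) (by rw [hb, map_mul, map_mul, map_inv]) (by
        simp only [← map_mul, ← map_inv]
        congr 1
        group) (by
        simp only [← map_mul, ← map_inv]
        congr 1
        group)
    have h4 : (a⁻¹ * b) ^ p ∈ O := by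
      refine hmemO _ fun u hu => ?_
      rw [← hπ1, map_commutatorElement, commutatorElement_eq_one_iff_mul_comm]
      have h5 := h3 (π u) ⟨u, hu, rfl⟩
      simpa only [map_mul, map_inv, map_pow] using h5
    have h5 : ((τ a)⁻¹ * τ b) ^ p = 1 := by
      rw [← hτ1] at h4
      simpa only [map_mul, map_inv, map_pow] using h4
    have h6 : (τ a)⁻¹ * τ b ∈ R := inv_mul_mem hAct.norm hτbcl
    have h7 := eq_one_of_mem_coprime hRc h6 h5
    have h8 : τ b = τ a := (inv_mul_eq_one.1 h7).symm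
    rw [hτb] at h8
    exact mul_inv_eq_iff_eq_mul.1 h8
  have h1 : τ a ∈ R := hCR (mem_centralizer_iff.2 main)
  exact (hτ1 a).1 (eq_one_of_mem_coprime hRc h1 hτa)

section Main

variable {G : Type*} [Group G] [Finite G] {p : ℕ} [hp : Fact p.Prime] {A : Set G}

/-- step (3): elements of `A` in a `p`-subgroup commute -/
theorem comm_of_isPGroup (h : Cls p A) (hsol : Group.IsSolvable G) (hcore : Cfsg.pCore p G = ⊥)
    {T : Subgroup G} (hT : IsPGroup p T) {a b : G} (ha : a ∈ A) (haT : a ∈ T) (hb : b ∈ A) (hbT : b ∈ T) :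
    a * b = b * a := by
  haveI hKn : (Cfsg.pPrimeCore p G).Normal := Lib.Cores.pPrimeCore_normal p
  obtain ⟨B, hBT, hBc, hTB, hCB⟩ := OddOrderLocal.PuigMain.exists_selfCentralizing T hT
  have hBcomm : ∀ x ∈ B, ∀ y ∈ B, x * y = y * x := fun x hx y hy =>
    congrArg Subtype.val (hBc.is_comm.comm (⟨x, hx⟩ : B) ⟨y, hy⟩)
  have key : ∀ c ∈ A, c ∈ T → c ∈ B := by
    intro c hc hcT
    apply hCB
    refine ⟨hcT, ?_⟩
    change c ∈ centralizer (B : Set G)
    rw [mem_centralizer_iff]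
    intro x hx
    exact (h.comm (Lib.Cores.pPrimeCore_coprime p)
      (SignalizersComponents.NoOffender.centralizer_pPrimeCore_le hsol hcore) (hT.to_le hBT) hBcomm hc
      (hTB hcT) hx).symm
  exact hBcomm _ (key a ha haT) _ (key b hb hbT)

/-- step (3'): images in `G / O_{p'}(G)` -/
theorem comm_quotient (h : Cls p A) (hsol : Group.IsSolvable G) (hcore : Cfsg.pCore p G = ⊥)
    {T : Subgroup (G ⧸ Cfsg.pPrimeCore p G)} (hT : IsPGroup p T) {a b : G} (ha : a ∈ A)
    (haT : (QuotientGroup.mk' (Cfsg.pPrimeCore p G) a) ∈ T) (hb : b ∈ A)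
    (hbT : (QuotientGroup.mk' (Cfsg.pPrimeCore p G) b) ∈ T) :
    QuotientGroup.mk' (Cfsg.pPrimeCore p G) a * QuotientGroup.mk' (Cfsg.pPrimeCore p G) b =
      QuotientGroup.mk' (Cfsg.pPrimeCore p G) b * QuotientGroup.mk' (Cfsg.pPrimeCore p G) a := by
  set K := Cfsg.pPrimeCore p G with hK
  have hKc : (Nat.card K).Coprime p := Lib.Cores.pPrimeCore_coprime p
  let π : G →* G ⧸ K := QuotientGroup.mk' K
  have hπ : Function.Surjective π := QuotientGroup.mk'_surjective K
  obtain ⟨Q, hTQ⟩ := hT.exists_le_sylow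
  obtain ⟨P, hP⟩ := Sylow.mapSurjective_surjective hπ p Q
  have hPQ : (P : Subgroup G).map π = Q := by rw [← hP]; rfl
  have key : ∀ c ∈ A, π c ∈ T → ∃ s ∈ A, s ∈ (P : Subgroup G) ∧ π s = π c := by
    intro c hc hcT
    have h1 : π c ∈ (P : Subgroup G).map π := by rw [hPQ]; exact hTQ hcT
    obtain ⟨s, hs, e⟩ := h1
    have h2 : c⁻¹ * s ∈ K := by
      rw [← QuotientGroup.eq_one_iff]
      change π (c⁻¹ * s) = 1
      rw [map_mul, map_inv, e, inv_mul_cancel]
    have hsp : ∃ k : ℕ, orderOf s = p ^ k := by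
      obtain ⟨k, hk⟩ := IsPGroup.iff_orderOf.1 P.isPGroup' ⟨s, hs⟩
      rw [Subgroup.orderOf_mk] at hk
      exact ⟨k, hk⟩
    obtain ⟨k, -, e2⟩ := S1907.exists_conj_of_coset (y := c) (z := s) hKc ⟨1, by rw [h.ord c hc, pow_one]⟩ hsp
      (by rw [normalizer_eq_top]; exact mem_top _) h2
    exact ⟨s, e2 ▸ h.norm k c hc, hs, e⟩
  obtain ⟨s, hs, hsP, es⟩ := key a ha haT
  obtain ⟨t, ht, htP, et⟩ := key b hb hbT
  change π a * π b = π b * π a
  rw [← es, ← et, ← map_mul, ← map_mul, comm_of_isPGroup h hsol hcore P.isPGroup' hs hsP ht htP]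

/-- the Fitting subgroup is a `p'`-group -/
theorem fitting_le (hcore : Cfsg.pCore p G = ⊥) : Cfsg.fittingSubgroup G ≤ Cfsg.pPrimeCore p G := by
  rw [Lib.Cores.fittingSubgroup_eq_iSup_pCore]
  refine iSup_le fun q => ?_
  by_cases hq : (q : ℕ) = p
  · rw [hq, hcore]; exact bot_le
  · refine Lib.Cores.le_pPrimeCore (Lib.Cores.pCore_normal _) ?_
    haveI := Fact.mk q.2
    obtain ⟨m, hm⟩ := IsPGroup.iff_card.mp (Lib.Cores.pCore_isPGroup (G := G) (q : ℕ))
    rw [hm]
    exact Nat.Coprime.pow_left m ((Nat.coprime_primes q.2 hp.out).mpr hq)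

/-- commutators of `a` with elements of `K` -/
theorem conj_mul_inv_mem {K : Subgroup G} {a : G} (h : Act p K a) {k : G} (hk : k ∈ K) :
    a * k * a⁻¹ * k⁻¹ ∈ NN K a := by
  have hk' : a * k * a⁻¹ ∈ K := mem_norm_conj h.norm hk
  have h1 : a⁻¹ * ((a * k * a⁻¹) * a * (a * k * a⁻¹)⁻¹) ∈ NN K a := by
    rw [h.mem_NN_iff, mul_inv_cancel_left]
    exact ⟨_, hk', rfl⟩
  have e : a⁻¹ * ((a * k * a⁻¹) * a * (a * k * a⁻¹)⁻¹) = (a * k * a⁻¹ * k⁻¹)⁻¹ := by group
  rw [e] at h1
  exact inv_mem_iff.1 h1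

/-- **the structure theorem** -/
theorem structure_main (h : Cls p A) (hgen : closure A = ⊤) (hsol : Group.IsSolvable G)
    (hcore : Cfsg.pCore p G = ⊥) : (Nat.card (Cfsg.fittingSubgroup G)).Coprime p ∧
      commutator G ≤ Cfsg.fittingSubgroup G ∧ ∀ q : G, q ^ p ∈ Cfsg.fittingSubgroup G := by
  have hFK := fitting_le (p := p) hcore
  set K := Cfsg.pPrimeCore p G with hK
  have hKc : (Nat.card K).Coprime p := Lib.Cores.pPrimeCore_coprime p
  haveI hFn : (Cfsg.fittingSubgroup G).Normal := Lib.Cores.fittingSubgroup_normal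
  set F := Cfsg.fittingSubgroup G with hF
  have hFc : (Nat.card F).Coprime p := Nat.Coprime.coprime_dvd_left (card_dvd_of_le hFK) hKc
  refine ⟨hFc, ?_⟩
  -- all images of `A` in `G / K` commute
  let π : G →* G ⧸ K := QuotientGroup.mk' K
  have hπ : Function.Surjective π := QuotientGroup.mk'_surjective K
  have hKAB : ∀ a ∈ A, ∀ b ∈ A, π a * π b = π b * π a := by
    intro a ha b hb
    have key : ∀ c ∈ A, π c ∈ Cfsg.pCore p (G ⧸ K) := by
      intro c hc
      refine mem_pCore (B := π '' A) h.odd (Lib.Cores.pPrimeCore_quotient_pPrimeCore p) ?_ ?_ ?_ ?_ ⟨c, hc, rfl⟩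
      · rintro g _ ⟨c, hc, rfl⟩
        obtain ⟨g, rfl⟩ := hπ g
        exact ⟨g * c * g⁻¹, h.norm g c hc, by rw [map_mul, map_mul, map_inv]⟩
      · rintro _ ⟨c, hc, rfl⟩
        have hcp : c ^ p = 1 := by rw [← h.ord c hc, pow_orderOf_eq_one]
        rw [← map_pow, hcp, map_one]
      · rintro _ ⟨a, ha, rfl⟩ _ ⟨b, hb, rfl⟩
        obtain ⟨j, hj⟩ := h.sq a ha b hb
        have h1 : orderOf (π (a * b)) ∣ p ^ j := hj ▸ orderOf_map_dvd π _
        obtain ⟨i, -, hi⟩ := (Nat.dvd_prime_pow hp.out).1 h1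
        exact ⟨i, by rw [← hi, map_mul]⟩
      · rintro T hT _ ⟨a, ha, rfl⟩ _ ⟨b, hb, rfl⟩ haT hbT
        exact comm_quotient h hsol hcore hT ha haT hb hbT
    exact comm_quotient h hsol hcore (Lib.Cores.pCore_isPGroup p) ha (key a ha) hb (key b hb)
  -- `NN K a ≤ F`
  have hNF : ∀ a ∈ A, NN K a ≤ F := by
    intro a ha
    have hAct := h.act ha hKc
    have hNK : NN K a ≤ K := hAct.NN_le
    have hnil : Group.IsNilpotent (NN K a) :=
      OddOrderLocal.FpfSolvable.isNilpotent_of_fpf_elem (NN K a) inferInstance a hAct.norm_NN hp.out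
        (by rw [← h.ord a ha]; exact pow_orderOf_eq_one a) (fun x hx hc => hAct.eq_one_of_comm hx hc)
    refine Solvable.Zipper.le_fittingSubgroup_of_isSubnormal ?_ hnil
    refine Subgroup.IsSubnormal.step _ K hNK (Normal.isSubnormal (Lib.Cores.pPrimeCore_normal p)) ?_
    exact normal_subgroupOf_of_le_normalizer fun k hk => norm_NN_of_mem hk
  -- commutators with `K` lie in `F`
  let σ : G →* G ⧸ F := QuotientGroup.mk' F
  have hσ1 : ∀ x, σ x = 1 ↔ x ∈ F := fun x => QuotientGroup.eq_one_iff x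
  have hcent : ∀ k ∈ K, ∀ g : G, σ g * σ k = σ k * σ g := by
    intro k hk g
    have hg : g ∈ closure A := by rw [hgen]; exact mem_top g
    induction hg using closure_induction with
    | mem a ha =>
      have h1 := (hσ1 _).2 (hNF a ha (conj_mul_inv_mem (h.act ha hKc) hk))
      rw [map_mul, map_mul, map_mul, map_inv, map_inv, mul_inv_eq_one, mul_inv_eq_iff_eq_mul] at h1
      exact h1
    | one => rw [map_one, one_mul, mul_one]
    | mul x y _ _ hx hy =>
      have c1 : Commute (σ x) (σ k) := hx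
      have c2 : Commute (σ y) (σ k) := hy
      rw [map_mul]
      exact (c1.mul_left c2).eq
    | inv x _ hx =>
      have c1 : Commute (σ x) (σ k) := hx
      rw [map_inv]
      exact c1.inv_left.eq
  have hcomm : ∀ a ∈ A, ∀ b ∈ A, σ a * σ b = σ b * σ a := by
    intro a ha b hb
    have h1 : ⁅a, b⁆ ∈ K := by
      have h2 := hKAB a ha b hb
      rw [← commutatorElement_eq_one_iff_mul_comm, ← map_commutatorElement] at h2
      exact (QuotientGroup.eq_one_iff _).1 h2
    have hc : ∀ g, Commute (σ g) (σ ⁅a, b⁆) := hcent _ h1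
    have h3 : ∀ n : ℕ, σ a ^ n * σ b * (σ a ^ n)⁻¹ = σ ⁅a, b⁆ ^ n * σ b := by
      intro n
      induction n with
      | zero => simp
      | succ n ih =>
        calc σ a ^ (n + 1) * σ b * (σ a ^ (n + 1))⁻¹ = σ a * (σ a ^ n * σ b * (σ a ^ n)⁻¹) * (σ a)⁻¹ := by
              rw [pow_succ']; group
          _ = σ a * (σ ⁅a, b⁆ ^ n * σ b) * (σ a)⁻¹ := by rw [ih]
          _ = (σ a * σ ⁅a, b⁆ ^ n) * σ b * (σ a)⁻¹ := by group
          _ = (σ ⁅a, b⁆ ^ n * σ a) * σ b * (σ a)⁻¹ := by rw [((hc a).pow_right n).eq]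
          _ = σ ⁅a, b⁆ ^ n * (σ a * σ b * (σ a)⁻¹ * (σ b)⁻¹) * σ b := by group
          _ = σ ⁅a, b⁆ ^ n * σ ⁅a, b⁆ * σ b := by
              rw [commutatorElement_def, map_mul, map_mul, map_mul, map_inv, map_inv]
          _ = σ ⁅a, b⁆ ^ (n + 1) * σ b := by rw [pow_succ]
    have h4 := h3 p
    have h5 : σ a ^ p = 1 := by rw [← map_pow, ← h.ord a ha, pow_orderOf_eq_one, map_one]
    rw [h5, inv_one, one_mul, mul_one] at h4
    have h6 : σ ⁅a, b⁆ ^ p = 1 := by
      have : σ ⁅a, b⁆ ^ p * σ b = 1 * σ b := by rw [← h4, one_mul]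
      exact mul_right_cancel this
    have h7 : σ ⁅a, b⁆ ∈ K.map σ := ⟨_, h1, rfl⟩
    have h8 : (Nat.card (K.map σ)).Coprime p := Nat.Coprime.coprime_dvd_left (card_map_dvd _ _) hKc
    have h9 := eq_one_of_mem_coprime h8 h7 h6
    rw [map_commutatorElement, commutatorElement_eq_one_iff_mul_comm] at h9
    exact h9
  have hcomm' : ∀ x y : G, σ x * σ y = σ y * σ x := by
    have h1 : ∀ a ∈ A, ∀ y : G, σ a * σ y = σ y * σ a := by
      intro a ha y
      have hy : y ∈ closure A := by rw [hgen]; exact mem_top y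
      induction hy using closure_induction with
      | mem b hb => exact hcomm a ha b hb
      | one => rw [map_one, one_mul, mul_one]
      | mul x y _ _ hx hy =>
        have c1 : Commute (σ a) (σ x) := hx
        have c2 : Commute (σ a) (σ y) := hy
        rw [map_mul]
        exact (c1.mul_right c2).eq
      | inv x _ hx =>
        have c1 : Commute (σ a) (σ x) := hx
        rw [map_inv]
        exact c1.inv_right.eq
    intro x y
    have hx : x ∈ closure A := by rw [hgen]; exact mem_top x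
    induction hx using closure_induction with
    | mem b hb => exact h1 b hb y
    | one => rw [map_one, one_mul, mul_one]
    | mul x z _ _ hx hz =>
      have c1 : Commute (σ x) (σ y) := hx
      have c2 : Commute (σ z) (σ y) := hz
      rw [map_mul]
      exact (c1.mul_left c2).eq
    | inv x _ hx =>
      have c1 : Commute (σ x) (σ y) := hx
      rw [map_inv]
      exact c1.inv_left.eq
  constructor
  · rw [_root_.commutator_def, commutator_le]
    intro x _ y _
    rw [← hσ1, map_commutatorElement, commutatorElement_eq_one_iff_mul_comm]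
    exact hcomm' x y
  · intro q
    have hq : q ∈ closure A := by rw [hgen]; exact mem_top q
    rw [← hσ1, map_pow]
    induction hq using closure_induction with
    | mem a ha => rw [← map_pow, ← h.ord a ha, pow_orderOf_eq_one, map_one]
    | one => rw [map_one, one_pow]
    | mul x y _ _ hx hy =>
      have c1 : Commute (σ x) (σ y) := hcomm' x y
      rw [map_mul, c1.mul_pow, hx, hy, one_mul]
    | inv x _ hx => rw [map_inv, inv_pow, hx, inv_one]

/-- **the structure theorem**, in the form needed by helper460 -/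
theorem structure_theorem {G : Type*} [Group G] [Finite G] {p : ℕ} [Fact p.Prime] (hp2 : p ≠ 2) (A : Set G)
    (hA : ∀ g : G, ∀ c ∈ A, g * c * g⁻¹ ∈ A) (hord : ∀ a ∈ A, orderOf a = p)
    (hsq : ∀ a ∈ A, ∀ b ∈ A, Cfsg.Agent.H460.AA.PE p (a * b)) (hgen : Subgroup.closure A = ⊤)
    (hsol : Group.IsSolvable G) (hcore : Cfsg.pCore p G = ⊥) :
    (Nat.card (Cfsg.fittingSubgroup G)).Coprime p ∧ commutator G ≤ Cfsg.fittingSubgroup G ∧
      ∀ q : G, q ^ p ∈ Cfsg.fittingSubgroup G :=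
  structure_main ⟨hp2, hA, hord, hsq⟩ hgen hsol hcore

/-- **Lemma 1** -/
theorem lemma1 {G : Type*} [Group G] [Finite G] {p : ℕ} [hp : Fact p.Prime] (hp2 : p ≠ 2) (K : Subgroup G)
    (hK : ¬ p ∣ Nat.card K) {a : G} (haK : a ∈ normalizer (K : Set G)) (ha : orderOf a = p)
    (hsq : ∀ k ∈ K, Cfsg.Agent.H460.AA.PE p (a * (k * a * k⁻¹))) :
    ∃ N : Subgroup G, N ≤ K ∧ K ≤ normalizer (N : Set G) ∧ a ∈ normalizer (N : Set G) ∧
      {z | ∃ k ∈ K, z = a⁻¹ * (k * a * k⁻¹)} = (N : Set G) ∧ (∀ n ∈ N, a * n = n * a → n = 1) ∧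
      Group.IsNilpotent N ∧ (∀ k ∈ K, a * k * a⁻¹ * k⁻¹ ∈ N) ∧
      ∀ k ∈ K, ∃ n ∈ N, ∃ c ∈ K, a * c = c * a ∧ n * c = k := by
  have hKc : (Nat.card K).Coprime p := ((Nat.Prime.coprime_iff_not_dvd hp.out).2 hK).symm
  have h : Act p K a :=
    { cop := hKc
      norm := haK
      pel := ⟨1, by rw [ha, pow_one]⟩
      odd := by rw [ha]; exact odd_p hp2
      sq := hsq }
  refine ⟨NN K a, h.NN_le, fun k hk => norm_NN_of_mem hk, h.norm_NN, ?_, fun n hn hc => h.eq_one_of_comm hn hc, ?_,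
    fun k hk => conj_mul_inv_mem h hk, fun k hk => h.exists_mul hk⟩
  · ext z
    constructor
    · rintro ⟨k, hk, rfl⟩
      change a⁻¹ * (k * a * k⁻¹) ∈ NN K a
      rw [h.mem_NN_iff, mul_inv_cancel_left]
      exact ⟨k, hk, rfl⟩
    · intro hz
      obtain ⟨k, hk, e⟩ := h.mem_NN_iff.1 hz
      exact ⟨k, hk, by rw [← e, inv_mul_cancel_left]⟩
  · by_cases h1 : ∃ n ∈ NN K a, n ≠ 1
    · let φ : NN K a ≃* NN K a := Subgroup.normalizerMonoidHom (NN K a) ⟨a, h.norm_NN⟩
      have hφ : ∀ x : NN K a, ((φ x : NN K a) : G) = a * x * a⁻¹ := fun x => rfl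
      have hap : a ^ p = 1 := by rw [← ha]; exact pow_orderOf_eq_one a
      refine S0033.result φ ?_ p hp.out ?_
      · intro x hx
        have h2 : a * (x : G) * a⁻¹ = x := by
          rw [← hφ]
          exact congrArg Subtype.val hx
        exact Subtype.ext (h.eq_one_of_comm x.2 (mul_inv_eq_iff_eq_mul.1 h2))
      · have h2 : orderOf φ ∣ p := by
          apply orderOf_dvd_of_pow_eq_one
          change (Subgroup.normalizerMonoidHom (NN K a) ⟨a, h.norm_NN⟩) ^ p = 1
          rw [← map_pow]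
          have h3 : (⟨a, h.norm_NN⟩ : normalizer (NN K a : Set G)) ^ p = 1 := Subtype.ext hap
          rw [h3, map_one]
        rcases (Nat.dvd_prime hp.out).1 h2 with h3 | h3
        · exfalso
          obtain ⟨n, hn, hn1⟩ := h1
          apply hn1
          have h4 : φ = MulEquiv.refl _ := orderOf_eq_one_iff.1 h3
          have h5 : a * n * a⁻¹ = n := by
            have h6 := hφ ⟨n, hn⟩
            rw [h4] at h6
            exact h6.symm
          exact h.eq_one_of_comm hn (mul_inv_eq_iff_eq_mul.1 h5)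
        · exact h3
    · have h2 : NN K a = ⊥ := by
        rw [eq_bot_iff]
        intro n hn
        by_contra hn1
        exact h1 ⟨n, hn, hn1⟩
      rw [h2]
      infer_instance

end Main

end Cfsg.Agent.H208.AAStruct
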