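import Mathlib
import Cfsg.Agent.H185.ExtKappa
import Cfsg.Agent.H206.PspFix

/-!
# Extension of the field for the group generated by the Siegel transformations (helper208)

`j : F₀ → F` an embedding of fields, `Q` the form `Q₀` over `F₀` read over `F` (`Ext j Q₀ Q`).

* `extL j` : linear automorphisms over `F₀` read over `F`;
* `extE : E Q₀ →* E Q`; `extE_sg`; `emb : E Q₀ →* P Q`, with kernel the centre;
* `eq_smul_of_fixed` : a vector fixed by the Siegel transformations with rational data at a rational singular vector `u`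
  is a multiple of `u`.
-/

set_option autoImplicit false
set_option linter.unusedSectionVars false

namespace Cfsg.Agent.H208.ExtE

open Matrix QuadraticMap Cfsg.Agent.LieClassical.OrthCore Cfsg.Agent.LieClassical.OrthTrans
  Cfsg.Agent.ClassicalGeometry.OrthSemi Cfsg.Agent.ClassicalGeometry.OrthAut1
  Cfsg.Agent.AutOrth.SemiSim Cfsg.Agent.H198.OrthFrame Cfsg.Agent.H185.OrthCent Cfsg.Agent.H185.ExtKappa

universe u v

variable {ι : Type} [Fintype ι] [DecidableEq ι] {F : Type u} [Field F] {F₀ : Type v} [Field F₀]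

/-- Linear automorphisms of `K^ι` and matrices. -/
noncomputable def gle (K : Type*) [Field K] (ι : Type) [Fintype ι] [DecidableEq ι] :
    GL ι K ≃* ((ι → K) ≃ₗ[K] (ι → K)) :=
  Matrix.GeneralLinearGroup.toLin.trans (LinearMap.GeneralLinearGroup.generalLinearEquiv K (ι → K))

theorem gle_apply {K : Type*} [Field K] (g : GL ι K) (v : ι → K) : gle K ι g v = (g : Matrix ι ι K) *ᵥ v := rfl

/-- Extension of scalars for linear automorphisms. -/
noncomputable def extL (j : F₀ →+* F) : ((ι → F₀) ≃ₗ[F₀] (ι → F₀)) →* ((ι → F) ≃ₗ[F] (ι → F)) :=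
  (gle F ι).toMonoidHom.comp ((mp j).comp (gle F₀ ι).symm.toMonoidHom)

theorem extL_jv (j : F₀ →+* F) (g : (ι → F₀) ≃ₗ[F₀] (ι → F₀)) (v : ι → F₀) :
    extL j g (jv j v) = jv j (g v) := by
  obtain ⟨g, rfl⟩ := (gle F₀ ι).surjective g
  change (mp j ((gle F₀ ι).symm (gle F₀ ι g)) : Matrix ι ι F) *ᵥ (fun i => j (v i)) = jv j ((g : Matrix ι ι F₀) *ᵥ v)
  rw [MulEquiv.symm_apply_apply, mp_mulVec]
  rfl

theorem extL_gle (j : F₀ →+* F) (g : GL ι F₀) : extL j (gle F₀ ι g) = gle F ι (mp j g) := by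
  change gle F ι (mp j ((gle F₀ ι).symm (gle F₀ ι g))) = _
  rw [MulEquiv.symm_apply_apply]

/-- The rational vectors span. -/
theorem span_jv (j : F₀ →+* F) : Submodule.span F (Set.range (jv (ι := ι) j)) = ⊤ := by
  have h := bc_top (ι := ι) j
  rw [bc, Submodule.top_coe, Set.image_univ] at h
  exact h

theorem lin_ext {W : Type*} [AddCommGroup W] [Module F W] (j : F₀ →+* F) {f g : (ι → F) →ₗ[F] W}
    (h : ∀ v : ι → F₀, f (jv j v) = g (jv j v)) : f = g :=
  LinearMap.ext_on (span_jv j) (by rintro _ ⟨v, rfl⟩; exact h v)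

theorem equiv_ext (j : F₀ →+* F) {f g : (ι → F) ≃ₗ[F] (ι → F)}
    (h : ∀ v : ι → F₀, f (jv j v) = g (jv j v)) : f = g :=
  LinearEquiv.toLinearMap_injective (lin_ext j h)

theorem jv_inj (j : F₀ →+* F) : Function.Injective (jv (ι := ι) j) := by
  intro u v h
  funext i
  exact j.injective (congrFun h i)

theorem jv_neg (j : F₀ →+* F) (v : ι → F₀) : jv j (-v) = - jv j v := by
  funext i; exact map_neg j _

theorem jv_sub (j : F₀ →+* F) (u v : ι → F₀) : jv j (u - v) = jv j u - jv j v := by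
  funext i; exact map_sub j _ _

theorem extL_injective (j : F₀ →+* F) : Function.Injective (extL (ι := ι) j) := by
  intro g h H
  ext1 v
  apply jv_inj j
  rw [← extL_jv, ← extL_jv, H]

variable {j : F₀ →+* F} {Q₀ : QuadraticForm F₀ (ι → F₀)} {Q : QuadraticForm F (ι → F)}

theorem jv_sing (hx : Ext j Q₀ Q) {u : ι → F₀} (hu : Q₀ u = 0) : Q (jv j u) = 0 := by
  rw [show Q (jv j u) = j (Q₀ u) from hx.app u, hu, map_zero]

theorem jv_perp (hx : Ext j Q₀ Q) {u w : ι → F₀} (h : polar Q₀ u w = 0) : polar Q (jv j u) (jv j w) = 0 := by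
  rw [polar_jv hx, h, map_zero]

theorem extL_siegel (hx : Ext j Q₀ Q) {u w : ι → F₀} (hu : Q₀ u = 0) (hw : polar Q₀ u w = 0) :
    extL j (siegel Q₀ u w hu hw) = siegel Q (jv j u) (jv j w) (jv_sing hx hu) (jv_perp hx hw) := by
  apply equiv_ext j
  intro v
  rw [extL_jv, siegel_apply, siegel_apply, polar_jv hx, polar_jv hx, show Q (jv j w) = j (Q₀ w) from hx.app w,
    jv_sub, jv_sub, jv_add, jv_smul, jv_smul, jv_smul, map_mul]

theorem extL_mem_E (hx : Ext j Q₀ Q) {g : (ι → F₀) ≃ₗ[F₀] (ι → F₀)} (hg : g ∈ E Q₀) : extL j g ∈ E Q := by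
  have h : E Q₀ ≤ (E Q).comap (extL j) := by
    rw [E, Subgroup.closure_le]
    rintro _ ⟨u, w, hu, hw, rfl⟩
    change extL j _ ∈ E Q
    rw [extL_siegel hx]
    exact siegel_mem_E _ _
  exact h hg

/-- Extension of scalars. -/
noncomputable def extE (hx : Ext j Q₀ Q) : ↥(E Q₀) →* ↥(E Q) :=
  ((extL j).comp (E Q₀).subtype).codRestrict (E Q) fun g => extL_mem_E hx g.2

theorem coe_extE (hx : Ext j Q₀ Q) (g : ↥(E Q₀)) : (extE hx g : (ι → F) ≃ₗ[F] (ι → F)) = extL j g.1 := rfl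

theorem extE_jv (hx : Ext j Q₀ Q) (g : ↥(E Q₀)) (v : ι → F₀) :
    (extE hx g : (ι → F) ≃ₗ[F] (ι → F)) (jv j v) = jv j ((g : (ι → F₀) ≃ₗ[F₀] (ι → F₀)) v) :=
  extL_jv j g.1 v

theorem extE_sg (hx : Ext j Q₀ Q) {u w : ι → F₀} (hu : Q₀ u = 0) (hw : polar Q₀ u w = 0) :
    extE hx (sg Q₀ u w hu hw) = sg Q (jv j u) (jv j w) (jv_sing hx hu) (jv_perp hx hw) :=
  Subtype.ext (extL_siegel hx hu hw)

/-- Extension of scalars, modulo scalars. -/
noncomputable def emb (hx : Ext j Q₀ Q) : ↥(E Q₀) →* P Q := (QuotientGroup.mk' _).comp (extE hx)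

theorem emb_apply (hx : Ext j Q₀ Q) (g : ↥(E Q₀)) : emb hx g = ((extE hx g : ↥(E Q)) : P Q) := rfl

theorem ker_emb (hx : Ext j Q₀ Q) (hG₀ : Good Q₀) (hG : Good Q) :
    (emb hx).ker = Subgroup.center ↥(E Q₀) := by
  ext g
  rw [MonoidHom.mem_ker, emb_apply, QuotientGroup.eq_one_iff]
  constructor
  · intro h
    obtain ⟨c, hc⟩ := center_scalar hG h
    rw [Subgroup.mem_center_iff]
    intro k
    apply Subtype.ext
    ext1 v
    apply jv_inj j
    change jv j ((k : (ι → F₀) ≃ₗ[F₀] (ι → F₀)) ((g : (ι → F₀) ≃ₗ[F₀] (ι → F₀)) v)) =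
      jv j ((g : (ι → F₀) ≃ₗ[F₀] (ι → F₀)) ((k : (ι → F₀) ≃ₗ[F₀] (ι → F₀)) v))
    rw [← extE_jv hx, ← extE_jv hx, ← extE_jv hx, ← extE_jv hx, hc, hc, map_smul]
  · intro h
    obtain ⟨c, hc⟩ := center_scalar hG₀ h
    refine mem_center_of_scalar (c := j c) fun v => ?_
    have h1 : ((extE hx g : (ι → F) ≃ₗ[F] (ι → F)) : (ι → F) →ₗ[F] (ι → F)) = j c • LinearMap.id := by
      apply lin_ext j
      intro w
      change (extE hx g : (ι → F) ≃ₗ[F] (ι → F)) (jv j w) = j c • jv j w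
      rw [extE_jv hx, hc, jv_smul]
    exact LinearMap.congr_fun h1 v

/-- The range of `emb` is simple. -/
noncomputable def embEquiv (hx : Ext j Q₀ Q) (hG₀ : Good Q₀) (hG : Good Q) : P Q₀ ≃* (emb hx).range :=
  (QuotientGroup.quotientMulEquivOfEq (ker_emb hx hG₀ hG).symm).trans (QuotientGroup.quotientKerEquivRange (emb hx))

theorem good_ext (hx : Ext j Q₀ Q) (hG₀ : Good Q₀) [Finite F] : Good Q := by
  apply LieClassical.OrthFinite.good_of_finite (nondeg_bc hx hG₀.nondeg)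
  have := hG₀.dim
  rw [Module.finrank_fintype_fun_eq_card] at this ⊢
  exact this

/-- A vector orthogonal to all rational vectors is zero. -/
theorem eq_zero_of_perp (hQ : Nondeg Q) {x : ι → F} (h : ∀ w : ι → F₀, polar Q x (jv j w) = 0) : x = 0 := by
  apply hQ
  intro y
  have h1 : polarBilin Q x = 0 := lin_ext j fun w => by
    rw [polarBilin_apply_apply, h]
    rfl
  exact LinearMap.congr_fun h1 y

/-- A vector orthogonal to all rational vectors orthogonal to `u` is a multiple of `u`. -/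
theorem exists_smul_of_perp (hx : Ext j Q₀ Q) (hQ₀ : Nondeg Q₀) (hQ : Nondeg Q) {u : ι → F₀} (hu0 : u ≠ 0) {x : ι → F}
    (h : ∀ w : ι → F₀, polar Q₀ u w = 0 → polar Q x (jv j w) = 0) : ∃ c : F, x = c • jv j u := by
  obtain ⟨u', hu'⟩ := hQ₀.exists_polar_eq hu0 1
  refine ⟨polar Q x (jv j u'), ?_⟩
  rw [← sub_eq_zero]
  apply eq_zero_of_perp (j := j) hQ
  intro v
  have h1 := h (v - polar Q₀ u v • u') (by rw [polar_sub_right, polar_smul_right, hu', smul_eq_mul, mul_one, sub_self])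
  rw [jv_sub, jv_smul, polar_sub_right, polar_smul_right, smul_eq_mul] at h1
  rw [polar_sub_left, polar_smul_left, polar_jv hx, smul_eq_mul]
  linear_combination h1

/-- There is a rational vector `z ⟂ u` not a multiple of `u` modulo any plane. -/
theorem eq_smul_of_fixed (hx : Ext j Q₀ Q) (hG₀ : Good Q₀) (hQ : Nondeg Q) {u : ι → F₀} (hu : Q₀ u = 0) (hu0 : u ≠ 0)
    {x : ι → F} (h : ∀ (w : ι → F₀) (hw : polar Q₀ u w = 0),
      siegel Q (jv j u) (jv j w) (jv_sing hx hu) (jv_perp hx hw) x = x) : ∃ c : F, x = c • jv j u := by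
  have h1 : ∀ w : ι → F₀, polar Q₀ u w = 0 →
      polar Q (jv j u) x • jv j w = (polar Q (jv j w) x + Q (jv j w) * polar Q (jv j u) x) • jv j u := by
    intro w hw
    have h2 := h w hw
    rw [siegel_apply] at h2
    have h3 : polar Q (jv j u) x • jv j w - (polar Q (jv j w) x + Q (jv j w) * polar Q (jv j u) x) • jv j u =
        (x + polar Q (jv j u) x • jv j w - polar Q (jv j w) x • jv j u -
          (Q (jv j w) * polar Q (jv j u) x) • jv j u) - x := by module
    rw [← sub_eq_zero, h3, h2, sub_self]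
  have h0 : polar Q (jv j u) x = 0 := by
    by_contra hne
    obtain ⟨u', hu'⟩ := exists_hyp hG₀.nondeg hu hu0
    obtain ⟨z, w, hz, hz1, hz2, hz3, hz4⟩ := hG₀.exists_hyp2 hu'
    have h4 := congrArg (polar Q (jv j w)) (h1 z hz1)
    rw [polar_smul_right, polar_smul_right, polar_jv hx, polar_jv hx, polar_comm Q₀ w z, hz.pair,
      polar_comm Q₀ w u, hz2, map_zero, smul_zero, map_one, smul_eq_mul, mul_one] at h4
    exact hne h4
  refine exists_smul_of_perp hx hG₀.nondeg hQ hu0 fun w hw => ?_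
  have h2 := h1 w hw
  rw [h0, zero_smul, mul_zero, add_zero] at h2
  have h3 := (smul_eq_zero.1 h2.symm).resolve_right fun h4 => hu0 (jv_inj j (h4.trans (jv_zero j).symm))
  rw [polar_comm]
  exact h3

end Cfsg.Agent.H208.ExtE
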