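import Mathlib
import Cfsg.Agent.H208.FixGood
import Cfsg.Agent.H208.ConjSS
import Cfsg.Agent.H208.Dict

/-!
# Similar forms: transport, and good automorphisms (helper208)

`T : V' ≃ V` linear with `Q (T v) = e Q'(v)`, `e ≠ 0`.

* `sE : E Q' ≃* E Q`, `sP : P Q' ≃* P Q` (conjugation by `T`);
* `sP_psi` : `sP (Psi Q' N x) = Psi Q M (sP x)` if `M T = T N`;
* `good_fr_plus`, `good_fr_minus` : semisimilitudes with a normal form are good;
* `good_main` : every semisimilitude with a nontrivial field automorphism inducing an automorphism of prime order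
  of `PΩ(Q)`, `F` finite, even dimension at least 8, is good.
-/

set_option autoImplicit false
set_option linter.unusedSectionVars false

namespace Cfsg.Agent.H208.SimForm

open QuadraticMap Module Cfsg.Agent.LieClassical.OrthCore Cfsg.Agent.LieClassical.OrthTrans
open Cfsg.Agent.LieClassical.OrthSimple Cfsg.Agent.ClassicalGeometry.OrthSemi
  Cfsg.Agent.ClassicalGeometry.OrthAut1 Cfsg.Agent.LieClassical.OrthFinite
open Cfsg.Agent.H966.Frob Cfsg.Agent.H208.Ext Cfsg.Agent.H208.Frame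
open Cfsg.Agent.LieClassical.QuadForms

variable {F V V' : Type*} [Field F] [AddCommGroup V] [Module F V] [AddCommGroup V'] [Module F V']
  {Q : QuadraticForm F V} {Q' : QuadraticForm F V'} {T : V' ≃ₗ[F] V} {e : F}

theorem polar_sim (hT : ∀ v, Q (T v) = e * Q' v) (u v : V') : polar Q (T u) (T v) = e * polar Q' u v := by
  rw [polar, polar, ← map_add T, hT, hT, hT]
  ring

/-- Conjugation by `T`. -/
def cT (T : V' ≃ₗ[F] V) : (V' ≃ₗ[F] V') ≃* (V ≃ₗ[F] V) where
  toFun h := (T.symm.trans h).trans T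
  invFun h := (T.trans h).trans T.symm
  left_inv h := by
    ext v
    change T.symm (T (h (T.symm (T v)))) = h v
    rw [LinearEquiv.symm_apply_apply, LinearEquiv.symm_apply_apply]
  right_inv h := by
    ext v
    change T (T.symm (h (T (T.symm v)))) = h v
    rw [LinearEquiv.apply_symm_apply, LinearEquiv.apply_symm_apply]
  map_mul' h k := by
    ext v
    change T (h (k (T.symm v))) = T (h (T.symm (T (k (T.symm v)))))
    rw [LinearEquiv.symm_apply_apply]

theorem cT_apply (T : V' ≃ₗ[F] V) (h : V' ≃ₗ[F] V') (v : V') : cT T h (T v) = T (h v) := by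
  change T (h (T.symm (T v))) = _
  rw [LinearEquiv.symm_apply_apply]

theorem cT_symm (T : V' ≃ₗ[F] V) : (cT T).symm = cT T.symm := by
  ext h v
  rfl

theorem cT_siegel (he : e ≠ 0) (hT : ∀ v, Q (T v) = e * Q' v) {u w : V'} (hu : Q' u = 0) (hw : polar Q' u w = 0) :
    ∃ (hu' : Q (T u) = 0) (hw' : polar Q (T u) (e⁻¹ • T w) = 0),
      cT T (siegel Q' u w hu hw) = siegel Q (T u) (e⁻¹ • T w) hu' hw' := by
  have hu' : Q (T u) = 0 := by rw [hT, hu, mul_zero]
  have hw' : polar Q (T u) (e⁻¹ • T w) = 0 := by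
    rw [polar_smul_right, polar_sim hT, hw, mul_zero, smul_zero]
  refine ⟨hu', hw', ?_⟩
  ext v
  obtain ⟨v, rfl⟩ := T.surjective v
  rw [cT_apply, siegel_apply, siegel_apply, map_sub, map_sub, map_add, map_smul, map_smul, map_smul,
    QuadraticMap.map_smul, hT, polar_smul_left, polar_sim hT, polar_sim hT, smul_smul]
  have e1 : e * polar Q' u v * e⁻¹ = polar Q' u v := by field_simp
  have e2 : e⁻¹ • (e * polar Q' w v) = polar Q' w v := by rw [smul_eq_mul]; field_simp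
  have e3 : (e⁻¹ * e⁻¹) • (e * Q' w) * (e * polar Q' u v) = Q' w * polar Q' u v := by
    rw [smul_eq_mul]; field_simp
  rw [e1, e2, e3]

theorem cT_mem_E (he : e ≠ 0) (hT : ∀ v, Q (T v) = e * Q' v) {h : V' ≃ₗ[F] V'} (hh : h ∈ E Q') : cT T h ∈ E Q := by
  have h1 : E Q' ≤ (E Q).comap (cT T).toMonoidHom := by
    rw [E, Subgroup.closure_le]
    rintro _ ⟨u, w, hu, hw, rfl⟩
    obtain ⟨hu', hw', h2⟩ := cT_siegel he hT hu hw
    change cT T _ ∈ E Q
    rw [h2]
    exact siegel_mem_E hu' hw'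
  exact h1 hh

theorem symm_form (he : e ≠ 0) (hT : ∀ v, Q (T v) = e * Q' v) (v : V) : Q' (T.symm v) = e⁻¹ * Q v := by
  have := hT (T.symm v)
  rw [LinearEquiv.apply_symm_apply] at this
  rw [this, inv_mul_cancel_left₀ he]

/-- Conjugation by `T`. -/
def sE (he : e ≠ 0) (hT : ∀ v, Q (T v) = e * Q' v) : ↥(E Q') ≃* ↥(E Q) where
  toFun h := ⟨cT T h.1, cT_mem_E he hT h.2⟩
  invFun h := ⟨cT T.symm h.1, cT_mem_E (inv_ne_zero he) (symm_form he hT) h.2⟩
  left_inv h := Subtype.ext ((cT T).symm_apply_apply h.1)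
  right_inv h := Subtype.ext ((cT T).apply_symm_apply h.1)
  map_mul' h k := Subtype.ext (map_mul (cT T) h.1 k.1)

theorem sE_apply (he : e ≠ 0) (hT : ∀ v, Q (T v) = e * Q' v) (h : ↥(E Q')) (v : V') :
    (sE he hT h : V ≃ₗ[F] V) (T v) = T ((h : V' ≃ₗ[F] V') v) := cT_apply T h.1 v

/-- The isomorphism of the quotients. -/
noncomputable def sP (he : e ≠ 0) (hT : ∀ v, Q (T v) = e * Q' v) : P Q' ≃* P Q := quotientCenterCongr (sE he hT)

theorem sP_mk (he : e ≠ 0) (hT : ∀ v, Q (T v) = e * Q' v) (h : ↥(E Q')) :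
    sP he hT (QuotientGroup.mk h) = QuotientGroup.mk (sE he hT h) := rfl

/-- **Transport.** -/
theorem sP_psi (he : e ≠ 0) (hT : ∀ v, Q (T v) = e * Q' v) {N : Gam Q'} {M : Gam Q} (h : ∀ v, M.1 (T v) = T (N.1 v))
    (x : P Q') : Psi Q M (sP he hT x) = sP he hT (Psi Q' N x) := by
  obtain ⟨x, rfl⟩ := QuotientGroup.mk_surjective x
  rw [Psi_mk, sP_mk, sP_mk, Psi_mk]
  congr 1
  apply Subtype.ext
  ext1 v
  obtain ⟨v, rfl⟩ := T.surjective v
  obtain ⟨v, rfl⟩ := N.1.surjective v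
  rw [sE_apply, coe_conjE, coe_conjE, conjLin_apply', ← h, conjLin_apply', sE_apply, h]

section Good

open Cfsg.Agent.H185.OrthCent

variable [Finite F]

/-- A semisimilitude which is `σ` in coordinates. -/
theorem good_of_fr {κ : Type} [Fintype κ] [DecidableEq κ] {q : QuadraticForm F (κ → F)} {σ : F ≃+* F}
    (hσ : H185.OrthCent.Fix σ q)
    {q₀ : QuadraticForm (fix σ) (κ → fix σ)} (hq : ∀ x, q (inc _ x) = (q₀ x : F)) (hG₀ : Good q₀)
    (h7 : 7 ≤ Fintype.card κ) {M : Gam Q} (h : Fr Q σ M.1 q) (p : ℕ) [Fact p.Prime] :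
    H206.Balance.Good p (Psi Q M) := by
  obtain ⟨T, e, he, hT, hM⟩ := h
  have hx : H185.OrthCent.Ext (fix σ).subtype q₀ q := ⟨fun v => hq v⟩
  have hG : Good q := ExtE.good_ext hx hG₀
  have h1 := FixGood.good_psi hx hG₀ hG h7 hσ (fun a => ⟨fun h => ⟨⟨a, h⟩, rfl⟩, by rintro ⟨b, rfl⟩; exact b.2⟩) p
  refine FixGood.good_congr (sP he hT) (fun k => sP_psi he hT (fun v => ?_) k) h1
  rw [hM, frobG_apply]
  rfl

theorem good_fr_plus {σ : F ≃+* F} {M : Gam Q} {k : ℕ} (hk : 4 ≤ k) (h : Fr Q σ M.1 (Cfsg.quadFormPlus k F))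
    (p : ℕ) [Fact p.Prime] : H206.Balance.Good p (Psi Q M) := by
  rw [← coe_plusForm] at h
  refine good_of_fr (q₀ := plusForm k (fix σ)) (fun v => ?_) (fun x => ?_) (AutOrth.Main.good_plus (by omega))
    (by simp; omega) h p
  · rw [coe_plusForm]
    unfold Cfsg.quadFormPlus
    simp only [map_sum, map_mul]
  · rw [coe_plusForm, coe_plusForm, coe_plus]

theorem good_fr_minus {σ : F ≃+* F} {M : Gam Q} {k : ℕ} (hk : 3 ≤ k) {a b : F} (ha : σ a = a) (hb : σ b = b)
    (hab : AnisoFix σ a b) (h : Fr Q σ M.1 (Cfsg.quadFormMinus k F a b))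
    (p : ℕ) [Fact p.Prime] : H206.Balance.Good p (Psi Q M) := by
  rw [← coe_minusForm] at h
  refine good_of_fr (q₀ := minusForm k (fix σ) ⟨a, ha⟩ ⟨b, hb⟩) (fun v => ?_) (fun x => ?_)
    (AutOrth.Main.good_minus (by omega) ?_) (by simp; omega) h p
  · rw [coe_minusForm]
    unfold Cfsg.quadFormMinus
    simp only [map_add, map_sum, map_mul, map_pow, ha, hb]
  · rw [coe_minusForm, coe_minusForm, coe_minus]
  · intro z₁ z₂ h1
    have h2 := hab z₁ z₂ z₁.2 z₂.2 (by simpa using congrArg Subtype.val h1)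
    exact ⟨Subtype.ext h2.1, Subtype.ext h2.2⟩

/-- **Semisimilitudes with a nontrivial field automorphism are good.** -/
theorem good_main [FiniteDimensional F V] (hG : Good Q) {m : ℕ} (hV : finrank F V = 2 * m) (hm : 4 ≤ m) {M : Gam Q}
    {σ : F ≃+* F} {c : F} (hM : IsSS Q σ c M.1) (hσ : σ ≠ 1) (p : ℕ) [hp : Fact p.Prime] (h : Psi Q M ^ p = 1) :
    H206.Balance.Good p (Psi Q M) := by
  have := ConjSS.nontrivial_of_good hG
  obtain ⟨ho, a, ha⟩ := ConjSS.exists_normal hG hM hσ hp.out h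
  obtain ⟨c', hc'⟩ := ConjSS.isSS_scal_mul hM a
  have h1 : Psi Q (scal Q a * M) = Psi Q M := by rw [map_mul, ConjSS.Psi_scal hG, one_mul]
  rw [← h1]
  rcases normal_form hG.nondeg hc' ho hp.out.pos ha with ⟨k, hk, -⟩ | ⟨k, hk, hf⟩ | ⟨k, hk, a', b', ha', hb', hab, hf⟩
  · omega
  · exact good_fr_plus (by omega) hf p
  · exact good_fr_minus (by omega) ha' hb' hab hf p

omit [Finite F] in
/-- From `P Q` to `POmega`. -/
theorem good_of_psi {ι : Type} [Fintype ι] [DecidableEq ι] {Q : QuadraticForm F (ι → F)} (hG : Good Q)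
    {x : MulAut (Cfsg.POmega F ⇑Q)} {M : Gam Q} (hx : AutOrth.Main.tr hG x = Psi Q M) {p : ℕ}
    (h : H206.Balance.Good p (Psi Q M)) : H206.Balance.Good p x := by
  refine FixGood.good_congr (AutOrth.Main.pe hG).symm (fun k => ?_) h
  rw [← hx]
  change _ = (AutOrth.Main.pe hG).symm (AutOrth.Main.pe hG (x ((AutOrth.Main.pe hG).symm k)))
  rw [MulEquiv.symm_apply_apply]

/-- **Automorphisms of prime order induced by semisimilitudes with a nontrivial field automorphism are good.** -/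
theorem good_tr {ι : Type} [Fintype ι] [DecidableEq ι] {Q : QuadraticForm F (ι → F)} (hG : Good Q) {m : ℕ}
    (hV : Fintype.card ι = 2 * m) (hm : 4 ≤ m) {x : MulAut (Cfsg.POmega F ⇑Q)} {M : Gam Q}
    (hx : AutOrth.Main.tr hG x = Psi Q M) {σ : F ≃+* F} {c : F} (hM : IsSS Q σ c M.1) (hσ : σ ≠ 1) (p : ℕ)
    [hp : Fact p.Prime] (hord : orderOf x = p) : H206.Balance.Good p x := by
  apply good_of_psi hG hx
  refine good_main hG (m := m) (by rw [finrank_fintype_fun_eq_card, hV]) hm hM hσ p ?_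
  exact Dict.pow_eq_one hG hx (by rw [← hord, pow_orderOf_eq_one])

end Good

end Cfsg.Agent.H208.SimForm
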