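import Cfsg.Agent.H208.SelfLarge
import Cfsg.Agent.MonsterU.CoFrameF
import Cfsg.Agent.SporadicStructure.GolayInterp
import Cfsg.Agent.SporadicA.GolayWeight
import Cfsg.Agent.QTNorm.SporJ4

/-!
# The Sylow 2-subgroups of `Co1` are self-normalizing (helper208)

`F = 2^11 : M24` is the stabiliser of the standard frame. If `g ∈ Co0` and `w = g (8 e_i)`, and every
`g⁻¹ (sign change) g` lies in the monomial group, then the restriction of `w` to every code word lies in the
lattice; this forces `w = ± 8 e_j`.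
-/

set_option autoImplicit false

namespace Cfsg.Agent.H208.SelfCoOne

open Cfsg
open Cfsg.Agent.SporadicA.Co0Mono hiding smul_add smul_sub smul_neg smul_zero
open Cfsg.Agent.SporadicA.Co1Simple
open Cfsg.Agent.CoOneType
open Cfsg.Agent.CoOneType.CoOneE (pr pr_surjective E mem_E mem_center_iff card_E)
open Cfsg.Agent.SporadicStructure.Co0Base (e8 e8_coe)
open Cfsg.Agent.SporadicStructure.GolayInterp
open Cfsg.Agent.MonsterU.CoFrameF
open Cfsg.Spor (Co1)

/-! ### The code -/

/-- a code word `D` such that `D c` is a code word for all `c` is `0` or `1` -/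
theorem zero_or_one {D : GolayPt → ZMod 2} (hD : D ∈ golayCode)
    (h : ∀ c ∈ golayCode, (fun i => D i * c i) ∈ golayCode) : D = 0 ∨ D = 1 := by
  classical
  -- a word with this property of weight at most 12 vanishes
  have key : ∀ D : GolayPt → ZMod 2, D ∈ golayCode → (∀ c ∈ golayCode, (fun i => D i * c i) ∈ golayCode) →
      (support₂ D).card ≤ 12 → D = 0 := by
    intro D hD h hw
    by_contra h0
    have h8 := Cfsg.Agent.SporadicA.GolayWeight.eight_le_weight hD h0
    obtain ⟨t, htD, ht⟩ := Finset.exists_subset_card_eq (n := 7) (s := support₂ D) (by omega)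
    obtain ⟨a, ha⟩ : t.Nonempty := by rw [← Finset.card_pos]; omega
    obtain ⟨c, hc, hct⟩ := exists_word_interp t (by omega) (fun i => if i = a then 1 else 0)
    have h1 := h c hc
    have h2 : (fun i => D i * c i) ≠ (0 : GolayPt → ZMod 2) := by
      intro h3
      have h4 := congrFun h3 a
      have h5 : D a = 1 := by
        have := (Cfsg.Agent.SporadicStructure.LeechBase.mem_support₂_iff_one D a).1 (htD ha)
        exact this
      have h6 : c a = 1 := by rw [hct a ha, if_pos rfl]
      simp only [h5, h6, Pi.zero_apply, mul_one] at h4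
      exact one_ne_zero h4
    have h3 := Cfsg.Agent.SporadicA.GolayWeight.eight_le_weight h1 h2
    have h4 : support₂ (fun i => D i * c i) ⊆ support₂ D \ (t.erase a) := by
      intro i hi
      rw [Cfsg.Agent.SporadicStructure.LeechBase.mem_support₂_iff_one] at hi
      have hDi : D i ≠ 0 := by
        intro h0
        rw [h0, zero_mul] at hi
        exact zero_ne_one hi
      have hci : c i ≠ 0 := by
        intro h0
        rw [h0, mul_zero] at hi
        exact zero_ne_one hi
      rw [Finset.mem_sdiff]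
      refine ⟨?_, fun hit => ?_⟩
      · rw [Cfsg.Agent.SporadicStructure.LeechBase.mem_support₂_iff_one]
        exact (Cfsg.Agent.SporadicStructure.LeechBase.zmod2_cases _).resolve_left hDi
      · rw [Finset.mem_erase] at hit
        apply hci
        rw [hct i hit.2, if_neg hit.1]
    have h5 := Finset.card_le_card h4
    rw [Finset.card_sdiff_of_subset ((Finset.erase_subset _ _).trans htD), Finset.card_erase_of_mem ha, ht] at h5
    omega
  by_cases hw : (support₂ D).card ≤ 12
  · exact Or.inl (key D hD h hw)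
  · right
    have h1 : (1 : GolayPt → ZMod 2) ∈ golayCode := Cfsg.Agent.SporadicStructure.LeechBase.one_mem_golayCode
    have h2 : (1 + D) ∈ golayCode := Submodule.add_mem _ h1 hD
    have h3 : ∀ c ∈ golayCode, (fun i => (1 + D) i * c i) ∈ golayCode := by
      intro c hc
      have : (fun i => (1 + D) i * c i) = c + fun i => D i * c i := by
        funext i
        simp [add_mul]
      rw [this]
      exact Submodule.add_mem _ hc (h c hc)
    have h4 : (support₂ (1 + D)).card ≤ 12 := by
      have h5 : support₂ (1 + D) ⊆ Finset.univ \ support₂ D := by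
        intro i hi
        rw [Cfsg.Agent.SporadicStructure.LeechBase.mem_support₂_iff_one] at hi
        rw [Finset.mem_sdiff]
        refine ⟨Finset.mem_univ i, fun h => ?_⟩
        rw [Cfsg.Agent.SporadicStructure.LeechBase.mem_support₂_iff_one] at h
        rw [Pi.add_apply, h, Pi.one_apply] at hi
        revert hi
        decide
      have h6 := Finset.card_le_card h5
      rw [Finset.card_sdiff_of_subset (Finset.subset_univ _), Finset.card_univ] at h6
      have h7 : Fintype.card GolayPt = 24 := by decide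
      omega
    have h5 := key _ h2 h3 h4
    have h6 : D = -1 := (neg_eq_of_add_eq_zero_right h5).symm
    rw [h6]
    funext i
    simp

/-! ### The lattice -/

/-- a lattice vector of norm 64 whose restrictions to all code words lie in the lattice is `± 8 e_j` -/
theorem mem_cross {w : leechLattice} (hn : sqNorm (w : GolayPt → ℤ) = 64)
    (h : ∀ c ∈ golayCode, (fun i => if c i = 0 then 0 else (w : GolayPt → ℤ) i) ∈ leechLattice) :
    w ∈ crossSet := by
  classical
  have hsum : ∑ i, (w : GolayPt → ℤ) i ^ 2 = 64 := hn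
  -- the coordinates are even
  have heven : ∀ i, (2 : ℤ) ∣ (w : GolayPt → ℤ) i := by
    intro i
    obtain ⟨j, hji⟩ : ∃ j : GolayPt, j ≠ i := exists_ne i
    obtain ⟨c, hc, hct⟩ := exists_word_interp {i, j} (by
      have := Finset.card_le_two (a := i) (b := j); omega) (fun k => if k = i then 1 else 0)
    obtain ⟨m, z, -, -, hz⟩ := (Cfsg.Agent.SporadicStructure.LeechBase.mem_leech_iff _).1 (h c hc)
    have h1 := hz i
    have h2 := hz j
    rw [if_neg (by rw [hct i (by simp), if_pos rfl]; exact one_ne_zero)] at h1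
    rw [if_pos (by rw [hct j (by simp), if_neg hji])] at h2
    exact ⟨z i - z j, by rw [h1]; linear_combination -h2⟩
  choose y hy using heven
  have hy' : ∀ i, (w : GolayPt → ℤ) i = 2 * y i := hy
  have hsumy : ∑ i, y i ^ 2 = 16 := by
    have h1 : ∑ i, (w : GolayPt → ℤ) i ^ 2 = 4 * ∑ i, y i ^ 2 := by
      rw [Finset.mul_sum]
      exact Finset.sum_congr rfl fun i _ => by rw [hy' i]; ring
    omega
  -- code words from the lattice
  have hcode : ∀ x : GolayPt → ℤ, (fun i => 2 * x i) ∈ leechLattice →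
      (fun i => ((x i : ℤ) : ZMod 2)) ∈ golayCode ∧ (∑ i, x i) % 4 = 0 := by
    intro x hx
    rcases Cfsg.Agent.SporadicA.LeechMin.even_or_odd hx with ⟨x', hx', hs, hc⟩ | ⟨m, z, hm, hz, -, -⟩
    · have : x' = x := by
        funext i
        have := hx' i
        have h0 : 2 * x i = 2 * x' i := this
        omega
      rw [this] at hs hc
      exact ⟨hc, hs⟩
    · exfalso
      have h0 : 2 * x none = m + 2 * z none := hz none
      omega
  have hwy : (fun i => 2 * y i) = (w : GolayPt → ℤ) := by funext i; rw [hy' i]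
  have hDcode := (hcode y (by rw [hwy]; exact w.2)).1
  have hDc : ∀ c ∈ golayCode, (fun i => ((y i : ℤ) : ZMod 2) * c i) ∈ golayCode ∧
      (∑ i, if c i = 0 then 0 else y i) % 4 = 0 := by
    intro c hc
    have h1 := h c hc
    have h2 : (fun i => if c i = 0 then 0 else (w : GolayPt → ℤ) i) =
        fun i => 2 * (if c i = 0 then 0 else y i) := by
      funext i
      rw [hy' i]
      split_ifs <;> ring
    rw [h2] at h1
    obtain ⟨h3, h4⟩ := hcode _ h1
    refine ⟨?_, h4⟩
    convert h3 using 2 with i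
    rcases Cfsg.Agent.SporadicStructure.LeechBase.zmod2_cases (c i) with h5 | h5
    · rw [h5]; simp
    · rw [h5]; simp
  have hD0 : (fun i => ((y i : ℤ) : ZMod 2)) = 0 := by
    rcases zero_or_one hDcode (fun c hc => (hDc c hc).1) with h1 | h1
    · exact h1
    · exfalso
      have h2 : ∀ i, 1 ≤ y i ^ 2 := by
        intro i
        have h3 := congrFun h1 i
        have h4 : y i ≠ 0 := by
          intro h0
          simp only [h0, Int.cast_zero, Pi.one_apply] at h3
          exact zero_ne_one h3
        have := sq_nonneg (y i)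
        have h5 : y i ^ 2 ≠ 0 := pow_ne_zero 2 h4
        omega
      have h3 : (24 : ℤ) ≤ ∑ i, y i ^ 2 := by
        calc (24 : ℤ) = ∑ _i : GolayPt, (1 : ℤ) := by
              rw [Finset.sum_const, Finset.card_univ]
              have : Fintype.card GolayPt = 24 := by decide
              rw [this]; norm_num
          _ ≤ ∑ i, y i ^ 2 := Finset.sum_le_sum fun i _ => h2 i
      omega
  have hev : ∀ i, (2 : ℤ) ∣ y i := by
    intro i
    have h1 := congrFun hD0 i
    exact (ZMod.intCast_zmod_eq_zero_iff_dvd _ 2).1 h1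
  choose v hv using hev
  have hsumv : ∑ i, v i ^ 2 = 4 := by
    have h1 : ∑ i, y i ^ 2 = 4 * ∑ i, v i ^ 2 := by
      rw [Finset.mul_sum]
      exact Finset.sum_congr rfl fun i _ => by rw [hv i]; ring
    omega
  -- `v` mod 2 is orthogonal to the code
  have hvcode : (fun i => ((v i : ℤ) : ZMod 2)) ∈ golayCode := by
    apply mem_golayCode_of_orthogonal
    intro c hc
    have h1 := (hDc c hc).2
    have h2 : (∑ i, if c i = 0 then 0 else y i) = 2 * ∑ i, if c i = 0 then 0 else v i := by
      rw [Finset.mul_sum]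
      exact Finset.sum_congr rfl fun i _ => by
        rw [hv i]
        split_ifs <;> ring
    have h3 : (2 : ℤ) ∣ ∑ i, if c i = 0 then 0 else v i := by omega
    have h4 := (ZMod.intCast_zmod_eq_zero_iff_dvd (∑ i, if c i = 0 then 0 else v i) 2).2 h3
    rw [Int.cast_sum] at h4
    rw [← h4]
    refine Finset.sum_congr rfl fun i _ => ?_
    rcases Cfsg.Agent.SporadicStructure.LeechBase.zmod2_cases (c i) with h5 | h5
    · rw [h5]; simp
    · rw [h5]; simp
  have hv0 : (fun i => ((v i : ℤ) : ZMod 2)) = 0 := by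
    by_contra hne
    have h8 := Cfsg.Agent.SporadicA.GolayWeight.eight_le_weight hvcode hne
    have h1 : ((support₂ fun i => ((v i : ℤ) : ZMod 2)).card : ℤ) ≤ ∑ i, v i ^ 2 := by
      rw [Finset.card_eq_sum_ones, Nat.cast_sum]
      refine (Finset.sum_le_sum (fun i hi => ?_)).trans
        (Finset.sum_le_sum_of_subset_of_nonneg (Finset.subset_univ _) fun i _ _ => sq_nonneg (v i))
      rw [Cfsg.Agent.SporadicStructure.LeechBase.mem_support₂_iff_one] at hi
      have h4 : v i ≠ 0 := by
        intro h0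
        rw [h0, Int.cast_zero] at hi
        exact zero_ne_one hi
      have := sq_nonneg (v i)
      have h5 : v i ^ 2 ≠ 0 := pow_ne_zero 2 h4
      push_cast
      omega
    omega
  have hev' : ∀ i, (2 : ℤ) ∣ v i := by
    intro i
    exact (ZMod.intCast_zmod_eq_zero_iff_dvd _ 2).1 (congrFun hv0 i)
  choose t ht using hev'
  have hsumt : ∑ i, t i ^ 2 = 1 := by
    have h1 : ∑ i, v i ^ 2 = 4 * ∑ i, t i ^ 2 := by
      rw [Finset.mul_sum]
      exact Finset.sum_congr rfl fun i _ => by rw [ht i]; ring
    omega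
  -- one coordinate
  obtain ⟨j, hj⟩ : ∃ j, t j ≠ 0 := by
    by_contra hne
    push Not at hne
    rw [Finset.sum_eq_zero fun i _ => by rw [hne i]; ring] at hsumt
    exact zero_ne_one hsumt
  have hj1 : 1 ≤ t j ^ 2 := by
    have := sq_nonneg (t j)
    have h5 : t j ^ 2 ≠ 0 := pow_ne_zero 2 hj
    omega
  have hsplit := Finset.add_sum_erase Finset.univ (fun i => t i ^ 2) (Finset.mem_univ j)
  have hnn : 0 ≤ ∑ i ∈ Finset.univ.erase j, t i ^ 2 := Finset.sum_nonneg fun i _ => sq_nonneg (t i)
  have hj2 : t j ^ 2 = 1 := by omega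
  have hz : ∑ i ∈ Finset.univ.erase j, t i ^ 2 = 0 := by omega
  have hother : ∀ i, i ≠ j → t i = 0 := by
    intro i hi
    have h1 := (Finset.sum_eq_zero_iff_of_nonneg (fun i _ => sq_nonneg (t i))).1 hz i
      (Finset.mem_erase.2 ⟨hi, Finset.mem_univ i⟩)
    exact pow_eq_zero_iff (two_ne_zero) |>.1 h1
  have hw8 : ∀ i, (w : GolayPt → ℤ) i = 8 * t i := by
    intro i
    rw [hy' i, hv i, ht i]
    ring
  rw [mem_crossSet]
  refine ⟨j, ?_⟩
  have hcases : t j = 1 ∨ t j = -1 := by
    have h0 : (t j - 1) * (t j + 1) = 0 := by linear_combination hj2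
    rcases mul_eq_zero.1 h0 with h | h
    · exact Or.inl (by linarith)
    · exact Or.inr (by linarith)
  rcases hcases with h1 | h1
  · left
    apply Subtype.ext
    funext i
    rw [hw8 i, e8_coe]
    by_cases hi : i = j
    · subst hi
      rw [h1, Pi.single_eq_same]
      rfl
    · rw [hother i hi, Pi.single_eq_of_ne hi]
      rfl
  · right
    apply Subtype.ext
    funext i
    rw [hw8 i]
    show _ = -((e8 j : leechLattice) : GolayPt → ℤ) i
    rw [e8_coe]
    by_cases hi : i = j
    · subst hi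
      rw [h1, Pi.single_eq_same]
      rfl
    · rw [hother i hi, Pi.single_eq_of_ne hi]
      rfl

/-! ### The group -/

/-- if all `g⁻¹ ε_c g` are monomial, then `g` is monomial -/
theorem mem_N_of_conj {g : Co0} (h : ∀ c : golayCode, g⁻¹ * signCo0 c * g ∈ N) : g ∈ N := by
  apply mem_N_of_e8
  intro i
  have hn : sqNorm ((g • e8 i : leechLattice) : GolayPt → ℤ) = 64 := by
    rw [sqNorm_smul, sqNorm_e8]
  refine mem_cross hn fun c hc => ?_
  -- `ε_c w ≡ w` modulo twice the lattice
  have h1 := (mem_N_iff _).1 (h ⟨c, hc⟩) (e8 i) (e8_mem i)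
  have h1' : (g⁻¹ * signCo0 ⟨c, hc⟩ * g) • e8 i ∈ crossSet := h1
  rw [mem_crossSet] at h1'
  obtain ⟨u, hu⟩ : ∃ u : leechLattice, (g⁻¹ * signCo0 ⟨c, hc⟩ * g) • e8 i = e8 i + (2 : ℕ) • u := by
    obtain ⟨k, hk | hk⟩ := h1'
    · obtain ⟨u, hu⟩ := e8_sub k i
      exact ⟨u, by rw [hk, hu]⟩
    · obtain ⟨u, hu⟩ := e8_sub k i
      refine ⟨u - e8 k, ?_⟩
      rw [hk, nsmul_sub, ← add_sub_assoc, ← hu, two_nsmul]
      abel
  have h2 : signCo0 ⟨c, hc⟩ • (g • e8 i) = g • e8 i + (2 : ℕ) • (g • u) := by
    have h3 : g • ((g⁻¹ * signCo0 ⟨c, hc⟩ * g) • e8 i) = g • (e8 i + (2 : ℕ) • u) := congrArg (fun v => g • v) hu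
    rw [Cfsg.Agent.SporadicA.Co0Mono.smul_add, smul_nsmul, ← mul_smul, ← mul_assoc, ← mul_assoc,
      mul_inv_cancel, one_mul, mul_smul] at h3
    exact h3
  -- the restriction
  have h3 : (fun k => if c k = 0 then 0 else ((g • e8 i : leechLattice) : GolayPt → ℤ) k) =
      ((-(g • u) : leechLattice) : GolayPt → ℤ) := by
    funext k
    have h4 : ((signCo0 ⟨c, hc⟩ • (g • e8 i) : leechLattice) : GolayPt → ℤ) k =
        ((g • e8 i + (2 : ℕ) • (g • u) : leechLattice) : GolayPt → ℤ) k :=
      congrArg (fun v : leechLattice => (v : GolayPt → ℤ) k) h2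
    rw [signCo0_smul, signMap_apply] at h4
    have h5 : ((g • e8 i + (2 : ℕ) • (g • u) : leechLattice) : GolayPt → ℤ) k =
        ((g • e8 i : leechLattice) : GolayPt → ℤ) k + 2 * ((g • u : leechLattice) : GolayPt → ℤ) k := by
      show ((g • e8 i : leechLattice) : GolayPt → ℤ) k + (2 : ℕ) • ((g • u : leechLattice) : GolayPt → ℤ) k = _
      rw [nsmul_eq_mul]
      rfl
    rw [h5] at h4
    show _ = -((g • u : leechLattice) : GolayPt → ℤ) k
    have h6 : ((⟨c, hc⟩ : golayCode) : GolayPt → ZMod 2) k = c k := rfl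
    rw [h6] at h4
    rcases Cfsg.Agent.SporadicStructure.LeechBase.zmod2_cases (c k) with h7 | h7
    · rw [h7, sgn_zero] at h4
      rw [if_pos h7]
      linarith
    · rw [h7, sgn_one] at h4
      rw [if_neg (by rw [h7]; exact one_ne_zero)]
      linarith
  rw [h3]
  exact (-(g • u) : leechLattice).2

theorem finite_co1 : Finite Co1 := Nat.finite_of_card_ne_zero (by rw [card_Co1]; norm_num)

theorem normalizer_le (S : Sylow 2 Co1) (hS : (S : Subgroup Co1) ≤ F) :
    Subgroup.normalizer ((S : Subgroup Co1) : Set Co1) ≤ F := by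
  have h2 : Fact (Nat.Prime 2) := ⟨Nat.prime_two⟩
  have hfin := finite_co1
  -- `E ≤ S`
  have hE2 : IsPGroup 2 E := by
    rintro ⟨x, hx⟩
    refine ⟨1, Subtype.ext ?_⟩
    show x ^ 2 ^ 1 = 1
    rw [pow_one, pow_two]
    exact sq_of_mem_E hx
  have hES : E ≤ (S : Subgroup Co1) := by
    have hn : (S : Subgroup Co1) ≤ Subgroup.normalizer (E : Set Co1) := by
      intro x hx
      rw [Subgroup.mem_normalizer_iff]
      intro y
      constructor
      · exact fun hy => conj_mem_E (hS hx) hy
      · intro hy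
        have h4 := conj_mem_E (F.inv_mem (hS hx)) hy
        have e : x⁻¹ * (x * y * x⁻¹) * x⁻¹⁻¹ = y := by group
        rwa [e] at h4
    have h8 : IsPGroup 2 ↥((S : Subgroup Co1) ⊔ E) := S.isPGroup'.to_sup_of_normal_right' hE2 hn
    have h9 := S.is_maximal' h8 le_sup_left
    rw [← h9]
    exact le_sup_right
  intro x hx
  obtain ⟨g, rfl⟩ := pr_surjective x
  rw [pr_mem_F]
  apply mem_N_of_conj
  intro c
  have h3 := (Subgroup.mem_normalizer_iff.1 (Subgroup.inv_mem _ hx) (pr (signCo0 c))).1 (hES (pr_sign_mem_E c))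
  rw [inv_inv, ← map_inv, ← map_mul, ← map_mul] at h3
  exact pr_mem_F.1 (hS h3)

/-- **The Sylow 2-subgroups of `Co1` are self-normalizing.** -/
theorem selfN : QTNorm.SelfN Co1 := by
  have hfin := finite_co1
  refine SelfLarge.selfN_of_hom F odd_index_F toM24 toM24_surjective ?_
    (QTNorm.selfN_m24 (G := M24) ⟨MulEquiv.refl _⟩) normalizer_le
  rw [ker_toM24]
  rintro ⟨x, hx⟩
  refine ⟨1, Subtype.ext (Subtype.ext ?_)⟩
  show (x : Co1) ^ 2 ^ 1 = 1
  rw [pow_one, pow_two]
  exact sq_of_mem_E (Subgroup.mem_subgroupOf.1 hx)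

end Cfsg.Agent.H208.SelfCoOne

namespace Cfsg.Agent.H208

/-- **`Co1`** -/
theorem selfN_co1 {K : Type*} [Group K] [Finite K] (h : Cfsg.Spor.IsoCo1 K) : Cfsg.Agent.QTNorm.SelfN K := by
  have hfin := SelfCoOne.finite_co1
  obtain ⟨e⟩ := h
  exact SelfCoOne.selfN.congr e.symm

end Cfsg.Agent.H208
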