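import Cfsg.Agent.H208.SelfLarge
import Cfsg.Agent.KFacts.Th.Main
import Cfsg.Agent.KFacts.CoTwo.QuotInst
import Cfsg.Agent.H799.SymSyl
import Cfsg.Agent.H769.SpSix

/-!
# The Sylow 2-subgroups of `Co2` and `Th` are self-normalizing (helper208)
-/

set_option autoImplicit false

namespace Cfsg.Agent.H208

open Subgroup Cfsg

/-- **`Co2`** -/
theorem selfN_co2 {K : Type*} [Group K] [Finite K] (h : Cfsg.Spor.IsoCo2 K) : Cfsg.Agent.QTNorm.SelfN K := by
  have hfin := Cfsg.Agent.Schreier.CoTwoStab.finite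
  have D := Cfsg.Agent.KFacts.CoTwo.QuotInst.dataT
  obtain ⟨π, hπ, hker⟩ := D.quot
  obtain ⟨e⟩ := h
  exact QTNorm.SelfN.congr e.symm
    (SelfLarge.selfN_of_large D.large D.odd π hπ hker (Cfsg.Agent.H769.SpSix.self))

/-- **`Th`** -/
theorem selfN_th {K : Type*} [Group K] [Finite K] (h : Cfsg.Spor.IsoTh K) : Cfsg.Agent.QTNorm.SelfN K := by
  have hfin := Cfsg.Agent.KFacts.Th.Main.finite
  obtain ⟨π, D⟩ := Cfsg.Agent.KFacts.Th.Main.exists_data Cfsg.Agent.KFacts.Th.Main.ctx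
  obtain ⟨e⟩ := h
  refine QTNorm.SelfN.congr e.symm
    (SelfLarge.selfN_of_large D.large D.odd π D.surj D.ker fun T => ?_)
  exact (Cfsg.Agent.H799.SymSyl.normalizer_alt (by simp) T).le

end Cfsg.Agent.H208
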