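import Mathlib
import Cfsg.Agent.H238.Quad

/-!
# `p`-central elements of order `p` are commutators of inverted elements (helper208)

`LQ p L` : every `z ≠ 1` with `z ^ p = 1` commuting with a Sylow `p`-subgroup of `L` satisfies `Quad p ⊤ z`.
This file: transport and reduction to one Sylow subgroup.
-/

set_option autoImplicit false

namespace Cfsg.Agent.H208.QuadBase

open scoped commutatorElement Pointwise
open Cfsg.Agent.H238 (Quad)

universe u v

/-- every `z ≠ 1` with `z ^ p = 1` commuting with a Sylow `p`-subgroup of `L` satisfies `Quad p ⊤ z` -/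
def LQ (p : ℕ) (L : Type u) [Group L] : Prop :=
  ∀ (P : Sylow p L) (z : L), z ≠ 1 → z ^ p = 1 → (∀ x ∈ P, x * z = z * x) → Quad p (⊤ : Subgroup L) z

theorem quad_map {p : ℕ} {L : Type u} {L' : Type v} [Group L] [Group L'] (f : L →* L') {z : L}
    (h : Quad p (⊤ : Subgroup L) z) : Quad p (⊤ : Subgroup L') (f z) := by
  obtain ⟨x, -, y, -, h, -, h1, h2, h3, h4, h5, h6, h7, h8⟩ := h
  refine ⟨f x, Subgroup.mem_top _, f y, Subgroup.mem_top _, f h, Subgroup.mem_top _, ?_, ?_, ?_, h4.map f, h5.map f,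
    h6.map f, ?_, ?_⟩
  · rw [← map_pow, h1, map_one]
  · rw [← map_pow, h2, map_one]
  · rw [h3, map_commutatorElement]
  · rw [← map_inv, ← map_mul, ← map_mul, h7, map_inv]
  · rw [← map_inv, ← map_mul, ← map_mul, h8, map_inv]

theorem quad_conj {p : ℕ} {L : Type u} [Group L] {z : L} (g : L) (h : Quad p (⊤ : Subgroup L) (g * z * g⁻¹)) :
    Quad p (⊤ : Subgroup L) z := by
  have h1 := quad_map (MulAut.conj g⁻¹).toMonoidHom h
  have e : (MulAut.conj g⁻¹).toMonoidHom (g * z * g⁻¹) = z := by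
    change g⁻¹ * (g * z * g⁻¹) * g⁻¹⁻¹ = z
    group
  rwa [e] at h1

theorem LQ.congr {p : ℕ} {L : Type u} {L' : Type v} [Group L] [Group L'] (e : L ≃* L') (h : LQ p L') : LQ p L := by
  intro P z hz hzp hc
  have h1 : IsPGroup p ((P : Subgroup L).map e.toMonoidHom) := P.2.map _
  have hmax : ∀ {Q : Subgroup L'}, IsPGroup p Q → (P : Subgroup L).map e.toMonoidHom ≤ Q →
      Q = (P : Subgroup L).map e.toMonoidHom := by
    intro Q hQ hle
    have h2 : IsPGroup p (Q.map e.symm.toMonoidHom) := hQ.map _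
    have h3 : (P : Subgroup L) ≤ Q.map e.symm.toMonoidHom := by
      intro x hx
      exact ⟨e x, hle ⟨x, hx, rfl⟩, e.symm_apply_apply x⟩
    have h4 := P.3 h2 h3
    apply le_antisymm _ hle
    intro y hy
    have h5 : e.symm y ∈ (P : Subgroup L) := by
      rw [← h4]
      exact ⟨y, hy, rfl⟩
    exact ⟨e.symm y, h5, e.apply_symm_apply y⟩
  let P' : Sylow p L' := ⟨(P : Subgroup L).map e.toMonoidHom, h1, hmax⟩
  have h2 := h P' (e z) (by simpa using hz) (by rw [← map_pow, hzp, map_one]) (by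
    rintro _ ⟨x, hx, rfl⟩
    change e x * e z = e z * e x
    rw [← map_mul, hc x hx, map_mul])
  have h3 := quad_map e.symm.toMonoidHom h2
  have e1 : e.symm.toMonoidHom (e z) = z := e.symm_apply_apply z
  rwa [e1] at h3

/-- a `p`-element commuting with a Sylow `p`-subgroup lies in it -/
theorem mem_sylow {p : ℕ} [Fact p.Prime] {L : Type u} [Group L] (P : Sylow p L) {z : L} (hzp : z ^ p = 1)
    (hc : ∀ x ∈ P, x * z = z * x) : z ∈ P := by
  have h1 : IsPGroup p (Subgroup.zpowers z) := by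
    rintro ⟨g, hg⟩
    obtain ⟨k, rfl⟩ := Subgroup.mem_zpowers_iff.1 hg
    refine ⟨1, Subtype.ext ?_⟩
    change (z ^ k) ^ p ^ 1 = 1
    rw [pow_one, ← zpow_natCast, ← zpow_mul, mul_comm, zpow_mul, zpow_natCast, hzp, one_zpow]
  have h2 : Subgroup.zpowers z ≤ Subgroup.normalizer ((P : Subgroup L) : Set L) := by
    rw [Subgroup.zpowers_le, Subgroup.mem_normalizer_iff]
    intro x
    have key : ∀ x ∈ P, z * x * z⁻¹ = x := by
      intro x hx
      rw [← hc x hx, mul_inv_cancel_right]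
    constructor
    · intro hx
      rw [key x hx]
      exact hx
    · intro hx
      have h3 := key _ hx
      have h4 : z * x * z⁻¹ = x := by
        have h5 : z * (z * x * z⁻¹) * z⁻¹ = z * x * z⁻¹ := h3
        have h6 : z * x * z⁻¹ = x := by
          have := mul_right_cancel (mul_left_cancel (a := z) (by simpa only [mul_assoc] using h5 :
            z * ((z * x * z⁻¹) * z⁻¹) = z * (x * z⁻¹)))
          exact this
        exact h6
      rwa [h4] at hx
  have h3 : IsPGroup p ((P : Subgroup L) ⊔ Subgroup.zpowers z : Subgroup L) :=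
    IsPGroup.to_sup_of_normal_left' P.2 h1 h2
  have h4 := P.3 h3 le_sup_left
  have h5 : z ∈ ((P : Subgroup L) ⊔ Subgroup.zpowers z : Subgroup L) :=
    (le_sup_right : Subgroup.zpowers z ≤ _) (Subgroup.mem_zpowers z)
  rw [h4] at h5
  exact h5

/-- it is enough to look at one Sylow subgroup -/
theorem LQ.of_exists {p : ℕ} [Fact p.Prime] {L : Type u} [Group L] [Finite L] (S : Sylow p L)
    (h : ∀ z ∈ S, z ≠ 1 → (∀ x ∈ S, x * z = z * x) → Quad p (⊤ : Subgroup L) z) : LQ p L := by
  intro P z hz hzp hc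
  obtain ⟨g, hg⟩ := MulAction.exists_smul_eq L P S
  have hmem : ∀ x, g * x * g⁻¹ ∈ S ↔ x ∈ P := by
    intro x
    rw [← hg]
    change g * x * g⁻¹ ∈ ((g • P : Sylow p L) : Subgroup L) ↔ _
    rw [Sylow.coe_subgroup_smul, Subgroup.mem_pointwise_smul_iff_inv_smul_mem, MulAut.smul_def, ← map_inv,
      MulAut.conj_apply]
    have : g⁻¹ * (g * x * g⁻¹) * g⁻¹⁻¹ = x := by group
    rw [this]
    exact Iff.rfl
  refine quad_conj g (h _ ((hmem z).2 (mem_sylow P hzp hc)) ?_ ?_)
  · intro h1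
    apply hz
    have h2 : z = g⁻¹ * (g * z * g⁻¹) * g := by group
    rw [h2, h1]
    group
  · intro x hx
    have h1 : g⁻¹ * x * g ∈ P := by
      rw [← hmem]
      have : g * (g⁻¹ * x * g) * g⁻¹ = x := by group
      rwa [this]
    have h2 := hc _ h1
    calc x * (g * z * g⁻¹) = g * ((g⁻¹ * x * g) * z) * g⁻¹ := by group
      _ = g * (z * (g⁻¹ * x * g)) * g⁻¹ := by rw [h2]
      _ = g * z * g⁻¹ * x := by group

end Cfsg.Agent.H208.QuadBase
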