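import Mathlib
import Cfsg.Agent.H208.QuadBase
import Cfsg.Agent.ClassicalGeometry.OrthAutSylow

/-!
# `LQ p (PE Q)` for a nondegenerate quadratic form in dimension at least seven (helper208)
-/

set_option autoImplicit false
set_option linter.unusedSectionVars false

namespace Cfsg.Agent.H208.QuadOrth

open QuadraticMap Cfsg.Agent.LieClassical.OrthCore Cfsg.Agent.LieClassical.OrthTrans
  Cfsg.Agent.LieClassical.OrthSimple Cfsg.Agent.ClassicalGeometry.OrthAutBasic
  Cfsg.Agent.ClassicalGeometry.OrthAutRoot Cfsg.Agent.ClassicalGeometry.OrthAutSylow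
open scoped commutatorElement Pointwise
open Cfsg.Agent.H238 (Quad)
open Cfsg.Agent.H208.QuadBase

variable {F V : Type*} [Field F] [AddCommGroup V] [Module F V] {Q : QuadraticForm F V}

/-- the Weyl element: `y → u → -y`, `x → v → -x` -/
theorem weyl {x y u v : V} (h : Hyp Q x y) (h' : Hyp Q u v) (hxu : polar Q x u = 0) (hxv : polar Q x v = 0)
    (hyu : polar Q y u = 0) (hyv : polar Q y v = 0) :
    (T Q x u * T Q y v * T Q x u) x = v ∧ (T Q x u * T Q y v * T Q x u) v = -x ∧
    (T Q x u * T Q y v * T Q x u) u = -y ∧ (T Q x u * T Q y v * T Q x u) y = u ∧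
    (∀ p, polar Q x p = 0 → polar Q y p = 0 → polar Q u p = 0 → polar Q v p = 0 →
      (T Q x u * T Q y v * T Q x u) p = p) := by
  have hux : polar Q u x = 0 := by rw [polar_comm]; exact hxu
  have hvx : polar Q v x = 0 := by rw [polar_comm]; exact hxv
  have huy : polar Q u y = 0 := by rw [polar_comm]; exact hyu
  have hvy : polar Q v y = 0 := by rw [polar_comm]; exact hyv
  have hyx : polar Q y x = 1 := by rw [polar_comm]; exact h.pair
  have hvu : polar Q v u = 1 := by rw [polar_comm]; exact h'.pair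
  have hxx : polar Q x x = 0 := polar_self_of_sing h.left
  have hyy : polar Q y y = 0 := polar_self_of_sing h.right
  have huu : polar Q u u = 0 := polar_self_of_sing h'.left
  have hvv : polar Q v v = 0 := polar_self_of_sing h'.right
  have A : ∀ p, T Q x u p = p + polar Q x p • u - polar Q u p • x := by
    intro p
    rw [T_apply h.left hxu, h'.left]
    simp
  have B : ∀ p, T Q y v p = p + polar Q y p • v - polar Q v p • y := by
    intro p
    rw [T_apply h.right hyv, h'.right]
    simp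
  have C : ∀ p, (T Q x u * T Q y v * T Q x u) p = T Q x u (T Q y v (T Q x u p)) := fun _ => rfl
  refine ⟨?_, ?_, ?_, ?_, ?_⟩
  · rw [C]
    simp only [A, B, polar_add_right, polar_sub_right, polar_smul_right, hxx, hux, hyx, hvx, hxv, hxu, h'.pair,
      smul_eq_mul]
    module
  · rw [C]
    simp only [A, B, polar_add_right, polar_sub_right, polar_smul_right, hxx, hux, hyx, hvx, hxv, hxu, h'.pair, hvv, hyv,
      smul_eq_mul]
    module
  · rw [C]
    simp only [A, B, polar_add_right, polar_sub_right, polar_smul_right, hxx, hux, hyx, hvx, hxv, hxu, h'.pair, hvv, hyv,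
      huu, hyu, hvu, h.pair, huy, smul_eq_mul]
    module
  · rw [C]
    simp only [A, B, polar_add_right, polar_sub_right, polar_smul_right, hxx, hux, hyx, hvx, hxv, hxu, h'.pair, hvv, hyv,
      huu, hyu, hvu, h.pair, huy, hvy, hyy, smul_eq_mul]
    module
  · intro p h1 h2 h3 h4
    rw [C]
    have e1 : T Q x u p = p := by rw [A, h1, h3]; simp
    have e2 : T Q y v p = p := by rw [B, h2, h4]; simp
    rw [e1, e2, e1]

/-- the commutator of two root elements -/
theorem comm_T {x u a b : V} (hx : Q x = 0) (hu : Q u = 0) (hxu : polar Q x u = 0) (hxa : polar Q x a = 0)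
    (hua : polar Q u a = 0) (hxb : polar Q x b = 0) (hub : polar Q u b = 0) :
    ⁅T Q x a, T Q u b⁆ = T Q x (polar Q a b • u) := by
  have hux : polar Q u x = 0 := by rw [polar_comm]; exact hxu
  have hau : polar Q a u = 0 := by rw [polar_comm]; exact hua
  have e1 : T Q x a u = u := T_fix hxu hau
  have e2 : T Q x a b = b - polar Q a b • x := T_apply_perp hx hxa hxb
  have e3 : T Q u (b - polar Q a b • x) = T Q x (polar Q a b • u) * T Q u b := by
    have h1 : polar Q u (-(polar Q a b • x)) = 0 := by rw [polar_neg_right, polar_smul_right, hux, smul_zero, neg_zero]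
    have h2 : T Q u (-(polar Q a b • x)) = T Q x (polar Q a b • u) := by
      have h3 : Q (-(polar Q a b • x)) = 0 := by rw [QuadraticMap.map_neg, QuadraticMap.map_smul, hx, smul_zero]
      have h4 : polar Q x (-u) = 0 := by rw [polar_neg_right, hxu, neg_zero]
      rw [T_swap hu h3 h1, ← neg_smul, T_smul_left _ hx h4, smul_neg, neg_smul, neg_neg]
    have h5 : b - polar Q a b • x = -(polar Q a b • x) + b := by abel
    rw [h5, ← T_mul hu h1 hub, h2]
  rw [commutatorElement_def, T_conj (T_mem_O x a), e1, e2, e3, mul_inv_cancel_right]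

/-- the quadruple in `E Q` -/
theorem quad_T {p : ℕ} [CharP F p] {x y u v z w : V} (hf : Frame Q x y u v z w) (c : F) :
    Quad p (⊤ : Subgroup ↥(E Q)) ⟨T Q x (c • u), T_mem_E x (c • u)⟩ := by
  obtain ⟨n1, n2, n3, n4, n5⟩ := weyl hf.h1 hf.h2 hf.xu hf.xv hf.yu hf.yv
  set n := T Q x u * T Q y v * T Q x u with hn
  have hnE : n ∈ E Q := E_mul (E_mul (T_mem_E _ _) (T_mem_E _ _)) (T_mem_E _ _)
  have hnn : n * n ∈ E Q := E_mul hnE hnE
  have hx : (n * n) x = -x := by
    change n (n x) = -x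
    rw [n1, n2]
  have hu : (n * n) u = -u := by
    change n (n u) = -u
    rw [n3, map_neg, n4]
  have hz : (n * n) z = z := by
    change n (n z) = z
    rw [n5 z hf.xz hf.yz hf.uz hf.vz, n5 z hf.xz hf.yz hf.uz hf.vz]
  have hw : (n * n) w = w := by
    change n (n w) = w
    rw [n5 w hf.xw hf.yw hf.uw hf.vw, n5 w hf.xw hf.yw hf.uw hf.vw]
  have hxcz : polar Q x (c • z) = 0 := by rw [polar_smul_right, hf.xz, smul_zero]
  have hucz : polar Q u (c • z) = 0 := by rw [polar_smul_right, hf.uz, smul_zero]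
  have hxcu : polar Q x (c • u) = 0 := by rw [polar_smul_right, hf.xu, smul_zero]
  have hux : polar Q u x = 0 := by rw [polar_comm]; exact hf.xu
  have hzx : polar Q z x = 0 := by rw [polar_comm]; exact hf.xz
  have hzu : polar Q z u = 0 := by rw [polar_comm]; exact hf.uz
  have hwx : polar Q w x = 0 := by rw [polar_comm]; exact hf.xw
  have hwu : polar Q w u = 0 := by rw [polar_comm]; exact hf.uw
  refine ⟨⟨T Q x (c • z), T_mem_E _ _⟩, Subgroup.mem_top _, ⟨T Q u w, T_mem_E _ _⟩, Subgroup.mem_top _,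
    ⟨n * n, hnn⟩, Subgroup.mem_top _, ?_, ?_, ?_, ?_, ?_, ?_, ?_, ?_⟩
  · apply Subtype.ext
    change (T Q x (c • z)) ^ p = 1
    rw [T_pow hf.h1.left hxcz, ← Nat.cast_smul_eq_nsmul F, CharP.cast_eq_zero, zero_smul, T_zero_right]
  · apply Subtype.ext
    change (T Q u w) ^ p = 1
    rw [T_pow hf.h2.left hf.uw, ← Nat.cast_smul_eq_nsmul F, CharP.cast_eq_zero, zero_smul, T_zero_right]
  · apply Subtype.ext
    change T Q x (c • u) = ⁅T Q x (c • z), T Q u w⁆
    rw [comm_T hf.h1.left hf.h2.left hf.xu hxcz hucz hf.xw hf.uw, polar_smul_left, hf.h3.pair, smul_eq_mul, mul_one]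
  · apply Subtype.ext
    change T Q x (c • z) * T Q x (c • u) = T Q x (c • u) * T Q x (c • z)
    rw [T_mul hf.h1.left hxcz hxcu, T_mul hf.h1.left hxcu hxcz, add_comm]
  · apply Subtype.ext
    change T Q u w * T Q x (c • u) = T Q x (c • u) * T Q u w
    rw [← mul_inv_eq_iff_eq_mul, T_conj (T_mem_O u w), map_smul, T_fix hux hwx,
      T_fix (polar_self_of_sing hf.h2.left) hwu]
  · apply Subtype.ext
    change n * n * T Q x (c • u) = T Q x (c • u) * (n * n)
    rw [← mul_inv_eq_iff_eq_mul, T_conj (E_le_O hnn), map_smul, hx, hu]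
    have e1 : T Q (-x) (c • -u) = T Q ((-1 : F) • x) (c • -u) := by rw [neg_smul, one_smul]
    rw [e1, T_smul_left _ hf.h1.left (by rw [smul_neg, polar_neg_right, hxcu, neg_zero])]
    congr 1
    module
  · apply Subtype.ext
    change n * n * T Q x (c • z) * (n * n)⁻¹ = (T Q x (c • z))⁻¹
    rw [T_conj (E_le_O hnn), map_smul, hx, hz, T_inv hf.h1.left hxcz]
    have e1 : T Q (-x) (c • z) = T Q ((-1 : F) • x) (c • z) := by rw [neg_smul, one_smul]
    rw [e1, T_smul_left _ hf.h1.left hxcz]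
    congr 1
    module
  · apply Subtype.ext
    change n * n * T Q u w * (n * n)⁻¹ = (T Q u w)⁻¹
    rw [T_conj (E_le_O hnn), hu, hw, T_inv hf.h2.left hf.uw]
    have e1 : T Q (-u) w = T Q ((-1 : F) • u) w := by rw [neg_smul, one_smul]
    rw [e1, T_smul_left _ hf.h2.left hf.uw]
    congr 1
    module

/-- the centre of a Sylow subgroup of `PE Q` -/
theorem exists_center [Finite F] (hB : Big Q) {x u : V} (h : Ln Q x u) (p : ℕ)
    [hp : Fact p.Prime] [CharP F p] :
    ∃ P1 : Sylow p (PE Q), ∀ γ ∈ P1, (∀ δ ∈ P1, γ * δ = δ * γ) → ∃ c : F, γ = tau Q x (c • u) := by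
  have hfd : FiniteDimensional F V := Module.finite_of_finrank_pos (by have := hB.dim; omega)
  have hfin : Finite V := Module.finite_of_finite F
  have hfinE : Finite (V ≃ₗ[F] V) := Finite.of_injective (fun g => (g : V → V))
    DFunLike.coe_injective
  obtain ⟨P, hPx, hPu, hR, hA⟩ := exists_sylow hB h p
  let π : ↥(E Q) →* PE Q := QuotientGroup.mk' _
  have hπ : Function.Surjective π := QuotientGroup.mk'_surjective _
  let P1 : Sylow p (PE Q) := P.mapSurjective hπ
  have hmem1 : ∀ γ, γ ∈ P1 ↔ ∃ g ∈ P, π g = γ := fun γ => Iff.rfl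
  refine ⟨P1, fun γ hγ hc => ?_⟩
  obtain ⟨⟨g, hgE⟩, hg, rfl⟩ := (hmem1 γ).1 hγ
  have hgx : g x = x := hPx _ hg
  obtain ⟨w0, hw0, eg⟩ := eq_T_of_comm_rad hB (E_le_O hgE) h.qu h.ne hgx (by
    intro w hw
    apply T_eq_of_comm hB hgE
    exact hc _ ((hmem1 _).2 ⟨_, hR w hw, rfl⟩))
  have hw0L : w0 ∈ L F x u := by
    apply mem_L_of_comm hB h hw0
    intro z' hz1' hz2'
    have e1 : T Q u z' x = x := T_fix h.perp' (by rw [polar_comm]; exact hz1')
    have e2 := hc _ ((hmem1 _).2 ⟨_, hA z' hz1' hz2', rfl⟩)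
    have e3 : pr (T Q u z') (T_mem_E u z') * tau Q x w0 =
        tau Q x w0 * pr (T Q u z') (T_mem_E u z') := by
      have e4 : π ⟨g, hgE⟩ = tau Q x w0 := by
        show pr g hgE = pr (T Q x w0) _
        exact pr_congr _ eg
      rw [← e4]
      exact e2.symm
    have := T_eq_of_comm hB (T_mem_E u z') e3
    rwa [e1] at this
  obtain ⟨a, c, e⟩ := mem_L.1 hw0L
  have hcu : polar Q x (c • u) = 0 := by rw [polar_smul_right, h.perp, smul_zero]
  refine ⟨c, ?_⟩
  show pr g hgE = pr (T Q x (c • u)) _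
  apply pr_congr
  rw [eg, ← e, add_comm, T_add_smul h.qu hcu]

/-- `PE Q`, dimension at least seven -/
theorem lq_pe [Finite F] (hB : Big Q) {p : ℕ} [Fact p.Prime] [CharP F p] : LQ p (PE Q) := by
  have hfd : FiniteDimensional F V := Module.finite_of_finrank_pos (by have := hB.dim; omega)
  have hfin : Finite V := Module.finite_of_finite F
  have hfinE : Finite (V ≃ₗ[F] V) := Finite.of_injective (fun g => (g : V → V))
    DFunLike.coe_injective
  obtain ⟨x, y, hxy⟩ := hB.good.exists_hyp
  obtain ⟨u, v, huv, hxu, hxv, hyu, hyv⟩ := hB.good.exists_hyp2 hxy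
  obtain ⟨z, w, hf⟩ := exists_frame2 hB hxy huv hxu hxv hyu hyv
  obtain ⟨P1, hP1⟩ := exists_center hB hf.ln_xu p
  refine LQ.of_exists P1 ?_
  intro γ hγ _ hc
  obtain ⟨c, rfl⟩ := hP1 γ hγ (fun δ hδ => (hc δ hδ).symm)
  exact quad_map (QuotientGroup.mk' (Subgroup.center ↥(E Q))) (quad_T (p := p) hf c)

end Cfsg.Agent.H208.QuadOrth
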