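import Mathlib
import Cfsg.Agent.H208.QuadBase
import Cfsg.Agent.ClassicalGeometry.SympAutForm

/-!
# `LQ p (PSp_{2m})`, `m ≥ 2`, `p` odd (helper208)
-/

set_option autoImplicit false
set_option linter.unusedSectionVars false

namespace Cfsg.Agent.H208.QuadPSp

open scoped commutatorElement Matrix
open Cfsg
open Cfsg.Agent.H238 (Quad)
open Cfsg.Agent.H208.QuadBase
open Cfsg.Agent.ClassicalGeometry.SympBasic
open Cfsg.Agent.ClassicalGeometry.SympSiegel
open Cfsg.Agent.ClassicalGeometry.SympAutSylow
open Cfsg.Agent.ClassicalGeometry.SympAutCentral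
open Cfsg.Agent.ClassicalGeometry.SympAutForm

variable {F : Type*} [Field F] {m : ℕ}

local notation "V" => (Fin m ⊕ Fin m → F)
local notation "G" => Matrix.symplecticGroup (Fin m) F
local notation "f" => sympForm m F

/-- `-1` on the hyperbolic plane `⟨x, y⟩` -/
def invLin (x y : V) : V →ₗ[F] V :=
  LinearMap.id + (sympBilin m F y).smulRight ((2 : F) • x) + (sympBilin m F x).smulRight ((-2 : F) • y)

theorem invLin_apply (x y v : V) :
    invLin x y v = v + f y v • ((2 : F) • x) + f x v • ((-2 : F) • y) := rfl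

theorem form_invLin {x y : V} (h : f x y = 1) (u v : V) : f (invLin x y u) (invLin x y v) = f u v := by
  have h' : f y x = -1 := by rw [sympForm_swap, h]
  simp only [invLin_apply, sympForm_add_left, sympForm_add_right, sympForm_smul_left,
    sympForm_smul_right, sympForm_self, h, h']
  rw [sympForm_swap u x, sympForm_swap u y]
  ring

theorem siegel_pow {e w : V} (h : f e w = 0) (k : ℕ) :
    (siegel e w (0 : F)) ^ k = siegel e ((k : F) • w) (0 : F) := by
  induction k with
  | zero => rw [pow_zero, Nat.cast_zero, zero_smul, siegel_zero_zero]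
  | succ k ih =>
    have h1 : f e ((k : F) • w) = 0 := by rw [sympForm_smul_right, h, mul_zero]
    rw [pow_succ, ih, siegel_mul h1 h, sympForm_smul_left, sympForm_self, mul_zero, add_zero, add_zero,
      Nat.cast_succ, add_smul, one_smul]

theorem quad_siegel {p : ℕ} [CharP F p] (h2 : (2 : F) ≠ 0) {e x y : V} (hex : f e x = 0) (hey : f e y = 0)
    (hxy : f x y = 1) (a : F) : Quad p (⊤ : Subgroup G) (siegel e (0 : V) a) := by
  set h : G := ofIso (invLin x y) (form_invLin hxy) with hh
  have he : h • e = e := by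
    rw [hh, ofIso_smul, invLin_apply, form_eq_zero_comm.1 hex, form_eq_zero_comm.1 hey]
    simp
  have hyx : f y x = -1 := by rw [sympForm_swap, hxy]
  have hx : h • x = -x := by
    rw [hh, ofIso_smul, invLin_apply, sympForm_self, hyx]
    module
  have hy : h • y = -y := by
    rw [hh, ofIso_smul, invLin_apply, sympForm_self, hxy]
    module
  have hw : f e ((a / 2) • x) = 0 := by rw [sympForm_smul_right, hex, mul_zero]
  have h0 : f e (0 : V) = 0 := sympForm_zero_right e
  refine ⟨siegel e ((a / 2) • x) 0, Subgroup.mem_top _, siegel e y 0, Subgroup.mem_top _, h, Subgroup.mem_top _,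
    ?_, ?_, ?_, ?_, ?_, ?_, ?_, ?_⟩
  · rw [siegel_pow hw, CharP.cast_eq_zero, zero_smul, siegel_zero_zero]
  · rw [siegel_pow hey, CharP.cast_eq_zero, zero_smul, siegel_zero_zero]
  · rw [commutatorElement_def, siegel_inv hw, siegel_inv hey, siegel_mul hw hey,
      siegel_mul (by rw [sympForm_add_right, hw, hey, add_zero]) (form_neg_eq_zero hw),
      siegel_mul (by rw [sympForm_add_right, sympForm_add_right, hw, hey, form_neg_eq_zero hw, add_zero, add_zero])
        (form_neg_eq_zero hey)]
    congr 1
    · abel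
    · simp only [sympForm_add_left, sympForm_neg_right, sympForm_neg_left, sympForm_smul_left, sympForm_smul_right,
        sympForm_self, hxy, hyx]
      field_simp
      ring
  · change siegel e ((a / 2) • x) 0 * siegel e (0 : V) a = siegel e (0 : V) a * siegel e ((a / 2) • x) 0
    rw [siegel_mul hw h0, siegel_mul h0 hw, sympForm_zero_left, sympForm_zero_right, add_comm _ (0 : V), add_comm a]
  · change siegel e y 0 * siegel e (0 : V) a = siegel e (0 : V) a * siegel e y 0
    rw [siegel_mul hey h0, siegel_mul h0 hey, sympForm_zero_left, sympForm_zero_right, add_comm _ (0 : V), add_comm a]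
  · change h * siegel e (0 : V) a = siegel e (0 : V) a * h
    rw [← mul_inv_eq_iff_eq_mul, conj_siegel h h0, he, smul_zero']
  · rw [conj_siegel h hw, siegel_inv hw, he, smul_smul', hx, smul_neg, neg_zero]
  · rw [conj_siegel h hey, siegel_inv hey, he, hy, neg_zero]

/-- `PSp_{2m}`, `m ≥ 2`, odd characteristic -/
theorem lq_psp [Finite F] {p : ℕ} [Fact p.Prime] [CharP F p] (hp2 : p ≠ 2) (hm : 2 ≤ m) : LQ p (PSp m F) := by
  have h2 : (2 : F) ≠ 0 := by
    intro h
    have h1 := (CharP.cast_eq_zero_iff F p 2).1 (by exact_mod_cast h)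
    exact hp2 ((Nat.prime_dvd_prime_iff_eq (Fact.out : p.Prime) Nat.prime_two).1 h1)
  intro P z hz hzp hc
  have h1 : PCentral p z := ⟨P, hc⟩
  have hU : IsPGroup p ((unip m F).map (QuotientGroup.mk' (Subgroup.center G))) :=
    (isPGroup_unip (m := m) (F := F)).map _
  obtain ⟨g, hg⟩ := h1.exists_conj hU
  obtain ⟨z', hz'⟩ := QuotientGroup.mk_surjective (g * z * g⁻¹)
  obtain ⟨a, b, hb, hab⟩ := central_form hm (z := z') (fun u hu => by
    have := hg (QuotientGroup.mk u) ⟨u, hu, rfl⟩
    rw [← hz'] at this
    exact this)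
  have hb0 : b = 0 := by
    rcases mul_eq_zero.1 hb with h3 | h3
    · exact absurd h3 h2
    · exact h3
  subst hb0
  apply quad_conj g
  rw [← hz', hab, zero_smul]
  have h01 : (⟨0, by omega⟩ : Fin m) ≠ ⟨1, by omega⟩ := by
    intro h
    have := congrArg Fin.val h
    simp at this
  have key := quad_siegel (p := p) h2 (e := E F (⟨0, by omega⟩ : Fin m)) (x := E' F (⟨1, by omega⟩ : Fin m))
    (y := E F (⟨1, by omega⟩ : Fin m))
    (by rw [form_E'_right, E_inl, if_neg h01.symm, neg_zero])
    (by rw [form_E_right, E_inr])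
    (by rw [form_E_right, E'_inr, if_pos rfl]) a
  exact quad_map (QuotientGroup.mk' (Subgroup.center G)) key

end Cfsg.Agent.H208.QuadPSp
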