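import Cfsg.Agent.H404.Avg.Good
import Cfsg.Agent.H53.HC.BigFacts
import Cfsg.Agent.Lib.Zsigmondy
import Cfsg.Agent.H167.HasStLie
import Cfsg.Agent.S1063
import Cfsg.Agent.S2123

/-!
# Task 1393: `Good p S` for `S = E₆(q)` (helper208, for S4831)

`good_e6_of`: from the big character of `E₆(q)` (degree divisible by every prime divisor of `|S|` but the
characteristic).
-/

set_option autoImplicit false

namespace Cfsg.Agent.H208.AvgE6

open Cfsg
open Cfsg.Agent.H404.Avg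
open Cfsg.Agent.H53.HC (Big)

universe u

theorem sq_lt_two_pow (n : ℕ) (h : 5 ≤ n) : n ^ 2 < 2 ^ n := by
  induction n, h using Nat.le_induction with
  | base => norm_num
  | succ n hn ih =>
    rw [pow_succ 2 n]
    nlinarith

/-- the characteristic -/
theorem good_char {F : Type} [Field F] [Fintype F] {r f : ℕ} [Fact r.Prime] [CharP F r] (hf : 1 ≤ f)
    (hF : Fintype.card F = r ^ f) [IsSimpleGroup ↥(Lie.chevE6.group F)]
    (hna : ¬ IsMulCommutative ↥(Lie.chevE6.group F)) : Good r ↥(Lie.chevE6.group F) := by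
  have hr : r.Prime := Fact.out
  have hfin : Finite ↥(Lie.chevE6.group F) := by
    classical
    have : Finite (GL Lie.chevE6.Idx F) := by
      have : Finite (Matrix Lie.chevE6.Idx Lie.chevE6.Idx F) := inferInstance
      infer_instance
    infer_instance
  have hL : IsLieTypeChar r ↥(Lie.chevE6.group F) :=
    Or.inr (Or.inr (Or.inr (Or.inr (Or.inr (Or.inr (Or.inl ⟨F, inferInstance, inferInstance, inferInstance,
      Or.inr (Or.inr (Or.inl ⟨MulEquiv.refl _⟩))⟩))))))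
  obtain ⟨χ, hχ, h1, -⟩ := Cfsg.Agent.H167.StChar.hasSt_of_lie hr hL
  have hout := Cfsg.Agent.S2123.result (F := F) r f hF
  have hcard := Cfsg.Agent.S1063.result (F := F) hF
  have hq2 : 2 ≤ r ^ f := by
    calc 2 ≤ r := hr.two_le
      _ = r ^ 1 := (pow_one r).symm
      _ ≤ r ^ f := Nat.pow_le_pow_right hr.pos hf
  -- `r ^ (36 f)` divides the order
  have hdvd : r ^ (f * 36) ∣ Nat.card ↥(Lie.chevE6.group F) := by
    have h2 : r ^ (f * 36) ∣ Nat.gcd 3 (r ^ f - 1) * Nat.card ↥(Lie.chevE6.group F) := by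
      rw [hcard, pow_mul]
      exact ((((((dvd_refl _).mul_right _).mul_right _).mul_right _).mul_right _).mul_right _).mul_right _
    refine Nat.Coprime.dvd_of_dvd_mul_left ?_ h2
    refine Nat.Coprime.pow_left _ ?_
    refine (Nat.Prime.coprime_iff_not_dvd hr).2 fun h3 => ?_
    have h4 : r ∣ r ^ f - 1 := h3.trans (Nat.gcd_dvd_right _ _)
    have h5 : r ∣ r ^ f := dvd_pow_self r (by omega)
    have h6 := Nat.dvd_sub h5 h4
    rw [Nat.sub_sub_self (by omega)] at h6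
    exact hr.one_lt.ne' (Nat.dvd_one.1 h6)
  have hle : f * 36 ≤ (Nat.card ↥(Lie.chevE6.group F)).factorization r :=
    (Nat.Prime.pow_dvd_iff_le_factorization hr Nat.card_pos.ne').1 hdvd
  have hdeg : charDegree χ = r ^ (Nat.card ↥(Lie.chevE6.group F)).factorization r :=
    Cfsg.Agent.H670.PSing.charDegree_eq_of h1
  have hg3 : Nat.gcd 3 (r ^ f - 1) ≤ 3 := Nat.gcd_le_left _ (by norm_num)
  -- `c + 1 = 2 ^ (6 f)`
  have hc1 : 1 ≤ 2 ^ (6 * f) := Nat.one_le_two_pow
  have hc : 2 ^ (6 * f) - 1 + 1 = 2 ^ (6 * f) := by omega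
  refine good_of hna ⟨χ, hχ⟩ (c := 2 ^ (6 * f) - 1) ?_ ?_ ?_
  · show r ∣ charDegree χ
    rw [hdeg]
    exact dvd_pow_self r (by omega)
  · rw [hout, hc]
    have h2 := sq_lt_two_pow (6 * f) (by omega)
    have h3 : 2 * Nat.gcd 3 (r ^ f - 1) * f ≤ 6 * f := by nlinarith
    nlinarith
  · show (2 ^ (6 * f) - 1 + 1) * r ≤ 2 * charDegree χ
    rw [hc, hdeg]
    calc 2 ^ (6 * f) * r ≤ r ^ (6 * f) * r := Nat.mul_le_mul_right _ (Nat.pow_le_pow_left hr.two_le _)
      _ = r ^ (6 * f + 1) := (pow_succ _ _).symm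
      _ ≤ r ^ (Nat.card ↥(Lie.chevE6.group F)).factorization r := Nat.pow_le_pow_right hr.pos (by omega)
      _ ≤ _ := by omega

/-- a primitive prime divisor, not dividing 3 -/
theorem exists_l {r f n : ℕ} (hr : r.Prime) (hf : 1 ≤ f) (hn : 8 ≤ n) : ∃ l : ℕ, l.Prime ∧ f * n < l ∧ l ≠ r ∧
    ∀ m, l ∣ r ^ m - 1 ↔ f * n ∣ m := by
  have h1 : 8 ≤ f * n := by nlinarith
  obtain ⟨l, hl, hd, hl1, hlr⟩ := Cfsg.Agent.Lib.Zsigmondy.exists_primitive hr.two_le (n := f * n) (by omega) (by omega)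
    (by omega)
  refine ⟨l, hl, ?_, ?_, hd⟩
  · have := hl.two_le
    have := Nat.le_of_dvd (by omega) hl1
    omega
  · rintro rfl
    exact hlr dvd_rfl

theorem dvd_of_dvd_pow {r f l k : ℕ} (hl : l.Prime) (hl3 : 3 < l) {F : Type} [Field F] [Fintype F]
    (hF : Fintype.card F = r ^ f) (hk : k = 8 ∨ k = 12) (h : l ∣ (r ^ f) ^ k - 1) :
    l ∣ Nat.card ↥(Lie.chevE6.group F) := by
  have hcard := Cfsg.Agent.S1063.result (F := F) hF
  have h2 : l ∣ Nat.gcd 3 (r ^ f - 1) * Nat.card ↥(Lie.chevE6.group F) := by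
    rw [hcard]
    rcases hk with rfl | rfl
    · exact ((h.mul_left _).mul_right _).mul_right _
    · exact h.mul_left _
  rcases hl.dvd_mul.1 h2 with h3 | h3
  · have := Nat.le_of_dvd (by norm_num) (h3.trans (Nat.gcd_dvd_left _ _))
    omega
  · exact h3

/-- the other primes, from the big character -/
theorem good_cross {F : Type} [Field F] [Fintype F] {r f : ℕ} [Fact r.Prime] [CharP F r] (hf : 1 ≤ f)
    (hF : Fintype.card F = r ^ f) [IsSimpleGroup ↥(Lie.chevE6.group F)]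
    (hna : ¬ IsMulCommutative ↥(Lie.chevE6.group F)) (hB : Big r ↥(Lie.chevE6.group F)) {p : ℕ} (hp : p.Prime)
    (hpr : p ≠ r) (hd : p ∣ Nat.card ↥(Lie.chevE6.group F)) : Good p ↥(Lie.chevE6.group F) := by
  have hr : r.Prime := Fact.out
  have hfin : Finite ↥(Lie.chevE6.group F) := by
    classical
    have : Finite (GL Lie.chevE6.Idx F) := by
      have : Finite (Matrix Lie.chevE6.Idx Lie.chevE6.Idx F) := inferInstance
      infer_instance
    infer_instance
  have hout := Cfsg.Agent.S2123.result (F := F) r f hF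
  -- a large prime `l ≠ p`
  obtain ⟨l, hl, hl1, hlr, hlp, hlS⟩ : ∃ l : ℕ, l.Prime ∧ 8 * f < l ∧ l ≠ r ∧ l ≠ p ∧
      l ∣ Nat.card ↥(Lie.chevE6.group F) := by
    obtain ⟨l, hl, h1, h2, h3⟩ := exists_l hr hf (n := 8) le_rfl
    by_cases h4 : l = p
    · obtain ⟨l', hl', h1', h2', h3'⟩ := exists_l hr hf (n := 12) (by norm_num)
      refine ⟨l', hl', by omega, h2', ?_, ?_⟩
      · rintro rfl
        subst h4
        have h5 : f * 12 ∣ f * 8 := (h3' _).1 ((h3 (f * 8)).2 dvd_rfl)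
        have := Nat.le_of_dvd (by omega) h5
        omega
      · refine dvd_of_dvd_pow hl' (by omega) hF (Or.inr rfl) ?_
        rw [← pow_mul, h3']
    · refine ⟨l, hl, by omega, h2, h4, ?_⟩
      refine dvd_of_dvd_pow hl (by omega) hF (Or.inl rfl) ?_
      rw [← pow_mul, h3]
  obtain ⟨χ, hχ⟩ := hB.exists_irr
  have hdvd1 := hχ p hp hd hpr
  have hdvd2 := hχ l hl hlS hlr
  have hdvd : p * l ∣ charDegree (χ : ↥(Lie.chevE6.group F) → ℂ) :=
    Nat.Coprime.mul_dvd_of_dvd_of_dvd ((Nat.coprime_primes hp hl).2 hlp.symm) hdvd1 hdvd2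
  have hpos : 0 < charDegree (χ : ↥(Lie.chevE6.group F) → ℂ) := Cfsg.Agent.Blocks.Basic.charDegree_pos χ.2
  have hle := Nat.le_of_dvd hpos hdvd
  have hg3 : Nat.gcd 3 (r ^ f - 1) ≤ 3 := Nat.gcd_le_left _ (by norm_num)
  have hc : 2 * l - 1 + 1 = 2 * l := by omega
  refine good_of hna χ (c := 2 * l - 1) (hχ p hp hd hpr) ?_ ?_
  · rw [hout, hc]
    have h3 : 2 * Nat.gcd 3 (r ^ f - 1) * f ≤ 6 * f := by nlinarith
    nlinarith
  · rw [hc]
    nlinarith

/-- **`E₆(q)`**, from the big characters. -/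
theorem good_e6_of {S : Type u} [Group S] [Finite S] [IsSimpleGroup S] (hna : ¬ IsMulCommutative S)
    (h : Cfsg.Lie.IsoChevE6 S)
    (hB : ∀ (F : Type) [Field F] [Fintype F] (r : ℕ) [CharP F r], Big r ↥(Lie.chevE6.group F))
    {p : ℕ} (hp : p.Prime) (hd : p ∣ Nat.card S) : Good p S := by
  obtain ⟨F, _, _, ⟨e⟩⟩ := h
  have hs : IsSimpleGroup ↥(Lie.chevE6.group F) := e.symm.isSimpleGroup
  have hna' : ¬ IsMulCommutative ↥(Lie.chevE6.group F) := fun h => hna ⟨⟨fun a b => e.injective (by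
    rw [map_mul, map_mul]; exact h.is_comm.comm _ _)⟩⟩
  obtain ⟨r, hr⟩ := CharP.exists F
  obtain ⟨⟨f, hf⟩, hrp, hF⟩ := FiniteField.card F r
  have : Fact r.Prime := ⟨hrp⟩
  rw [Nat.card_congr e.toEquiv] at hd
  refine Good.congr ?_ e.symm
  by_cases hpr : p = r
  · subst hpr
    exact good_char (f := f) hf (by simpa using hF) hna'
  · exact good_cross (r := r) (f := f) hf (by simpa using hF) hna' (hB F r) hp hpr hd

end Cfsg.Agent.H208.AvgE6
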