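import Cfsg.Agent.QTNorm.SporBase
import Cfsg.Agent.LargeExtra.Base

/-!
# Self-normalizing Sylow 2-subgroups from a large extraspecial subgroup (helper208)
-/

set_option autoImplicit false

namespace Cfsg.Agent.H208.SelfLarge

open Subgroup Cfsg Cfsg.Agent.QTNorm Cfsg.Agent.Co2Type.Quad

/-- `π : C(z) → L` onto, with kernel the large extraspecial group `Q`, `|G : C(z)|` odd and `L` with self-normalizing
Sylow 2-subgroups: then `G` has self-normalizing Sylow 2-subgroups. -/
theorem selfN_of_large {G : Type*} [Group G] [Finite G] {Q : Subgroup G} {z : G} (hl : Large Q z)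
    (hodd : Odd (centralizer ({z} : Set G)).index) {L : Type*} [Group L]
    (π : ↥(centralizer ({z} : Set G)) →* L) (hπ : Function.Surjective π)
    (hk : ∀ c : ↥(centralizer ({z} : Set G)), π c = 1 ↔ (c : G) ∈ Q) (hL : SelfN L) : SelfN G := by
  have h2 : Fact (Nat.Prime 2) := ⟨Nat.prime_two⟩
  have hQ2 : IsPGroup 2 Q := Cfsg.Agent.LargeExtra.Base.isPGroup hl
  -- a Sylow subgroup in `C(z)`
  obtain ⟨P⟩ : Nonempty (Sylow 2 ↥(centralizer ({z} : Set G))) := inferInstance
  have h3 : ¬ 2 ∣ ((P : Subgroup ↥(centralizer ({z} : Set G))).map (centralizer ({z} : Set G)).subtype).index := by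
    rw [index_map_subtype]
    intro h
    rcases (Nat.prime_two.dvd_mul).1 h with h | h
    · exact P.not_dvd_index h
    · rw [← even_iff_two_dvd, ← Nat.not_odd_iff_even] at h
      exact h hodd
  obtain ⟨S, hSP⟩ : ∃ S : Sylow 2 G, (S : Subgroup G) =
      (P : Subgroup ↥(centralizer ({z} : Set G))).map (centralizer ({z} : Set G)).subtype :=
    ⟨(P.isPGroup'.map _).toSylow h3, rfl⟩
  have hSC : (S : Subgroup G) ≤ centralizer ({z} : Set G) := by
    rw [hSP]; exact map_subtype_le _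
  have hc : ∀ x ∈ (S : Subgroup G), x * z = z * x := fun x hx => mem_centralizer_singleton_iff.1 (hSC hx)
  have hQS : Q ≤ (S : Subgroup G) := by
    have hn : (S : Subgroup G) ≤ normalizer (Q : Set G) := by
      intro x hx
      have hx' : x⁻¹ * z = z * x⁻¹ := (Commute.inv_left (show Commute x z from hc x hx)).eq
      rw [mem_normalizer_iff]
      intro y
      constructor
      · exact hl.conj_mem x (hc x hx) y
      · intro hy
        have h4 := hl.conj_mem x⁻¹ hx' _ hy
        have e : x⁻¹ * (x * y * x⁻¹) * x⁻¹⁻¹ = y := by group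
        rwa [e] at h4
    have h8 : IsPGroup 2 ↥((S : Subgroup G) ⊔ Q) := S.isPGroup'.to_sup_of_normal_right' hQ2 hn
    have h9 := S.is_maximal' h8 le_sup_left
    rw [← h9]
    exact le_sup_right
  have hu : ∀ y ∈ (S : Subgroup G), (∀ x ∈ (S : Subgroup G), x * y = y * x) → y = 1 ∨ y = z := by
    intro y hy hyc
    have h4 : ∀ x ∈ Q, y * x = x * y := fun x hx => (hyc x (hQS hx)).symm
    exact hl.cent y (hl.self y (hc y hy) h4) h4
  refine SelfN.of_one S ?_
  intro g hg
  have hgz : g * z * g⁻¹ = z := by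
    have h1 : g * z * g⁻¹ ∈ (S : Subgroup G) := (mem_normalizer_iff.1 hg z).1 (hQS hl.z_mem)
    have h3 : ∀ x ∈ (S : Subgroup G), x * (g * z * g⁻¹) = (g * z * g⁻¹) * x := by
      intro x hx
      have h4 : g⁻¹ * x * g ∈ (S : Subgroup G) := by
        have := (mem_normalizer_iff.1 (inv_mem hg) x).1 hx
        simpa using this
      have h5 := hc _ h4
      calc x * (g * z * g⁻¹) = g * ((g⁻¹ * x * g) * z) * g⁻¹ := by group
        _ = g * (z * (g⁻¹ * x * g)) * g⁻¹ := by rw [h5]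
        _ = (g * z * g⁻¹) * x := by group
    rcases hu _ h1 h3 with h | h
    · exfalso
      apply hl.z_ne
      have : z = g⁻¹ * (g * z * g⁻¹) * g := by group
      rw [this, h]
      group
    · exact h
  have hgC : g ∈ centralizer ({z} : Set G) := by
    rw [mem_centralizer_singleton_iff]
    calc g * z = (g * z * g⁻¹) * g := by group
      _ = z * g := by rw [hgz]
  let T : Sylow 2 ↥(centralizer ({z} : Set G)) := S.subtype hSC
  let T' : Sylow 2 L := T.mapSurjective hπ
  have hT' : (T' : Subgroup L) = (T : Subgroup ↥(centralizer ({z} : Set G))).map π := rfl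
  have h6 : π ⟨g, hgC⟩ ∈ normalizer ((T' : Subgroup L) : Set L) := by
    rw [hT', mem_normalizer_iff]
    intro y
    constructor
    · rintro ⟨x, hx, rfl⟩
      refine ⟨⟨g, hgC⟩ * x * ⟨g, hgC⟩⁻¹, ?_, by simp⟩
      exact (mem_normalizer_iff.1 hg _).1 hx
    · rintro ⟨x, hx, hxy⟩
      refine ⟨⟨g, hgC⟩⁻¹ * x * ⟨g, hgC⟩, ?_, ?_⟩
      · have h7 := (mem_normalizer_iff.1 (inv_mem hg) (x : G)).1 hx
        rw [inv_inv] at h7
        exact h7
      · simp [hxy, mul_assoc]
  have h7 := hL T' h6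
  rw [hT'] at h7
  obtain ⟨c, hcT, hcg⟩ := h7
  have h8 : π (c⁻¹ * ⟨g, hgC⟩) = 1 := by rw [map_mul, map_inv, hcg, inv_mul_cancel]
  have h9 : ((c⁻¹ * ⟨g, hgC⟩ : ↥(centralizer ({z} : Set G))) : G) ∈ Q := (hk _).1 h8
  have h11 : (c : G) * ((c⁻¹ * ⟨g, hgC⟩ : ↥(centralizer ({z} : Set G))) : G) = g := by simp
  rw [← h11]
  exact mul_mem hcT (hQS h9)

/-- `F ≤ G` of odd index, `π : F → L` onto with kernel a 2-group, `N_G(T) ≤ F` for the Sylow 2-subgroups `T ≤ F`. -/
theorem selfN_of_hom {G : Type*} [Group G] [Finite G] (F : Subgroup G) (hodd : Odd F.index) {L : Type*} [Group L]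
    (π : ↥F →* L) (hπ : Function.Surjective π) (hk : IsPGroup 2 π.ker) (hL : SelfN L)
    (hN : ∀ S : Sylow 2 G, (S : Subgroup G) ≤ F → normalizer ((S : Subgroup G) : Set G) ≤ F) : SelfN G := by
  have h2 : Fact (Nat.Prime 2) := ⟨Nat.prime_two⟩
  obtain ⟨P⟩ : Nonempty (Sylow 2 ↥F) := inferInstance
  have h3 : ¬ 2 ∣ ((P : Subgroup ↥F).map F.subtype).index := by
    rw [index_map_subtype]
    intro h
    rcases (Nat.prime_two.dvd_mul).1 h with h | h
    · exact P.not_dvd_index h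
    · rw [← even_iff_two_dvd, ← Nat.not_odd_iff_even] at h
      exact h hodd
  obtain ⟨S, hSP⟩ : ∃ S : Sylow 2 G, (S : Subgroup G) = (P : Subgroup ↥F).map F.subtype :=
    ⟨(P.isPGroup'.map _).toSylow h3, rfl⟩
  have hSF : (S : Subgroup G) ≤ F := by
    rw [hSP]; exact map_subtype_le _
  refine SelfN.of_one S ?_
  intro g hg
  have hgF : g ∈ F := hN S hSF hg
  let T : Sylow 2 ↥F := S.subtype hSF
  have hker : π.ker ≤ (T : Subgroup ↥F) := by
    have h8 : IsPGroup 2 ↥((T : Subgroup ↥F) ⊔ π.ker) :=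
      T.isPGroup'.to_sup_of_normal_right' hk (by rw [normalizer_eq_top_iff.2 π.normal_ker]; exact le_top)
    have h9 := T.is_maximal' h8 le_sup_left
    rw [← h9]
    exact le_sup_right
  let T' : Sylow 2 L := T.mapSurjective hπ
  have hT' : (T' : Subgroup L) = (T : Subgroup ↥F).map π := rfl
  have h6 : π ⟨g, hgF⟩ ∈ normalizer ((T' : Subgroup L) : Set L) := by
    rw [hT', mem_normalizer_iff]
    intro y
    constructor
    · rintro ⟨x, hx, rfl⟩
      refine ⟨⟨g, hgF⟩ * x * ⟨g, hgF⟩⁻¹, ?_, by simp⟩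
      exact (mem_normalizer_iff.1 hg _).1 hx
    · rintro ⟨x, hx, hxy⟩
      refine ⟨⟨g, hgF⟩⁻¹ * x * ⟨g, hgF⟩, ?_, ?_⟩
      · have h7 := (mem_normalizer_iff.1 (inv_mem hg) (x : G)).1 hx
        rw [inv_inv] at h7
        exact h7
      · simp [hxy, mul_assoc]
  have h7 := hL T' h6
  rw [hT'] at h7
  obtain ⟨c, hcT, hcg⟩ := h7
  have h8 : π (c⁻¹ * ⟨g, hgF⟩) = 1 := by rw [map_mul, map_inv, hcg, inv_mul_cancel]
  have h9 : c⁻¹ * ⟨g, hgF⟩ ∈ (T : Subgroup ↥F) := hker h8
  have h10 := mul_mem hcT h9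
  rw [mul_inv_cancel_left] at h10
  exact h10

end Cfsg.Agent.H208.SelfLarge
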